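import Cfsg.Agent.StdAlt.Five.TwoQuot
import Cfsg.Agent.StdAlt.Five.Swap_m3
import Cfsg.Agent.StdAlt.CaseB
import Cfsg.Agent.Lib.PermCode
import Cfsg.Agent.FastGrp
import Cfsg.Agent.Prune
set_option linter.all false
open scoped Cfsg.Agent.FastGrp

-- part: StdAlt/Five/Facts
section
/-!
# Facts on the symmetric group of degree five, by enumeration
-/

set_option autoImplicit false

namespace Cfsg.Agent.StdAlt.Five

open Equiv

theorem fact_mul : ∀ i : Fin 5, ∀ x : A5, x * x = 1 → x.1 i = i → ∀ y : A5, y * y = 1 → y.1 i = i →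
    (x * y) * (x * y) = 1 := by (simp only [↓Cfsg.Agent.PermCode.M, Cfsg.Agent.PermCode.P5.R, Cfsg.Agent.PermCode.B]; decide +kernel)

theorem fact_cent : ∀ x : A5, x * x = 1 → x ≠ 1 → ∀ y : A5, x * y = y * x → y * y = 1 := by
  simp only [↓Cfsg.Agent.PermCode.M, Cfsg.Agent.PermCode.P5.R, Cfsg.Agent.PermCode.B]
  decide +kernel

/-- `C_{S_5}(V_i) = V_i` -/
theorem fact_centV : ∀ i : Fin 5, ∀ t : Perm (Fin 5),
    (∀ y : A5, y * y = 1 → y.1 i = i → t * y.1 = y.1 * t) →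
    t * t = 1 ∧ t i = i ∧ Perm.sign t = 1 := by (simp only [↓Cfsg.Agent.PermCode.M, Cfsg.Agent.PermCode.P5.R, Cfsg.Agent.PermCode.B]; decide +kernel)

theorem fact_card : ∀ i : Fin 5,
    Fintype.card {σ : Perm (Fin 5) // Perm.sign σ = 1 ∧ σ * σ = 1 ∧ σ i = i} = 4 := by (simp only [↓Cfsg.Agent.PermCode.M, Cfsg.Agent.PermCode.P5.R, Cfsg.Agent.PermCode.B]; decide +kernel)

/-- auxiliary predicate -/
def CP (s t x : Perm (Fin 5)) : Prop := (x * s = s * x ∧ x * t = t * x) → (x = 1 ∨ x = s ∨ x = t ∨ x = s * t)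

instance (s t x : Perm (Fin 5)) : Decidable (CP s t x) := by unfold CP; infer_instance

/-- auxiliary predicate -/
def CQ (s t : Perm (Fin 5)) : Prop := (t * t = 1 ∧ t ≠ 1 ∧ t ≠ s ∧ s * t = t * s) → ∀ x, CP s t x

instance (s t : Perm (Fin 5)) : Decidable (CQ s t) := by unfold CQ; infer_instance

theorem fact_four_aux : ∀ s : Perm (Fin 5), (s * s = 1 ∧ s ≠ 1) → ∀ t : Perm (Fin 5), CQ s t := by
  delta CP CQ
  simp only [↓Cfsg.Agent.PermCode.M, Cfsg.Agent.PermCode.P5.R, Cfsg.Agent.PermCode.B]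
  decide +kernel

/-- a four-group of `S_5` is its own centralizer -/
theorem fact_four {s t x : Perm (Fin 5)} (hss : s * s = 1) (hs : s ≠ 1) (htt : t * t = 1) (ht : t ≠ 1)
    (hts : t ≠ s) (hst : s * t = t * s) (hxs : x * s = s * x) (hxt : x * t = t * x) :
    x = 1 ∨ x = s ∨ x = t ∨ x = s * t :=
  fact_four_aux s ⟨hss, hs⟩ t ⟨htt, ht, hts, hst⟩ x ⟨hxs, hxt⟩

theorem fact_rho : ∀ i : Fin 5, ∀ y : A5, y * y = 1 → y ≠ 1 → y.1 i = i → ∀ v : A5, v * v = 1 →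
    v ≠ 1 → v ≠ y → v.1 i = i → ∃ r : A5, r.1 i = i ∧ r * v * r⁻¹ = v * y ∧ r * y * r⁻¹ = v := by
  simp only [↓Cfsg.Agent.PermCode.M, Cfsg.Agent.PermCode.P5.R, Cfsg.Agent.PermCode.B]
  decide +kernel

theorem fact_stab : ∀ i : Fin 5, ∀ x : A5, x.1 i = i → x * x = 1 ∨ x * x * x = 1 := by (simp only [↓Cfsg.Agent.PermCode.M, Cfsg.Agent.PermCode.P5.R, Cfsg.Agent.PermCode.B]; decide +kernel)

theorem fact_trans : ∀ i j k : Fin 5, j ≠ i → k ≠ i → ∃ s : A5, s.1 i = i ∧ s.1 j = k := by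
  simp only [↓Cfsg.Agent.PermCode.M, Cfsg.Agent.PermCode.P5.R, Cfsg.Agent.PermCode.B]
  decide +kernel

theorem fact_trans1 : ∀ i j : Fin 5, ∃ s : A5, s.1 i = j := by (simp only [↓Cfsg.Agent.PermCode.M, Cfsg.Agent.PermCode.P5.R, Cfsg.Agent.PermCode.B]; decide +kernel)

/-- an odd permutation fixing `j` times an element of the stabilizer of `j` is a transposition which commutes with
an even permutation moving `j` -/
theorem fact_odd : ∀ j : Fin 5, ∀ t : Perm (Fin 5), t j = j → Perm.sign t = -1 →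
    ∃ b : A5, b.1 j = j ∧ (b.1 * t) * (b.1 * t) = 1 ∧ b.1 * t ≠ 1 ∧
      ∃ c : A5, c.1 * (b.1 * t) = b.1 * t * c.1 ∧ c.1 j ≠ j := by (simp only [↓Cfsg.Agent.PermCode.M, Cfsg.Agent.PermCode.P5.R, Cfsg.Agent.PermCode.B]; decide +kernel)

/-- an element of order three of the stabilizer acts regularly on `V_i` -/
theorem fact_ord3 : ∀ i : Fin 5, ∃ r : A5, r.1 i = i ∧ r ^ 3 = 1 ∧
    ∀ v : A5, v * v = 1 → v.1 i = i → v ≠ 1 → r * v * r⁻¹ ≠ v := by (simp only [↓Cfsg.Agent.PermCode.M, Cfsg.Agent.PermCode.P5.R, Cfsg.Agent.PermCode.B]; decide +kernel)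

theorem fact_kl : ∀ i : Fin 5, ∃ x : A5, x * x = 1 ∧ x.1 i = i ∧ x ≠ 1 := by (simp only [↓Cfsg.Agent.PermCode.M, Cfsg.Agent.PermCode.P5.R, Cfsg.Agent.PermCode.B]; decide +kernel)

theorem fact_kl2 : ∀ i : Fin 5, ∀ y : A5, y * y = 1 → y ≠ 1 → y.1 i = i →
    ∃ v : A5, v * v = 1 ∧ v ≠ 1 ∧ v ≠ y ∧ v.1 i = i := by (simp only [↓Cfsg.Agent.PermCode.M, Cfsg.Agent.PermCode.P5.R, Cfsg.Agent.PermCode.B]; decide +kernel)

theorem fact_conj : ∀ x : A5, x * x = 1 → x ≠ 1 → ∀ y : A5, y * y = 1 → y ≠ 1 →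
    ∃ r : A5, r * x * r⁻¹ = y := by (simp only [↓Cfsg.Agent.PermCode.M, Cfsg.Agent.PermCode.P5.R, Cfsg.Agent.PermCode.B]; decide +kernel)

end Cfsg.Agent.StdAlt.Five
end

-- part: StdAlt/Five/Pair
section
/-!
# Pairs of conjugates of a standard subgroup isomorphic to `A_5`
-/

set_option autoImplicit false
set_option linter.unusedSectionVars false

namespace Cfsg.Agent.StdAlt.Five

open Subgroup Equiv Cfsg.Agent.StdAlt.Conj Cfsg.Agent.StdAlt.Pairs Cfsg.Agent.StdAlt.First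

variable {G : Type*} [Group G] {A B : Subgroup G}

/-- value of the labelling on `A` as an element of `A5` -/
def Lab.ev (L : Lab A (Fin 5)) {a : G} (ha : a ∈ A) : A5 := ⟨L.φ a, L.even a ha⟩

theorem Lab.ev_val (L : Lab A (Fin 5)) {a : G} (ha : a ∈ A) : (Lab.ev L ha).1 = L.φ a := rfl

theorem Lab.ev_mul (L : Lab A (Fin 5)) {a b : G} (ha : a ∈ A) (hb : b ∈ A) :
    Lab.ev L (mul_mem ha hb) = Lab.ev L ha * Lab.ev L hb :=
  Subtype.ext (L.mul a b (le_N ha) (le_N hb))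

theorem Lab.ev_eq_one (L : Lab A (Fin 5)) (hA : TE A) {a : G} (ha : a ∈ A) :
    Lab.ev L ha = 1 ↔ a = 1 := by
  constructor
  · intro h
    exact L.eq_one hA ha (congrArg Subtype.val h)
  · rintro rfl
    exact Subtype.ext L.one

theorem Lab.ev_sq (L : Lab A (Fin 5)) (hA : TE A) {a : G} (ha : a ∈ A) :
    Lab.ev L ha * Lab.ev L ha = 1 ↔ a * a = 1 := by
  rw [← Lab.ev_mul, Lab.ev_eq_one L hA]

theorem Lab.ev_comm (L : Lab A (Fin 5)) (hA : TE A) {a b : G} (ha : a ∈ A) (hb : b ∈ A) :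
    Lab.ev L ha * Lab.ev L hb = Lab.ev L hb * Lab.ev L ha ↔ a * b = b * a := by
  constructor
  · intro h
    exact L.comm_of hA ha (le_N hb) (congrArg Subtype.val h)
  · intro h
    exact Subtype.ext (L.comm' (le_N ha) (le_N hb) h)

theorem Lab.exists_ev (L : Lab A (Fin 5)) (x : A5) : ∃ (a : G) (ha : a ∈ A), Lab.ev L ha = x := by
  obtain ⟨a, ha, h⟩ := L.lift x.1 x.2
  exact ⟨a, ha, Subtype.ext h⟩

theorem mem_alt_iff {σ : Perm (Fin 5)} : σ ∈ alternatingGroup (Fin 5) ↔ Perm.sign σ = 1 :=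
  Perm.mem_alternatingGroup

/-- the four-group of `A` fixing the point `i` -/
def Kl (L : Lab A (Fin 5)) (hA : TE A) (i : Fin 5) : Subgroup G where
  carrier := {a | a ∈ A ∧ a * a = 1 ∧ L.φ a i = i}
  one_mem' := ⟨one_mem _, one_mul _, by rw [L.one]; rfl⟩
  mul_mem' := by
    rintro a b ⟨ha, haa, hai⟩ ⟨hb, hbb, hbi⟩
    have h := fact_mul i (Lab.ev L ha) ((Lab.ev_sq L hA ha).2 haa) hai (Lab.ev L hb)
      ((Lab.ev_sq L hA hb).2 hbb) hbi
    rw [← Lab.ev_mul, Lab.ev_sq L hA] at h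
    refine ⟨mul_mem ha hb, h, ?_⟩
    rw [L.mul _ _ (le_N ha) (le_N hb), Perm.mul_apply, hbi, hai]
  inv_mem' := by
    rintro a ⟨ha, haa, hai⟩
    have : a⁻¹ = a := inv_eq_of_mul_eq_one_left haa
    rw [Set.mem_ofPred_eq, this]
    exact ⟨ha, haa, hai⟩

theorem mem_Kl {L : Lab A (Fin 5)} {hA : TE A} {i : Fin 5} {a : G} :
    a ∈ Kl L hA i ↔ a ∈ A ∧ a * a = 1 ∧ L.φ a i = i := Iff.rfl

theorem Kl_comm {L : Lab A (Fin 5)} {hA : TE A} {i : Fin 5} {a b : G} (ha : a ∈ Kl L hA i)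
    (hb : b ∈ Kl L hA i) : a * b = b * a := by
  have h := (mem_Kl.1 (mul_mem ha hb)).2.1
  have h1 : a * b = (a * b)⁻¹ := eq_inv_of_mul_eq_one_left h
  have ha' : a⁻¹ = a := inv_eq_of_mul_eq_one_left (mem_Kl.1 ha).2.1
  have hb' : b⁻¹ = b := inv_eq_of_mul_eq_one_left (mem_Kl.1 hb).2.1
  rw [mul_inv_rev, ha', hb'] at h1
  exact h1

/-- the image of `Kl` -/
abbrev KV (i : Fin 5) := {σ : Perm (Fin 5) // Perm.sign σ = 1 ∧ σ * σ = 1 ∧ σ i = i}

theorem card_KV (i : Fin 5) : Nat.card (KV i) = 4 := by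
  rw [Nat.card_eq_fintype_card, fact_card]

theorem card_Kl (L : Lab A (Fin 5)) (hA : TE A) (i : Fin 5) : Nat.card (Kl L hA i) = 4 := by
  let f : Kl L hA i → KV i := fun a => ⟨L.φ a, mem_alt_iff.1 (L.even a a.2.1), by
    rw [← L.mul _ _ (le_N a.2.1) (le_N a.2.1), a.2.2.1, L.one], a.2.2.2⟩
  have hf : Function.Bijective f := by
    constructor
    · intro a b hab
      exact Subtype.ext (L.inj hA a.2.1 b.2.1 (congrArg Subtype.val hab))
    · rintro ⟨σ, h1, h2, h3⟩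
      obtain ⟨a, ha, rfl⟩ := L.lift σ (mem_alt_iff.2 h1)
      refine ⟨⟨a, ha, ?_, h3⟩, rfl⟩
      apply L.eq_one hA (mul_mem ha ha)
      rw [L.mul _ _ (le_N ha) (le_N ha), h2]
  rw [Nat.card_congr (Equiv.ofBijective f hf), card_KV]

theorem comm_of_card_four {T : Subgroup G} (h : Nat.card T = 4) {x y : G} (hx : x ∈ T)
    (hy : y ∈ T) : x * y = y * x := by
  have : Fact (Nat.Prime 2) := ⟨Nat.prime_two⟩
  have := IsPGroup.isMulCommutative_of_card_eq_prime_sq (p := 2) (G := T) (by rw [h]; norm_num)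
  exact congrArg Subtype.val (mul_comm' (⟨x, hx⟩ : T) ⟨y, hy⟩)

theorem isPGroup_four {T : Subgroup G} (h : Nat.card T = 4) : IsPGroup 2 T :=
  IsPGroup.of_card (n := 2) (by rw [h]; norm_num)

theorem eq_one_of_pgroup [Finite G] {Q : Subgroup G} (hQ : IsPGroup 2 Q) {x : G} (hx : x ∈ Q)
    (hodd : Odd (orderOf x)) : x = 1 := by
  obtain ⟨k, hk⟩ := hQ ⟨x, hx⟩
  have h1 : x ^ 2 ^ k = 1 := congrArg Subtype.val hk
  have h2 := orderOf_dvd_of_pow_eq_one h1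
  have h3 : Nat.Coprime (orderOf x) (2 ^ k) := (Nat.coprime_two_right.2 hodd).pow_right k
  exact orderOf_eq_one_iff.1 (Nat.eq_one_of_dvd_coprimes h3 dvd_rfl h2)

/-- a 2-element centralizing two different conjugates is trivial -/
theorem eq_one_of_CC [Finite G] (hA : TE A) (hB : Cj A B) (hne : A ≠ B) {Q : Subgroup G}
    (hQ : IsPGroup 2 Q) {x : G} (hx : x ∈ Q) (h1 : x ∈ C A) (h2 : x ∈ C B) : x = 1 :=
  eq_one_of_pgroup hQ hx (odd_orderOf hA hB hne h1 h2)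

/-- **(P-odd)** -/
theorem odd_pair [Finite G] (L : Lab A (Fin 5)) (hA : TE A) (hB : Cj A B) (hne : A ≠ B)
    (hno : ∀ a ∈ A, a ∈ C B → a * a = 1 → a = 1) {T : Subgroup G} (hTB : T ≤ C B) (hTA : T ≤ N A)
    (hT4 : Nat.card T = 4) :
    ∃ i, (∀ t ∈ T, t * t = 1 ∧ L.φ t i = i ∧ L.φ t ∈ alternatingGroup (Fin 5)) ∧
      (∀ a ∈ Kl L hA i, ∃ t ∈ T, L.φ t = L.φ a) := by
  have hTp := isPGroup_four hT4
  have hinj : ∀ t ∈ T, L.φ t = 1 → t = 1 := fun t ht h =>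
    eq_one_of_CC hA hB hne hTp ht ((L.ker t (hTA ht)).1 h) (hTB ht)
  have hBt : TE B := hA.of_cj hB
  -- an even involution
  obtain ⟨x, hxT, hx1, hxx, hxe⟩ : ∃ x ∈ T, x ≠ 1 ∧ x * x = 1 ∧ Perm.sign (L.φ x) = 1 := by
    by_cases hsq : ∀ t ∈ T, t * t = 1
    · -- elementary abelian
      have h1 : ∃ t ∈ T, t ≠ 1 := by
        by_contra hcon
        push Not at hcon
        have : T = ⊥ := (eq_bot_iff_forall T).2 hcon
        rw [this, card_bot] at hT4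
        exact absurd hT4 (by norm_num)
      obtain ⟨t, ht, ht1⟩ := h1
      have h2 : ∃ s ∈ T, s ≠ 1 ∧ s ≠ t := by
        by_contra hcon
        push Not at hcon
        have hle : T ≤ zpowers t := by
          intro s hs
          by_cases h : s = 1
          · rw [h]; exact one_mem _
          · rw [hcon s hs h]; exact mem_zpowers t
        have h3 := card_dvd_of_le hle
        rw [hT4, Nat.card_zpowers] at h3
        have h4 : orderOf t ∣ 2 := orderOf_dvd_of_pow_eq_one (by rw [sq, hsq t ht])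
        exact absurd (h3.trans h4) (by norm_num)
      obtain ⟨s, hs, hs1, hst⟩ := h2
      rcases Int.units_eq_one_or (Perm.sign (L.φ t)) with h3 | h3
      · exact ⟨t, ht, ht1, hsq t ht, h3⟩
      rcases Int.units_eq_one_or (Perm.sign (L.φ s)) with h4 | h4
      · exact ⟨s, hs, hs1, hsq s hs, h4⟩
      refine ⟨s * t, mul_mem hs ht, ?_, hsq _ (mul_mem hs ht), ?_⟩
      · intro e
        apply hst
        rw [eq_inv_of_mul_eq_one_left e]
        exact inv_eq_of_mul_eq_one_left (hsq t ht)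
      · rw [L.mul _ _ (hTA hs) (hTA ht), Perm.sign_mul, h3, h4]; decide
    · push Not at hsq
      obtain ⟨t, ht, ht2⟩ := hsq
      refine ⟨t * t, mul_mem ht ht, ht2, ?_, ?_⟩
      · have h1 : (⟨t, ht⟩ : T) ^ Nat.card T = 1 := pow_card_eq_one'
        rw [hT4] at h1
        have h2 : t ^ 4 = 1 := congrArg Subtype.val h1
        rw [← h2, pow_succ, pow_succ, pow_succ, pow_one]; group
      · rw [L.mul _ _ (hTA ht) (hTA ht), Perm.sign_mul]
        rcases Int.units_eq_one_or (Perm.sign (L.φ t)) with h3 | h3 <;> rw [h3] <;> decide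
  -- its fixed point
  set X : A5 := ⟨L.φ x, mem_alt_iff.2 hxe⟩ with hX
  have hXX : X * X = 1 := by
    apply Subtype.ext
    show L.φ x * L.φ x = 1
    rw [← L.mul _ _ (hTA hxT) (hTA hxT), hxx, L.one]
  have hX1 : X ≠ 1 := fun h => hx1 (hinj x hxT (congrArg Subtype.val h))
  obtain ⟨i, hi⟩ := exists_fix X hXX hX1
  have hfix : ∀ t ∈ T, L.φ t i = i := by
    intro t ht
    have h1 : L.φ t * L.φ x = L.φ x * L.φ t :=
      L.comm' (hTA ht) (hTA hxT) (comm_of_card_four hT4 ht hxT)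
    apply fix_unique X hXX hX1 _ _ _ hi
    show L.φ x (L.φ t i) = L.φ t i
    rw [← Perm.mul_apply, ← h1, Perm.mul_apply]
    exact congrArg _ hi
  have hcent : ∀ t ∈ T, ∀ y : A5, y * y = 1 → y.1 i = i → L.φ t * y.1 = y.1 * L.φ t := by
    intro t ht y hyy hyi
    obtain ⟨a, ha, rfl⟩ := Lab.exists_ev L y
    rw [Lab.ev_val] at hyi ⊢
    by_cases ha1 : a = 1
    · rw [ha1, L.one, mul_one, one_mul]
    have haa : a * a = 1 := (Lab.ev_sq L hA ha).1 hyy
    have hy1 : Lab.ev L ha ≠ 1 := fun h => ha1 ((Lab.ev_eq_one L hA ha).1 h)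
    have h1 : a * x = x * a := by
      apply L.comm_of hA ha (hTA hxT)
      exact congrArg Subtype.val (comm_of_fix _ hyy hy1 X hXX hX1 i hyi hi)
    have haB : a ∈ N B := hBt.nrm (hTB hxT) hx1 hxx h1
    -- the commutator
    have h2 : t * a⁻¹ * t⁻¹ ∈ A := conj_mem (hTA ht) (inv_mem ha)
    have h3 : a * (t * a⁻¹ * t⁻¹) ∈ A := mul_mem ha h2
    have h4 : a * (t * a⁻¹ * t⁻¹) ∈ C B := by
      rw [show a * (t * a⁻¹ * t⁻¹) = (a * t * a⁻¹) * t⁻¹ by group]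
      exact mul_mem (conj_mem_C haB (hTB ht)) (inv_mem (hTB ht))
    have h5 : a * (t * a⁻¹ * t⁻¹) ∈ Kl L hA i := by
      refine mul_mem (mem_Kl.2 ⟨ha, haa, hyi⟩) (mem_Kl.2 ⟨h2, ?_, ?_⟩)
      · rw [show t * a⁻¹ * t⁻¹ * (t * a⁻¹ * t⁻¹) = t * (a * a)⁻¹ * t⁻¹ by group, haa]; group
      · have h6 := hfix t ht
        have h7 : (L.φ t)⁻¹ i = i := by
          rw [Perm.inv_eq_iff_eq]; exact h6.symm
        have h8 : (L.φ a)⁻¹ i = i := by
          rw [Perm.inv_eq_iff_eq]; exact hyi.symm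
        rw [L.conj (hTA ht) (inv_mem (le_N ha)), L.inv (le_N ha), Perm.mul_apply, Perm.mul_apply,
          h7, h8, h6]
    have h6 := hno _ h3 h4 (mem_Kl.1 h5).2.1
    have h7 : a * t = t * a := by
      have h8 : a * (t * a⁻¹ * t⁻¹) * (t * a) = t * a := by rw [h6, one_mul]
      rw [← h8]; group
    exact L.comm' (hTA ht) (le_N ha) h7.symm
  have hall : ∀ t ∈ T, t * t = 1 ∧ L.φ t i = i ∧ Perm.sign (L.φ t) = 1 := by
    intro t ht
    obtain ⟨h1, h2, h3⟩ := fact_centV i (L.φ t) (hcent t ht)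
    refine ⟨?_, h2, h3⟩
    apply hinj _ (mul_mem ht ht)
    rw [L.mul _ _ (hTA ht) (hTA ht), h1]
  refine ⟨i, fun t ht => ⟨(hall t ht).1, (hall t ht).2.1, mem_alt_iff.2 (hall t ht).2.2⟩, ?_⟩
  -- surjectivity
  let f : T → KV i := fun t => ⟨L.φ t, (hall t t.2).2.2, by
    rw [← L.mul _ _ (hTA t.2) (hTA t.2), (hall t t.2).1, L.one], (hall t t.2).2.1⟩
  have hf : Function.Injective f := by
    intro s t hst
    have h1 : L.φ s = L.φ t := congrArg Subtype.val hst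
    have h2 : L.φ (s * (t : G)⁻¹) = 1 := by
      rw [L.mul _ _ (hTA s.2) (inv_mem (hTA t.2)), L.inv (hTA t.2), h1, mul_inv_cancel]
    exact Subtype.ext (mul_inv_eq_one.1 (hinj _ (mul_mem s.2 (inv_mem t.2)) h2))
  have hb : Function.Bijective f := by
    refine hf.bijective_of_nat_card_le ?_
    rw [card_KV, hT4]
  intro a ha
  obtain ⟨ha1, ha2, ha3⟩ := mem_Kl.1 ha
  obtain ⟨t, ht⟩ := hb.2 ⟨L.φ a, mem_alt_iff.1 (L.even a ha1), by
    rw [← L.mul _ _ (le_N ha1) (le_N ha1), ha2, L.one], ha3⟩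
  exact ⟨t, t.2, congrArg Subtype.val ht⟩

end Cfsg.Agent.StdAlt.Five
end

-- part: StdAlt/Five/MkOdd
section
/-!
# The odd configuration
-/

set_option autoImplicit false
set_option linter.unusedSectionVars false

namespace Cfsg.Agent.StdAlt.Five

open Subgroup Equiv Cfsg.Agent.StdAlt.Conj Cfsg.Agent.StdAlt.Pairs Cfsg.Agent.StdAlt.First

variable {G : Type*} [Group G] {A B : Subgroup G}

theorem Lab.ev_inj (L : Lab A (Fin 5)) (hA : TE A) {a b : G} (ha : a ∈ A) (hb : b ∈ A)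
    (h : Lab.ev L ha = Lab.ev L hb) : a = b := L.inj hA ha hb (congrArg Subtype.val h)

/-- data of an odd pair -/
structure OddP (L : Lab A (Fin 5)) (hA : TE A) (B T : Subgroup G) (i : Fin 5) (R : Subgroup G) : Prop where
  sqT : ∀ t ∈ T, t * t = 1
  fixT : ∀ t ∈ T, L.φ t i = i
  le : R ≤ C A
  card : Nat.card R = 4
  commT : ∀ t ∈ T, ∀ a ∈ Kl L hA i, t * a = a * t
  up : ∀ t ∈ T, ∃ a ∈ Kl L hA i, L.φ t = L.φ a ∧ t * a ∈ R
  dn : ∀ r ∈ R, ∃ t ∈ T, ∃ a ∈ Kl L hA i, r = t * a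
  surj : ∀ a ∈ Kl L hA i, ∃ t ∈ T, L.φ t = L.φ a ∧ t * a ∈ R

theorem exists_oddP [Finite G] (L : Lab A (Fin 5)) (hA : TE A) (hB : Cj A B) (hne : A ≠ B)
    (hno : ∀ a ∈ A, a ∈ C B → a * a = 1 → a = 1) {T : Subgroup G} (hTB : T ≤ C B) (hTA : T ≤ N A)
    (hT4 : Nat.card T = 4) : ∃ i R, OddP L hA B T i R := by
  classical
  obtain ⟨i, hi, hsurj⟩ := odd_pair L hA hB hne hno hTB hTA hT4
  have hlift : ∀ t : T, ∃ a ∈ A, L.φ a = L.φ t := fun t => L.lift _ (hi t t.2).2.2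
  choose b hbA hbφ using hlift
  have hbK : ∀ t : T, b t ∈ Kl L hA i := by
    intro t
    refine mem_Kl.2 ⟨hbA t, ?_, by rw [hbφ]; exact (hi t t.2).2.1⟩
    apply L.eq_one hA (mul_mem (hbA t) (hbA t))
    rw [L.mul _ _ (le_N (hbA t)) (le_N (hbA t)), hbφ, ← L.mul _ _ (hTA t.2) (hTA t.2), (hi t t.2).1,
      L.one]
  have hcomm : ∀ t ∈ T, ∀ a ∈ Kl L hA i, t * a = a * t := by
    intro t ht a ha
    refine (L.comm_of hA (mem_Kl.1 ha).1 (hTA ht) ?_).symm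
    rw [show L.φ t = L.φ (b ⟨t, ht⟩) from (hbφ ⟨t, ht⟩).symm]
    exact L.comm' (le_N (mem_Kl.1 ha).1) (le_N (hbA _)) (Kl_comm ha (hbK _))
  have hbm : ∀ s t : T, b (s * t) = b s * b t := by
    intro s t
    apply L.inj hA (hbA _) (mul_mem (hbA s) (hbA t))
    rw [hbφ, L.mul _ _ (le_N (hbA s)) (le_N (hbA t)), hbφ, hbφ, ← L.mul _ _ (hTA s.2) (hTA t.2)]
    rfl
  let f : T →* G :=
    { toFun := fun t => t * b t
      map_one' := by
        show ((1 : T) : G) * b 1 = 1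
        have h1 : b 1 = 1 := L.eq_one hA (hbA 1) (by rw [hbφ]; exact L.one)
        rw [h1, mul_one]; rfl
      map_mul' := by
        intro s t
        show (s : G) * t * b (s * t) = s * b s * (t * b t)
        rw [hbm, mul_assoc, ← mul_assoc (t : G) (b s), hcomm t t.2 _ (hbK s)]
        simp only [mul_assoc] }
  have hf1 : ∀ t : T, f t = 1 → t = 1 := by
    intro t ht
    have h1 : (t : G) * b t = 1 := ht
    have h2 : b t = (t : G)⁻¹ := eq_inv_of_mul_eq_one_right h1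
    have h3 : b t = 1 := hno _ (hbA t) (by rw [h2]; exact inv_mem (hTB t.2)) (mem_Kl.1 (hbK t)).2.1
    rw [h3] at h2
    exact Subtype.ext (inv_eq_one.1 h2.symm)
  have hfinj : Function.Injective f := (injective_iff_map_eq_one f).2 hf1
  have hfC : ∀ t : T, f t ∈ C A := by
    intro t
    show (t : G) * b t ∈ C A
    rw [← L.ker _ (mul_mem (hTA t.2) (le_N (hbA t))), L.mul _ _ (hTA t.2) (le_N (hbA t)), hbφ,
      ← L.mul _ _ (hTA t.2) (hTA t.2), (hi t t.2).1, L.one]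
  refine ⟨i, f.range, ⟨fun t ht => (hi t ht).1, fun t ht => (hi t ht).2.1, ?_, ?_, hcomm, ?_, ?_, ?_⟩⟩
  · rintro _ ⟨t, rfl⟩
    exact hfC t
  · rw [← hT4]
    exact (Nat.card_congr (MonoidHom.ofInjective hfinj).toEquiv).symm
  · intro t ht
    exact ⟨b ⟨t, ht⟩, hbK _, (hbφ ⟨t, ht⟩).symm, ⟨⟨t, ht⟩, rfl⟩⟩
  · rintro _ ⟨t, rfl⟩
    exact ⟨t, t.2, b t, hbK t, rfl⟩
  · intro a ha
    obtain ⟨t, ht, hta⟩ := hsurj a ha
    refine ⟨t, ht, hta, ⟨⟨t, ht⟩, ?_⟩⟩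
    have : b ⟨t, ht⟩ = a := L.inj hA (hbA _) (mem_Kl.1 ha).1 (by rw [hbφ]; exact hta)
    show t * b ⟨t, ht⟩ = t * a
    rw [this]

/-- the centralizer of an involution of `R` in `C A` -/
theorem cent_le [Finite G] (L' : Lab B (Fin 5)) (hA : TE A) (hB : Cj A B) (hne : A ≠ B)
    (hno : ∀ b ∈ B, b ∈ C A → b * b = 1 → b = 1) {R : Subgroup G} (hRA : R ≤ C A) (hRB : R ≤ N B)
    (hR4 : Nat.card R = 4) {n r : G} (hnA : n ∈ C A) (hnB : n ∈ N B) (hr : r ∈ R) (hr1 : r ≠ 1)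
    (hnr : n * r = r * n) : ∃ r' ∈ R, n * r' ∈ C B := by
  have hBt : TE B := hA.of_cj hB
  obtain ⟨j, hj, hsurj⟩ := odd_pair L' hBt hB.symm (Ne.symm hne) hno hRA hRB hR4
  obtain ⟨hrr, hrj, hre⟩ := hj r hr
  have hrφ : L'.φ r ≠ 1 := by
    intro h
    exact hne (hA.eq_of_mem hB hr1 hrr (hRA hr) ((L'.ker r (hRB hr)).1 h))
  set X : A5 := ⟨L'.φ r, hre⟩ with hX
  have hXX : X * X = 1 := by
    apply Subtype.ext
    show L'.φ r * L'.φ r = 1
    rw [← L'.mul _ _ (hRB hr) (hRB hr), hrr, L'.one]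
  have hX1 : X ≠ 1 := fun h => hrφ (congrArg Subtype.val h)
  have hnj : L'.φ n j = j := by
    have h1 := L'.comm' hnB (hRB hr) hnr
    apply fix_unique X hXX hX1 _ _ _ hrj
    show L'.φ r (L'.φ n j) = L'.φ n j
    rw [← Perm.mul_apply, ← h1, Perm.mul_apply, hrj]
  have hcent : ∀ y : A5, y * y = 1 → y.1 j = j → L'.φ n * y.1 = y.1 * L'.φ n := by
    intro y hyy hyj
    obtain ⟨b, hb, rfl⟩ := Lab.exists_ev L' y
    rw [Lab.ev_val] at hyj ⊢
    by_cases hb1 : b = 1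
    · rw [hb1, L'.one, mul_one, one_mul]
    have hbb : b * b = 1 := (Lab.ev_sq L' hBt hb).1 hyy
    have hy1 : Lab.ev L' hb ≠ 1 := fun h => hb1 ((Lab.ev_eq_one L' hBt hb).1 h)
    have h1 : b * r = r * b := by
      apply L'.comm_of hBt hb (hRB hr)
      exact congrArg Subtype.val (comm_of_fix _ hyy hy1 X hXX hX1 j hyj hrj)
    have hbA : b ∈ N A := hA.nrm (hRA hr) hr1 hrr h1
    have h2 : n * b⁻¹ * n⁻¹ ∈ B := conj_mem hnB (inv_mem hb)
    have h3 : b * (n * b⁻¹ * n⁻¹) ∈ B := mul_mem hb h2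
    have h4 : b * (n * b⁻¹ * n⁻¹) ∈ C A := by
      rw [show b * (n * b⁻¹ * n⁻¹) = (b * n * b⁻¹) * n⁻¹ by group]
      exact mul_mem (conj_mem_C hbA hnA) (inv_mem hnA)
    have h5 : b * (n * b⁻¹ * n⁻¹) ∈ Kl L' hBt j := by
      refine mul_mem (mem_Kl.2 ⟨hb, hbb, hyj⟩) (mem_Kl.2 ⟨h2, ?_, ?_⟩)
      · rw [show n * b⁻¹ * n⁻¹ * (n * b⁻¹ * n⁻¹) = n * (b * b)⁻¹ * n⁻¹ by group, hbb]; group
      · have h7 : (L'.φ n)⁻¹ j = j := by
          rw [Perm.inv_eq_iff_eq]; exact hnj.symm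
        have h8 : (L'.φ b)⁻¹ j = j := by
          rw [Perm.inv_eq_iff_eq]; exact hyj.symm
        rw [L'.conj hnB (inv_mem (le_N hb)), L'.inv (le_N hb), Perm.mul_apply, Perm.mul_apply,
          h7, h8, hnj]
    have h6 := hno _ h3 h4 (mem_Kl.1 h5).2.1
    have h7 : b * n = n * b := by
      have h8 : b * (n * b⁻¹ * n⁻¹) * (n * b) = n * b := by rw [h6, one_mul]
      rw [← h8]; group
    exact L'.comm' hnB (le_N hb) h7.symm
  obtain ⟨h1, h2, h3⟩ := fact_centV j (L'.φ n) hcent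
  obtain ⟨b, hb, hbn⟩ := L'.lift (L'.φ n) (mem_alt_iff.2 h3)
  have hbK : b ∈ Kl L' hBt j := by
    refine mem_Kl.2 ⟨hb, ?_, by rw [hbn]; exact h2⟩
    apply L'.eq_one hBt (mul_mem hb hb)
    rw [L'.mul _ _ (le_N hb) (le_N hb), hbn, h1]
  obtain ⟨r', hr', hr'b⟩ := hsurj b hbK
  refine ⟨r', hr', ?_⟩
  rw [← L'.ker _ (mul_mem hnB (hRB hr')), L'.mul _ _ hnB (hRB hr'), hr'b, hbn, h1]

/-- `R` is a Sylow 2-subgroup of `C A` -/
theorem not_eight [Finite G] (L' : Lab B (Fin 5)) (hA : TE A) (hB : Cj A B) (hne : A ≠ B)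
    (hno : ∀ b ∈ B, b ∈ C A → b * b = 1 → b = 1) {R : Subgroup G} (hRA : R ≤ C A) (hRB : R ≤ N B)
    (hR4 : Nat.card R = 4) (hcent : ∀ n ∈ C A, ∀ r ∈ R, r ≠ 1 → n * r = r * n → n ∈ N B) :
    ¬ 8 ∣ Nat.card (C A) := by
  intro h8
  obtain ⟨Q, hQ, hRQ, hQA, hdiv⟩ := exists_two_subgroup (C A) R (isPGroup_four hR4) hRA
  have hQ8 : 8 ∣ Nat.card Q := hdiv 3 (by rw [show 2 ^ 3 = 8 by norm_num]; exact h8)
  have hneQ : R ≠ Q := by
    rintro rfl
    rw [hR4] at hQ8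
    exact absurd hQ8 (by norm_num)
  obtain ⟨c, hcQ, hcR, hcn⟩ := exists_normalizing Q R hQ hRQ hneQ
  have hPle : R ⊔ zpowers c ≤ Q := sup_le hRQ (by rwa [zpowers_le])
  have hP2 : IsPGroup 2 ↥(R ⊔ zpowers c) := hQ.to_le hPle
  have hPN : R ⊔ zpowers c ≤ N R := sup_le le_normalizer (by
    rw [zpowers_le]; exact mem_N_of hcn)
  have hR1 : R ≠ ⊥ := by
    intro h
    rw [h, card_bot] at hR4
    exact absurd hR4 (by norm_num)
  obtain ⟨r, hr, hr1, hrr, hrc⟩ := exists_comm_inv hP2 le_sup_left hR1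
    (fun x hx r hr => conj_mem (hPN hx) hr)
  have hcr : c * r = r * c := hrc c ((le_sup_right : zpowers c ≤ _) (mem_zpowers c))
  have hcB := hcent c (hQA hcQ) r hr hr1 hcr
  obtain ⟨r', hr', h⟩ := cent_le L' hA hB hne hno hRA hRB hR4 (hQA hcQ) hcB hr hr1 hcr
  have h1 := eq_one_of_CC hA hB hne hQ (mul_mem hcQ (hRQ hr')) (mul_mem (hQA hcQ) (hRA hr')) h
  apply hcR
  rw [eq_inv_of_mul_eq_one_left h1]
  exact inv_mem hr'

theorem exists_card_four [Finite G] {H : Subgroup G} (h : 4 ∣ Nat.card H) :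
    ∃ T : Subgroup G, T ≤ H ∧ Nat.card T = 4 := by
  have : Fact (Nat.Prime 2) := ⟨Nat.prime_two⟩
  obtain ⟨K, hK⟩ := Sylow.exists_subgroup_card_pow_prime 2 (n := 2) (G := H) (by simpa using h)
  refine ⟨K.map H.subtype, ?_, ?_⟩
  · rintro _ ⟨x, -, rfl⟩
    exact x.2
  · rw [← Nat.card_congr (K.equivMapOfInjective H.subtype H.subtype_injective).toEquiv, hK]
    norm_num

/-- the configuration for an odd pair -/
theorem exists_oddE [Finite G] (L : Lab A (Fin 5)) (hA : TE A) (hgood : Good A)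
    (nK : ∀ x : G, ∀ a ∈ A, a ≠ 1 → a * a = 1 → x * a * x⁻¹ ∉ C A) :
    ∃ (i : Fin 5) (R : Subgroup G) (ρ g : G), OddE A R (Kl L hA i) ρ g := by
  obtain ⟨B, hB, hne, h4⟩ := hgood
  have hBt : TE B := hA.of_cj hB
  obtain ⟨h, rfl⟩ := hB.exists_eq
  set L' := L.cj h with hL'
  have noA : ∀ a ∈ A, a ∈ C (Conj.cj h A) → a * a = 1 → a = 1 := by
    intro a ha haB haa
    by_contra ha1
    apply nK h⁻¹ a ha ha1 haa
    rw [inv_inv]; exact mem_C_cj.1 haB
  have noB : ∀ b ∈ Conj.cj h A, b ∈ C A → b * b = 1 → b = 1 := by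
    intro b hb hbA hbb
    by_contra hb1
    rw [mem_cj] at hb
    apply nK h (h⁻¹ * b * h) hb
    · intro e
      apply hb1
      rw [show b = h * (h⁻¹ * b * h) * h⁻¹ by group, e]; group
    · rw [show h⁻¹ * b * h * (h⁻¹ * b * h) = h⁻¹ * (b * b) * h by group, hbb]; group
    · rw [show h * (h⁻¹ * b * h) * h⁻¹ = b by group]; exact hbA
  obtain ⟨T, hT, hT4⟩ := exists_card_four h4
  have hTA : T ≤ C A := hT.trans inf_le_left
  have hTB : T ≤ N (Conj.cj h A) := hT.trans inf_le_right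
  obtain ⟨j, T', P⟩ := exists_oddP L' hBt hB.symm (Ne.symm hne) noB hTA hTB hT4
  -- an involution of `T`
  have hexT : ∀ T : Subgroup G, Nat.card T = 4 → ∃ t ∈ T, t ≠ 1 := by
    intro T hT4
    by_contra hcon
    push Not at hcon
    have : T = ⊥ := (eq_bot_iff_forall T).2 hcon
    rw [this, card_bot] at hT4
    exact absurd hT4 (by norm_num)
  obtain ⟨t₀, ht₀, ht₀1⟩ := hexT T hT4
  have hcTT' : ∀ t ∈ T, ∀ s ∈ T', t * s = s * t := by
    intro t ht s hs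
    obtain ⟨u, hu, a, ha, rfl⟩ := P.dn s hs
    rw [← mul_assoc, comm_of_card_four hT4 ht hu, mul_assoc, P.commT t ht a ha, mul_assoc]
  have hT'A : T' ≤ N A := fun s hs =>
    hA.nrm (hTA ht₀) ht₀1 (P.sqT t₀ ht₀) (hcTT' t₀ ht₀ s hs).symm
  obtain ⟨i, R, Q⟩ := exists_oddP L hA hB hne noA P.le hT'A P.card
  have hR1 : ∀ r ∈ R, r ≠ 1 → ∃ s ∈ T', s ≠ 1 ∧ ∃ a ∈ Kl L hA i, r = s * a := by
    intro r hr hr1
    obtain ⟨s, hs, a, ha, rfl⟩ := Q.dn r hr
    refine ⟨s, hs, ?_, a, ha, rfl⟩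
    rintro rfl
    rw [one_mul] at hr hr1
    exact hr1 (hA.disj a (mem_Kl.1 ha).1 (Q.le hr))
  have hcent : ∀ n ∈ C A, ∀ r ∈ R, r ≠ 1 → n * r = r * n → n ∈ N (Conj.cj h A) := by
    intro n hn r hr hr1 hnr
    obtain ⟨s, hs, hs1, a, ha, rfl⟩ := hR1 r hr hr1
    refine hBt.nrm (P.le hs) hs1 (Q.sqT s hs) ?_
    have h1 : n * a = a * n := comm_of_C hn (mem_Kl.1 ha).1
    have h2 : n * s * a = s * n * a := by
      rw [mul_assoc, hnr, mul_assoc, mul_assoc, h1]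
    exact mul_right_cancel h2
  have hRB : R ≤ N (Conj.cj h A) := by
    intro r hr
    by_cases hr1 : r = 1
    · rw [hr1]; exact one_mem _
    · exact hcent r (Q.le hr) r hr hr1 rfl
  have h8 := not_eight L' hA hB hne noB Q.le hRB Q.card hcent
  -- `T = R`
  have hRT : R ≤ T := by
    intro r hr
    by_contra hrT
    obtain ⟨s, hs, a, ha, hrsa⟩ := Q.dn r hr
    have hrc : ∀ t ∈ T, r * t = t * r := by
      intro t ht
      have h1 : t * a = a * t := comm_of_C (hTA ht) (mem_Kl.1 ha).1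
      rw [hrsa, mul_assoc, ← h1, ← mul_assoc, ← hcTT' t ht s hs, mul_assoc]
    have hrr : r * r = 1 := by
      rw [hrsa, mul_assoc, ← mul_assoc a, ← Q.commT s hs a ha, mul_assoc, (mem_Kl.1 ha).2.1, mul_one,
        Q.sqT s hs]
    have hrN : r ∈ N T := mem_N_of (fun t ht => by rwa [hrc t ht, mul_inv_cancel_right])
    apply h8
    have h1 := card_sup_zpowers hrN hrr hrT
    rw [hT4] at h1
    have h2 : T ⊔ zpowers r ≤ C A := sup_le hTA (by rw [zpowers_le]; exact Q.le hr)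
    have h3 := card_dvd_of_le h2
    rw [h1] at h3
    exact h3
  have hRT' : R = T := eq_of_le_of_card_ge hRT (by rw [Q.card, hT4])
  set V := Kl L hA i with hV
  have hT'E : T' ≤ T ⊔ V := by
    intro s hs
    obtain ⟨a, ha, -, hsa⟩ := Q.up s hs
    have h1 : s = (s * a) * a⁻¹ := by group
    rw [h1]
    exact mul_mem ((le_sup_left : T ≤ _) (hRT hsa)) (inv_mem ((le_sup_right : V ≤ _) ha))
  have hV'E : Kl L' hBt j ≤ T ⊔ V := by
    intro b hb
    obtain ⟨t, ht, -, htb⟩ := P.surj b hb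
    have h1 : b = t⁻¹ * (t * b) := by group
    rw [h1]
    exact mul_mem (inv_mem ((le_sup_left : T ≤ _) ht)) (hT'E htb)
  -- conjugating element
  have h8' : ¬ 8 ∣ Nat.card (C (Conj.cj h A)) := by rw [← hB.card_C]; exact h8
  have hmax : ∀ P' : Subgroup G, IsPGroup 2 P' → T' ≤ P' → P' ≤ C (Conj.cj h A) → P' = T' := by
    intro P' hP' hle hle'
    obtain ⟨k, hk⟩ := IsPGroup.iff_card.1 hP'
    have h1 : 4 ≤ Nat.card P' := by
      rw [← P.card]
      exact Nat.card_le_card_of_injective _ (inclusion_injective hle)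
    have h2 : k < 3 := by
      by_contra hcon
      push Not at hcon
      apply h8'
      have h3 : 2 ^ 3 ∣ Nat.card P' := by rw [hk]; exact pow_dvd_pow 2 hcon
      exact (show (8 : ℕ) = 2 ^ 3 by norm_num) ▸ h3.trans (card_dvd_of_le hle')
    have h3 : Nat.card P' ≤ 4 := by
      rw [hk]
      calc 2 ^ k ≤ 2 ^ 2 := Nat.pow_le_pow_right (by norm_num) (by omega)
        _ = 4 := by norm_num
    exact (eq_of_le_of_card_ge hle (by rw [P.card]; exact h3)).symm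
  have hTh : IsPGroup 2 ↥(Conj.cj h T) := isPGroup_four (by rw [card_cj, hT4])
  have hThB : Conj.cj h T ≤ C (Conj.cj h A) := by
    intro x hx
    rw [mem_C_cj]
    exact hTA (mem_cj.1 hx)
  obtain ⟨m₁, hm₁, hm₁T⟩ := exists_conj_le (C (Conj.cj h A)) T' (Conj.cj h T)
    (isPGroup_four P.card) hTh P.le hThB hmax
  obtain ⟨m', hm'⟩ := fact_trans1 i j
  obtain ⟨m₂, hm₂, rfl⟩ := Lab.exists_ev L' m'
  rw [Lab.ev_val] at hm'
  have hgE : m₂ * m₁ * h ∈ N (T ⊔ V) := by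
    refine mem_N_of (fun x hx => ?_)
    have hmap : (T ⊔ V).map (MulAut.conj (m₂ * m₁ * h)).toMonoidHom ≤ T ⊔ V := by
      rw [Subgroup.map_sup, sup_le_iff]
      constructor
      · rintro _ ⟨t, ht, rfl⟩
        have h1 : m₁ * (h * t * h⁻¹) * m₁⁻¹ ∈ T' := hm₁T _ (conj_mem_cj.2 ht)
        have h2 := comm_of_C (P.le h1) hm₂
        have h3 : (MulAut.conj (m₂ * m₁ * h)).toMonoidHom t = m₁ * (h * t * h⁻¹) * m₁⁻¹ := by
          show m₂ * m₁ * h * t * (m₂ * m₁ * h)⁻¹ = _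
          rw [show m₂ * m₁ * h * t * (m₂ * m₁ * h)⁻¹ = m₂ * (m₁ * (h * t * h⁻¹) * m₁⁻¹) * m₂⁻¹ by group,
            ← h2, mul_inv_cancel_right]
        rw [h3]
        exact hT'E h1
      · rintro _ ⟨v, hv, rfl⟩
        obtain ⟨hvA, hvv, hvi⟩ := mem_Kl.1 hv
        have h1 : h * v * h⁻¹ ∈ Conj.cj h A := conj_mem_cj.2 hvA
        have h2 := comm_of_C hm₁ h1
        have h3 : (MulAut.conj (m₂ * m₁ * h)).toMonoidHom v = m₂ * (h * v * h⁻¹) * m₂⁻¹ := by
          show m₂ * m₁ * h * v * (m₂ * m₁ * h)⁻¹ = _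
          rw [show m₂ * m₁ * h * v * (m₂ * m₁ * h)⁻¹ = m₂ * (m₁ * (h * v * h⁻¹) * m₁⁻¹) * m₂⁻¹ by group,
            h2, mul_inv_cancel_right]
        rw [h3]
        apply hV'E
        refine mem_Kl.2 ⟨conj_mem (le_N hm₂) h1, ?_, ?_⟩
        · rw [show m₂ * (h * v * h⁻¹) * m₂⁻¹ * (m₂ * (h * v * h⁻¹) * m₂⁻¹) =
            m₂ * h * (v * v) * h⁻¹ * m₂⁻¹ by group, hvv]; group
        · have h4 : L'.φ (h * v * h⁻¹) = L.φ v := by
            rw [hL', Lab.cj_φ, show h⁻¹ * (h * v * h⁻¹) * h = v by group]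
          have h5 : (L'.φ m₂)⁻¹ j = i := by rw [Perm.inv_eq_iff_eq, hm']
          rw [L'.conj (le_N hm₂) (le_N h1), Perm.mul_apply, Perm.mul_apply, h5, h4, hvi, hm']
    exact hmap ⟨x, hx, rfl⟩
  have hgA : m₂ * m₁ * h ∉ N A := by
    intro hg
    have h1 : Conj.cj (m₂ * m₁ * h) A = A := cj_eq_iff.2 hg
    have h2 : m₂ * m₁ ∈ N (Conj.cj h A) := mul_mem (le_N hm₂) (C_le_N hm₁)
    have h3 : Conj.cj (m₂ * m₁) (Conj.cj h A) = Conj.cj h A := cj_eq_iff.2 h2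
    rw [cj_cj, h1] at h3
    exact hne h3
  obtain ⟨ρ', hρi, hρ3, hρ⟩ := fact_ord3 i
  obtain ⟨ρ, hρA, rfl⟩ := Lab.exists_ev L ρ'
  rw [Lab.ev_val] at hρi
  refine ⟨i, T, ρ, m₂ * m₁ * h, ⟨hA, nK, hTA, fun v hv => (mem_Kl.1 hv).1, hT4, card_Kl L hA i, P.sqT,
    fun v hv => (mem_Kl.1 hv).2.1, h8, hρA, ?_, ?_, ?_, ?_, hgE, hgA⟩⟩
  · apply L.eq_one hA (pow_mem hρA 3)
    rw [L.pow (le_N hρA)]
    exact congrArg Subtype.val hρ3
  · intro v hv
    obtain ⟨hvA, hvv, hvi⟩ := mem_Kl.1 hv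
    refine mem_Kl.2 ⟨conj_mem (le_N hρA) hvA, ?_, ?_⟩
    · rw [show ρ * v * ρ⁻¹ * (ρ * v * ρ⁻¹) = ρ * (v * v) * ρ⁻¹ by group, hvv]; group
    · have h5 : (L.φ ρ)⁻¹ i = i := by rw [Perm.inv_eq_iff_eq, hρi]
      rw [L.conj (le_N hρA) (le_N hvA), Perm.mul_apply, Perm.mul_apply, h5, hvi, hρi]
  · intro v hv hv1 e
    obtain ⟨hvA, hvv, hvi⟩ := mem_Kl.1 hv
    apply hρ (Lab.ev L hvA) ((Lab.ev_sq L hA hvA).2 hvv) hvi
      (fun h => hv1 ((Lab.ev_eq_one L hA hvA).1 h))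
    apply Subtype.ext
    show L.φ ρ * L.φ v * (L.φ ρ)⁻¹ = L.φ v
    rw [← L.conj (le_N hρA) (le_N hvA), e]
  · intro x hx hxV
    have hcen : ∀ y : A5, y * y = 1 → y.1 i = i → L.φ x * y.1 = y.1 * L.φ x := by
      intro y hyy hyi
      obtain ⟨a, ha, rfl⟩ := Lab.exists_ev L y
      rw [Lab.ev_val] at hyi ⊢
      exact L.comm' hx (le_N ha) (hxV a (mem_Kl.2 ⟨ha, (Lab.ev_sq L hA ha).1 hyy, hyi⟩))
    obtain ⟨h1, h2, h3⟩ := fact_centV i (L.φ x) hcen
    obtain ⟨a, ha, hax⟩ := L.lift (L.φ x) (mem_alt_iff.2 h3)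
    refine ⟨a, mem_Kl.2 ⟨ha, ?_, by rw [hax]; exact h2⟩, ?_⟩
    · apply L.eq_one hA (mul_mem ha ha)
      rw [L.mul _ _ (le_N ha) (le_N ha), hax, h1]
    · rw [← L.ker _ (mul_mem hx (le_N ha)), L.mul _ _ hx (le_N ha), hax, h1]

end Cfsg.Agent.StdAlt.Five
end

-- part: StdAlt/Five/TwoPair
section
/-!
# Pairs with an involution of `A` centralizing `B`
-/

set_option autoImplicit false
set_option linter.unusedSectionVars false

namespace Cfsg.Agent.StdAlt.Five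

open Subgroup Equiv Cfsg.Agent.StdAlt.Conj Cfsg.Agent.StdAlt.Pairs Cfsg.Agent.StdAlt.First
open Cfsg.Agent.StdAlt.Two (HasFour)

variable {G : Type*} [Group G] {A B : Subgroup G}

/-- An element of `N B` commuting with two commuting involutions of `C A ⊓ N B` acts on `B` like one of their
products. -/
theorem four_cases [Finite G] (L' : Lab B (Fin 5)) (hA : TE A) (hB : Cj A B) (hne : A ≠ B)
    {r s : G} (hr : r ∈ C A) (hs : s ∈ C A) (hrN : r ∈ N B) (hsN : s ∈ N B) (hr1 : r ≠ 1)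
    (hs1 : s ≠ 1) (hsr : s ≠ r) (hrr : r * r = 1) (hss : s * s = 1) (hc : r * s = s * r)
    {v : G} (hv : v ∈ N B) (hvr : v * r = r * v) (hvs : v * s = s * v) :
    ∃ w, (w = 1 ∨ w = r ∨ w = s ∨ w = r * s) ∧ L'.φ v = L'.φ w := by
  have hBt : TE B := hA.of_cj hB
  have key : ∀ z ∈ C A, z ∈ N B → z * z = 1 → L'.φ z = 1 → z = 1 := by
    intro z hz hzN hzz h
    by_contra hz1
    exact hne (hA.eq_of_mem hB hz1 hzz hz ((L'.ker z hzN).1 h))
  have h1 := fact_four (s := L'.φ r) (t := L'.φ s) (x := L'.φ v)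
    (by rw [← L'.mul _ _ hrN hrN, hrr, L'.one]) (fun h => hr1 (key r hr hrN hrr h))
    (by rw [← L'.mul _ _ hsN hsN, hss, L'.one]) (fun h => hs1 (key s hs hsN hss h))
    (by
      intro h
      apply hsr
      have h2 : s * r = 1 := by
        apply key _ (mul_mem hs hr) (mul_mem hsN hrN)
        · rw [show s * r * (s * r) = s * (r * s) * r by group, hc,
            show s * (s * r) * r = (s * s) * (r * r) by group, hss, hrr, one_mul]
        · rw [L'.mul _ _ hsN hrN, h, ← L'.mul _ _ hrN hrN, hrr, L'.one]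
      rw [eq_inv_of_mul_eq_one_left h2]
      exact inv_eq_of_mul_eq_one_left hrr)
    (L'.comm' hrN hsN hc) (L'.comm' hv hrN hvr) (L'.comm' hv hsN hvs)
  rcases h1 with h | h | h | h
  · exact ⟨1, Or.inl rfl, by rw [h, L'.one]⟩
  · exact ⟨r, Or.inr (Or.inl rfl), h⟩
  · exact ⟨s, Or.inr (Or.inr (Or.inl rfl)), h⟩
  · exact ⟨r * s, Or.inr (Or.inr (Or.inr rfl)), by rw [h, L'.mul _ _ hrN hsN]⟩

/-- commuting involutions of `C A` generate a group of order at most four -/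
theorem rank_two [Finite G] (L' : Lab B (Fin 5)) (hA : TE A) (hB : Cj A B) (hne : A ≠ B)
    (hle : C A ≤ N B)
    {r s : G} (hr : r ∈ C A) (hs : s ∈ C A) (hr1 : r ≠ 1)
    (hs1 : s ≠ 1) (hsr : s ≠ r) (hrr : r * r = 1) (hss : s * s = 1) (hc : r * s = s * r)
    {v : G} (hv : v ∈ C A) (hvv : v * v = 1) (hvr : v * r = r * v) (hvs : v * s = s * v) :
    v = 1 ∨ v = r ∨ v = s ∨ v = r * s := by
  obtain ⟨w, hw, hvw⟩ := four_cases L' hA hB hne hr hs (hle hr) (hle hs) hr1 hs1 hsr hrr hss hc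
    (hle hv) hvr hvs
  have hwC : w ∈ C A := by
    rcases hw with rfl | rfl | rfl | rfl
    · exact one_mem _
    · exact hr
    · exact hs
    · exact mul_mem hr hs
  have hww : w * w = 1 := by
    rcases hw with rfl | rfl | rfl | rfl
    · exact one_mul _
    · exact hrr
    · exact hss
    · rw [show r * s * (r * s) = r * (s * r) * s by group, ← hc,
        show r * (r * s) * s = (r * r) * (s * s) by group, hrr, hss, one_mul]
  have hvwc : v * w = w * v := by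
    rcases hw with rfl | rfl | rfl | rfl
    · rw [mul_one, one_mul]
    · exact hvr
    · exact hvs
    · rw [← mul_assoc, hvr, mul_assoc, hvs, mul_assoc]
  have h1 : v * w = 1 := by
    by_contra h
    refine hne (hA.eq_of_mem hB h ?_ (mul_mem hv hwC) ?_)
    · rw [show v * w * (v * w) = v * (w * v) * w by group, ← hvwc,
        show v * (v * w) * w = (v * v) * (w * w) by group, hvv, hww, one_mul]
    · rw [← L'.ker _ (hle (mul_mem hv hwC)), L'.mul _ _ (hle hv) (hle hwC), hvw,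
        ← L'.mul _ _ (hle hwC) (hle hwC), hww, L'.one]
  have h2 : v = w := by
    rw [eq_inv_of_mul_eq_one_left h1]
    exact inv_eq_of_mul_eq_one_left hww
  rw [h2]; exact hw

/-- **(P2)**: if an involution of `Kl i` centralizes `B` then so does the stabilizer of `i` in `A`. -/
theorem stab_le [Finite G] (L : Lab A (Fin 5)) (L' : Lab B (Fin 5)) (hA : TE A) (hB : Cj A B)
    (hne : A ≠ B) (hF : HasFour A) {y : G} (hyA : y ∈ A) (hy1 : y ≠ 1) (hyy : y * y = 1)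
    (hyB : y ∈ C B) {i : Fin 5} (hyi : L.φ y i = i) :
    ∀ a ∈ A, L.φ a i = i → a ∈ C B := by
  have hBt : TE B := hA.of_cj hB
  have hle : C A ≤ N B := fun k hk => hBt.nrm hyB hy1 hyy (comm_of_C hk hyA)
  obtain ⟨r, hr, s, hs, hr1, hs1, hsr, hrr, hss, hc⟩ := hF
  have hY1 : Lab.ev L hyA ≠ 1 := fun h => hy1 ((Lab.ev_eq_one L hA hyA).1 h)
  have hYY : Lab.ev L hyA * Lab.ev L hyA = 1 := (Lab.ev_sq L hA hyA).2 hyy
  -- the four-group
  have hV : ∀ v ∈ A, v * v = 1 → L.φ v i = i → v ∈ C B := by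
    intro v hv hvv hvi
    by_cases hv1 : v = 1
    · rw [hv1]; exact one_mem _
    by_cases hvy : v = y
    · rw [hvy]; exact hyB
    have hW1 : Lab.ev L hv ≠ 1 := fun h => hv1 ((Lab.ev_eq_one L hA hv).1 h)
    have hWW : Lab.ev L hv * Lab.ev L hv = 1 := (Lab.ev_sq L hA hv).2 hvv
    have hWY : Lab.ev L hv ≠ Lab.ev L hyA := fun h => hvy (L.inj hA hv hyA (congrArg Subtype.val h))
    have hcomm : v * y = y * v :=
      (Lab.ev_comm L hA hv hyA).1 (comm_of_fix _ hWW hW1 _ hYY hY1 i hvi hyi)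
    have hvN : v ∈ N B := hBt.nrm hyB hy1 hyy hcomm
    obtain ⟨w, hw, hvw⟩ := four_cases L' hA hB hne hr hs (hle hr) (hle hs) hr1 hs1 hsr hrr hss hc.symm
      hvN (comm_of_C hr hv).symm (comm_of_C hs hv).symm
    have hwC : w ∈ C A := by
      rcases hw with rfl | rfl | rfl | rfl
      · exact one_mem _
      · exact hr
      · exact hs
      · exact mul_mem hr hs
    have hww : w * w = 1 := by
      rcases hw with rfl | rfl | rfl | rfl
      · exact one_mul _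
      · exact hrr
      · exact hss
      · rw [show r * s * (r * s) = r * (s * r) * s by group, hc,
          show r * (r * s) * s = (r * r) * (s * s) by group, hrr, hss, one_mul]
    by_cases hw1 : w = 1
    · rw [hw1, L'.one] at hvw
      exact (L'.ker v hvN).1 hvw
    exfalso
    -- `w v ∈ C B`
    have hwv : w * v ∈ C B := by
      rw [← L'.ker _ (mul_mem (hle hwC) hvN), L'.mul _ _ (hle hwC) hvN, hvw,
        ← L'.mul _ _ (hle hwC) (hle hwC), hww, L'.one]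
    have hwvc : w * v = v * w := comm_of_C hwC hv
    have hwv1 : w * v ≠ 1 := by
      intro h
      have h2 : w = v⁻¹ := eq_inv_of_mul_eq_one_left h
      apply hw1
      apply hA.disj w _ hwC
      rw [h2]; exact inv_mem hv
    have hwv2 : w * v * (w * v) = 1 := by
      rw [show w * v * (w * v) = w * (v * w) * v by group, ← hwvc,
        show w * (w * v) * v = (w * w) * (v * v) by group, hww, hvv, one_mul]
    obtain ⟨ρ', hρi, hρ1, hρ2⟩ := fact_rho i _ hYY hY1 hyi _ hWW hW1 hWY hvi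
    obtain ⟨ρ, hρ, rfl⟩ := Lab.exists_ev L ρ'
    have e1 : ρ * v * ρ⁻¹ = v * y := by
      apply L.inj hA (conj_mem (le_N hρ) hv) (mul_mem hv hyA)
      rw [L.conj (le_N hρ) (le_N hv), L.mul _ _ (le_N hv) (le_N hyA)]
      exact congrArg Subtype.val hρ1
    have e2 : ρ * y * ρ⁻¹ = v := by
      apply L.inj hA (conj_mem (le_N hρ) hyA) hv
      rw [L.conj (le_N hρ) (le_N hyA)]
      exact congrArg Subtype.val hρ2
    have hρw : ρ * w = w * ρ := (comm_of_C hwC hρ).symm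
    have h3 : ρ * (w * v) * ρ⁻¹ = w * v * y := by
      rw [← mul_assoc, hρw, show w * ρ * v * ρ⁻¹ = w * (ρ * v * ρ⁻¹) by group, e1, mul_assoc]
    have hρN : ρ ∈ N B := hBt.key (w * v) ρ hwv hwv1 hwv2 (by rw [h3]; exact mul_mem hwv hyB)
    have h4 : v ∈ C B := by
      rw [← e2]; exact conj_mem_C hρN hyB
    have h5 : w ∈ C B := by
      have := mul_mem hwv (inv_mem h4)
      rwa [mul_inv_cancel_right] at this
    exact hne (hA.eq_of_mem hB hw1 hww hwC h5)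
  -- the whole stabilizer
  intro a ha hai
  have hsq : a * a ∈ C B := by
    have haN : a ∈ N B := by
      apply hBt.key y a hyB hy1 hyy
      apply hV _ (conj_mem (le_N ha) hyA)
      · rw [show a * y * a⁻¹ * (a * y * a⁻¹) = a * (y * y) * a⁻¹ by group, hyy]; group
      · have h8 : (L.φ a)⁻¹ i = i := by
          rw [Perm.inv_eq_iff_eq]; exact hai.symm
        rw [L.conj (le_N ha) (le_N hyA), Perm.mul_apply, Perm.mul_apply, h8, hyi, hai]
    obtain ⟨w, hw, hvw⟩ := four_cases L' hA hB hne hr hs (hle hr) (hle hs) hr1 hs1 hsr hrr hss hc.symm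
      haN (comm_of_C hr ha).symm (comm_of_C hs ha).symm
    have hwN : w ∈ N B ∧ w * w = 1 := by
      rcases hw with rfl | rfl | rfl | rfl
      · exact ⟨one_mem _, one_mul _⟩
      · exact ⟨hle hr, hrr⟩
      · exact ⟨hle hs, hss⟩
      · refine ⟨mul_mem (hle hr) (hle hs), ?_⟩
        rw [show r * s * (r * s) = r * (s * r) * s by group, hc,
          show r * (r * s) * s = (r * r) * (s * s) by group, hrr, hss, one_mul]
    rw [← L'.ker _ (mul_mem haN haN), L'.mul _ _ haN haN, hvw, ← L'.mul _ _ hwN.1 hwN.1, hwN.2,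
      L'.one]
  rcases fact_stab i (Lab.ev L ha) hai with h | h
  · exact hV a ha ((Lab.ev_sq L hA ha).1 h) hai
  · have h1 : a * a * a = 1 := by
      apply L.eq_one hA (mul_mem (mul_mem ha ha) ha)
      rw [L.mul _ _ (mul_mem (le_N ha) (le_N ha)) (le_N ha), L.mul _ _ (le_N ha) (le_N ha)]
      exact congrArg Subtype.val h
    have h2 : a = (a * a) * (a * a) := by
      rw [show a * a * (a * a) = (a * a * a) * a by group, h1, one_mul]
    rw [h2]; exact mul_mem hsq hsq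

/-- conversely elements of `A ⊓ C B` fix `i` -/
theorem fix_of_mem [Finite G] (L : Lab A (Fin 5)) (hA : TE A) (hB : Cj A B) {i : Fin 5}
    (hst : ∀ a ∈ A, L.φ a i = i → a ∈ C B) : ∀ a ∈ A, a ∈ C B → L.φ a i = i := by
  intro a ha haB
  by_contra hai
  apply hA.ncomm B hB
  intro x hx
  by_cases hxi : L.φ x i = i
  · exact hst x hx hxi
  obtain ⟨s', hs1, hs2⟩ := fact_trans i (L.φ a i) (L.φ x i) hai hxi
  obtain ⟨s, hs, rfl⟩ := Lab.exists_ev L s'
  rw [Lab.ev_val] at hs1 hs2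
  have h1 : L.φ ((s * a)⁻¹ * x) i = i := by
    rw [L.mul _ _ (inv_mem (mul_mem (le_N hs) (le_N ha))) (le_N hx),
      L.inv (mul_mem (le_N hs) (le_N ha)), L.mul _ _ (le_N hs) (le_N ha), Perm.mul_apply,
      Perm.inv_eq_iff_eq, Perm.mul_apply, hs2]
  have h2 := hst _ (mul_mem (inv_mem (mul_mem hs ha)) hx) h1
  have h3 : x = s * a * ((s * a)⁻¹ * x) := by group
  rw [h3]
  exact mul_mem (mul_mem (hst s hs hs1) haB) h2

end Cfsg.Agent.StdAlt.Five
end

-- part: StdAlt/Five/TwoPair2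
section
/-!
# Pairs of type two: the structure of the centralizers
-/

set_option autoImplicit false
set_option linter.unusedSectionVars false

namespace Cfsg.Agent.StdAlt.Five

open Subgroup Equiv Cfsg.Agent.StdAlt.Conj Cfsg.Agent.StdAlt.Pairs Cfsg.Agent.StdAlt.First
open Cfsg.Agent.StdAlt.Two (HasFour)

variable {G : Type*} [Group G] {A B : Subgroup G}

/-- some involution of `B` centralizes `A` -/
theorem exists_inv_B [Finite G] (L : Lab A (Fin 5)) (L' : Lab B (Fin 5)) (hA : TE A) (hB : Cj A B)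
    (hne : A ≠ B) (hF : HasFour A) {y : G} (hyA : y ∈ A) (hy1 : y ≠ 1) (hyy : y * y = 1)
    (hyB : y ∈ C B) : ∃ b ∈ B, b ∈ C A ∧ b ≠ 1 ∧ b * b = 1 := by
  have hBt : TE B := hA.of_cj hB
  have hle : C A ≤ N B := fun k hk => hBt.nrm hyB hy1 hyy (comm_of_C hk hyA)
  by_contra hcon
  push Not at hcon
  have hno : ∀ b ∈ B, b ∈ C A → b * b = 1 → b = 1 := by
    intro b hb hbA hbb
    by_contra hb1
    exact hcon b hb hbA hb1 hbb
  obtain ⟨r, hr, s, hs, hr1, hs1, hsr, hrr, hss, hc⟩ := hF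
  have hTle : four r s hrr hss hc.symm ≤ C A := by
    intro x hx
    rcases mem_four.1 hx with rfl | rfl | rfl | rfl
    · exact one_mem _
    · exact hr
    · exact hs
    · exact mul_mem hr hs
  obtain ⟨j, hj, -⟩ := odd_pair L' hBt hB.symm (Ne.symm hne) hno hTle (hTle.trans hle)
    (card_four hr1 hs1 (Ne.symm hsr))
  have hrT : r ∈ four r s hrr hss hc.symm := mem_four.2 (Or.inr (Or.inl rfl))
  obtain ⟨b, hb, hbr⟩ := L'.lift (L'.φ r) (hj r hrT).2.2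
  have hbrc : b * r = r * b := L'.comm_of hBt hb (hle hr) (by rw [hbr])
  have hbb : b * b = 1 := by
    apply L'.eq_one hBt (mul_mem hb hb)
    rw [L'.mul _ _ (le_N hb) (le_N hb), hbr, ← L'.mul _ _ (hle hr) (hle hr), hrr, L'.one]
  set w : G := r * b with hw
  have hwB : w ∈ C B := by
    rw [← L'.ker _ (mul_mem (hle hr) (le_N hb)), L'.mul _ _ (hle hr) (le_N hb), hbr,
      ← L'.mul _ _ (hle hr) (hle hr), hrr, L'.one]
  have hw1 : w ≠ 1 := by
    intro h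
    have h1 : b = r⁻¹ := eq_inv_of_mul_eq_one_right h
    have h2 : b = 1 := hno b hb (by rw [h1]; exact inv_mem hr) hbb
    rw [h2] at h1
    exact hr1 (inv_eq_one.1 h1.symm)
  have hww : w * w = 1 := by
    rw [hw, show r * b * (r * b) = r * (b * r) * b by group, hbrc,
      show r * (r * b) * b = (r * r) * (b * b) by group, hrr, hbb, one_mul]
  -- the point fixed by `y`
  have hY1 : Lab.ev L hyA ≠ 1 := fun h => hy1 ((Lab.ev_eq_one L hA hyA).1 h)
  have hYY : Lab.ev L hyA * Lab.ev L hyA = 1 := (Lab.ev_sq L hA hyA).2 hyy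
  obtain ⟨i, hyi⟩ := exists_fix _ hYY hY1
  have hst := stab_le L L' hA hB hne ⟨r, hr, s, hs, hr1, hs1, hsr, hrr, hss, hc⟩ hyA hy1 hyy hyB hyi
  have hwst : ∀ a ∈ A, L.φ a i = i → w * a = a * w := by
    intro a ha hai
    have h1 : r * a = a * r := comm_of_C hr ha
    have h2 : a * b = b * a := comm_of_C (hst a ha hai) hb
    rw [hw, mul_assoc, ← h2, ← mul_assoc, h1, mul_assoc]
  obtain ⟨v', hvv', hv1', hvy', hvi'⟩ := fact_kl2 i _ hYY hY1 hyi
  obtain ⟨v, hv, rfl⟩ := Lab.exists_ev L v'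
  have hvv : v * v = 1 := (Lab.ev_sq L hA hv).1 hvv'
  have hv1 : v ≠ 1 := fun h => hv1' ((Lab.ev_eq_one L hA hv).2 h)
  have hvy : v ≠ y := by
    rintro rfl
    exact hvy' rfl
  have hyv : y * v = v * y := (Lab.ev_comm L hA hyA hv).1 (comm_of_fix _ hYY hY1 _ hvv' hv1' i hyi hvi')
  -- transport to `C A`
  obtain ⟨g, rfl⟩ := hB.exists_eq
  have ci : ∀ x z : G, g⁻¹ * x * g = g⁻¹ * z * g → x = z := by
    intro x z h
    rw [show x = g * (g⁻¹ * x * g) * g⁻¹ by group, h]; group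
  have cm : ∀ x z : G, g⁻¹ * (x * z) * g = (g⁻¹ * x * g) * (g⁻¹ * z * g) := by
    intro x z; group
  have c1 : g⁻¹ * 1 * g = 1 := by group
  have hres := rank_two L' hA hB hne hle (r := g⁻¹ * y * g) (s := g⁻¹ * v * g) (v := g⁻¹ * w * g)
    (mem_C_cj.1 hyB) (mem_C_cj.1 (hst v hv hvi'))
    (fun h => hy1 (ci _ _ (by rw [h, c1]))) (fun h => hv1 (ci _ _ (by rw [h, c1])))
    (fun h => hvy (ci _ _ h)) (by rw [← cm, hyy, c1]) (by rw [← cm, hvv, c1])
    (by rw [← cm, ← cm, hyv]) (mem_C_cj.1 hwB) (by rw [← cm, hww, c1])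
    (by rw [← cm, ← cm, hwst y hyA hyi]) (by rw [← cm, ← cm, hwst v hv hvi'])
  have hwA : w ∈ Kl L hA i := by
    have hyK : y ∈ Kl L hA i := mem_Kl.2 ⟨hyA, hyy, hyi⟩
    have hvK : v ∈ Kl L hA i := mem_Kl.2 ⟨hv, hvv, hvi'⟩
    rcases hres with h | h | h | h
    · rw [ci w 1 (by rw [h, c1])]; exact one_mem _
    · rw [ci _ _ h]; exact hyK
    · rw [ci _ _ h]; exact hvK
    · rw [← cm] at h
      rw [ci _ _ h]; exact mul_mem hyK hvK
  obtain ⟨hwA1, hwA2, hwA3⟩ := mem_Kl.1 hwA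
  obtain ⟨ρ', hρi, -, hρ⟩ := fact_ord3 i
  obtain ⟨ρ, hρA, rfl⟩ := Lab.exists_ev L ρ'
  apply hρ (Lab.ev L hwA1) ((Lab.ev_sq L hA hwA1).2 hwA2) hwA3
    (fun h => hw1 ((Lab.ev_eq_one L hA hwA1).1 h))
  have h1 := (Lab.ev_comm L hA hwA1 hρA).2 (hwst ρ hρA hρi)
  rw [← h1, mul_inv_cancel_right]

/-- the pair structure -/
structure TwoP (L : Lab A (Fin 5)) (L' : Lab B (Fin 5)) (i j : Fin 5) : Prop where
  teA : TE A
  cj : Cj A B
  ne : A ≠ B
  leB : C A ≤ N B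
  leA : C B ≤ N A
  fixA : ∀ a ∈ A, a ∈ C B ↔ L.φ a i = i
  fixB : ∀ b ∈ B, b ∈ C A ↔ L'.φ b j = j

/-- an element of `N B` normalizing `C A` fixes `j` -/
theorem fix_of_norm {L : Lab A (Fin 5)} {L' : Lab B (Fin 5)} {i j : Fin 5} (h : TwoP L L' i j)
    {x : G} (hxB : x ∈ N B) (hxA : x ∈ N A) : L'.φ x j = j := by
  by_contra hne
  -- `x` conjugates the stabilizer of `j` to itself
  have key : ∀ b ∈ B, L'.φ b j = j → L'.φ b (L'.φ x j) = L'.φ x j := by
    intro b hb hbj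
    have h1 : x⁻¹ * b * x ∈ C A := conj_mem_C' hxA ((h.fixB b hb).2 hbj)
    have h2 : x⁻¹ * b * x ∈ B := conj_mem' hxB hb
    have h3 := (h.fixB _ h2).1 h1
    rw [L'.mul _ _ (mul_mem (inv_mem hxB) (le_N hb)) hxB, L'.mul _ _ (inv_mem hxB) (le_N hb),
      L'.inv hxB, Perm.mul_apply, Perm.mul_apply, Perm.inv_eq_iff_eq] at h3
    exact h3
  obtain ⟨k, hk1, hk2⟩ : ∃ k : Fin 5, k ≠ j ∧ k ≠ L'.φ x j := by
    have : ∀ a b : Fin 5, ∃ k : Fin 5, k ≠ a ∧ k ≠ b := by decide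
    exact this _ _
  obtain ⟨s', hs1, hs2⟩ := fact_trans j (L'.φ x j) k hne hk1
  obtain ⟨s, hs, rfl⟩ := Lab.exists_ev L' s'
  exact hk2 (hs2.symm.trans (key s hs hs1))

/-- all elements of `C A` act evenly on `B` -/
theorem even_of_C [Finite G] {L : Lab A (Fin 5)} {L' : Lab B (Fin 5)} {i j : Fin 5}
    (h : TwoP L L' i j) {k : G} (hk : k ∈ C A) : Perm.sign (L'.φ k) = 1 := by
  rcases Int.units_eq_one_or (Perm.sign (L'.φ k)) with h1 | h1
  · exact h1
  exfalso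
  have hBt : TE B := h.teA.of_cj h.cj
  have hkj : L'.φ k j = j := fix_of_norm h (h.leB hk) (C_le_N hk)
  obtain ⟨b', hb1, hb2, hb3, c', hc1, hc2⟩ := fact_odd j (L'.φ k) hkj h1
  obtain ⟨b, hb, rfl⟩ := Lab.exists_ev L' b'
  obtain ⟨c, hc, rfl⟩ := Lab.exists_ev L' c'
  rw [Lab.ev_val] at hb1 hb2 hb3 hc1
  rw [Lab.ev_val] at hc1 hc2
  have hbA : b ∈ C A := (h.fixB b hb).2 hb1
  rw [← L'.mul _ _ (le_N hb) (h.leB hk)] at hb2 hb3 hc1
  have hmem : L'.φ (b * k) ∈ L'.img (C A) :=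
    L'.φ_mem_img (mul_mem hbA hk) (mul_mem (le_N hb) (h.leB hk))
  obtain ⟨u, huA, huN, huφ, huu⟩ := L'.lift_inv hBt h.cj.symm (Ne.symm h.ne) hmem hb2
  have hu1 : u ≠ 1 := by
    rintro rfl
    rw [L'.one] at huφ
    exact hb3 huφ.symm
  have hcu : c * u = u * c := L'.comm_of hBt hc huN (by rw [huφ]; exact hc1)
  have hcA : c ∈ N A := h.teA.nrm huA hu1 huu hcu
  exact hc2 (fix_of_norm h (le_N hc) hcA)

/-- decomposition of `C A` -/
theorem decomp [Finite G] {L : Lab A (Fin 5)} {L' : Lab B (Fin 5)} {i j : Fin 5}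
    (h : TwoP L L' i j) {k : G} (hk : k ∈ C A) :
    ∃ b ∈ B, L'.φ b j = j ∧ ∃ d ∈ C A, d ∈ C B ∧ k = b * d := by
  obtain ⟨b, hb, hbk⟩ := L'.lift (L'.φ k) (mem_alt_iff.2 (even_of_C h hk))
  have hbj : L'.φ b j = j := by
    rw [hbk]; exact fix_of_norm h (h.leB hk) (C_le_N hk)
  refine ⟨b, hb, hbj, b⁻¹ * k, mul_mem (inv_mem ((h.fixB b hb).2 hbj)) hk, ?_, by group⟩
  rw [← L'.ker _ (mul_mem (inv_mem (le_N hb)) (h.leB hk)), L'.mul _ _ (inv_mem (le_N hb)) (h.leB hk),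
    L'.inv (le_N hb), hbk, inv_mul_cancel]

/-- existence of the structure -/
theorem exists_twoP [Finite G] (L : Lab A (Fin 5)) (L' : Lab B (Fin 5)) (hA : TE A) (hB : Cj A B)
    (hne : A ≠ B) (hF : HasFour A) {y : G} (hyA : y ∈ A) (hy1 : y ≠ 1) (hyy : y * y = 1)
    (hyB : y ∈ C B) : ∃ i j, TwoP L L' i j := by
  have hBt : TE B := hA.of_cj hB
  have hle : C A ≤ N B := fun k hk => hBt.nrm hyB hy1 hyy (comm_of_C hk hyA)
  have hY1 : Lab.ev L hyA ≠ 1 := fun h => hy1 ((Lab.ev_eq_one L hA hyA).1 h)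
  obtain ⟨i, hyi⟩ := exists_fix _ ((Lab.ev_sq L hA hyA).2 hyy) hY1
  have hst := stab_le L L' hA hB hne hF hyA hy1 hyy hyB hyi
  have hfx := fix_of_mem L hA hB hst
  obtain ⟨b, hb, hbA, hb1, hbb⟩ := exists_inv_B L L' hA hB hne hF hyA hy1 hyy hyB
  have hle' : C B ≤ N A := fun k hk => hA.nrm hbA hb1 hbb (comm_of_C hk hb)
  have hB1 : Lab.ev L' hb ≠ 1 := fun h => hb1 ((Lab.ev_eq_one L' hBt hb).1 h)
  obtain ⟨j, hbj⟩ := exists_fix _ ((Lab.ev_sq L' hBt hb).2 hbb) hB1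
  have hst' := stab_le L' L hBt hB.symm (Ne.symm hne) (hF.of_cj hB) hb hb1 hbb hbA hbj
  have hfx' := fix_of_mem L' hBt hB.symm hst'
  exact ⟨i, j, hA, hB, hne, hle, hle', fun a ha => ⟨hfx a ha, hst a ha⟩,
    fun b hb => ⟨hfx' b hb, hst' b hb⟩⟩

end Cfsg.Agent.StdAlt.Five
end

-- part: StdAlt/Five/MkTwo
section
/-!
# From a pair of type two to the configuration `TypeTwo`
-/

set_option autoImplicit false
set_option linter.unusedSectionVars false

namespace Cfsg.Agent.StdAlt.Five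

open Subgroup Equiv Cfsg.Agent.StdAlt.Conj Cfsg.Agent.StdAlt.Pairs Cfsg.Agent.StdAlt.First
open Cfsg.Agent.StdAlt.Two (HasFour)

variable {G : Type*} [Group G] {A B : Subgroup G}

theorem act_of_lab (L : Lab A (Fin 5)) : Act A L.φ :=
  ⟨fun g hg h hh => L.mul g h hg hh, fun g hg h => (L.ker g hg).1 h, fun _ hg => L.of_C hg,
    fun a ha => L.even a ha, fun σ hσ => L.lift σ hσ⟩

theorem std_of_lab (L : Lab A (Fin 5)) (hA : TE A) : Std A L.φ :=
  ⟨hA, act_of_lab L, fun g h => hA.ncomm (Conj.cj g A) (Cj.cj A g) (fun a ha => by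
    rw [mem_C]
    intro x hx
    have h1 := h a ha (g⁻¹ * x * g) (mem_cj.1 hx)
    rwa [show g * (g⁻¹ * x * g) * g⁻¹ = x by group] at h1)⟩

/-- the inverse of the labelling on `A` -/
noncomputable def inv (L : Lab A (Fin 5)) (x : A5) : G := Classical.choose (L.lift x.1 x.2)

theorem inv_mem' (L : Lab A (Fin 5)) (x : A5) : inv L x ∈ A := (Classical.choose_spec (L.lift x.1 x.2)).1

theorem inv_φ (L : Lab A (Fin 5)) (x : A5) : L.φ (inv L x) = x.1 :=
  (Classical.choose_spec (L.lift x.1 x.2)).2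

theorem inv_mul (L : Lab A (Fin 5)) (hA : TE A) (x y : A5) : inv L (x * y) = inv L x * inv L y := by
  apply L.inj hA (inv_mem' L _) (mul_mem (inv_mem' L x) (inv_mem' L y))
  rw [inv_φ, L.mul _ _ (le_N (inv_mem' L x)) (le_N (inv_mem' L y)), inv_φ, inv_φ]
  rfl

theorem inv_surj (L : Lab A (Fin 5)) (hA : TE A) {a : G} (ha : a ∈ A) : inv L (Lab.ev L ha) = a :=
  L.inj hA (inv_mem' L _) ha (inv_φ L _)

theorem exists_typeTwo [Finite G] {L : Lab A (Fin 5)} {L' : Lab B (Fin 5)} {i j : Fin 5}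
    (h : TwoP L L' i j) : ∃ β, TypeTwo A L.φ β := by
  classical
  have hA := h.teA
  have hBt : TE B := h.teA.of_cj h.cj
  -- relabel so that `j = 4`
  obtain ⟨M, hM⟩ : ∃ M : Lab B (Fin 5), ∀ x, x ∈ N B → (M.φ x 4 = 4 ↔ L'.φ x j = j) := by
    refine ⟨L'.relabel (swap j 4), fun x _ => ?_⟩
    rw [Lab.relabel_φ, Perm.mul_apply, Perm.mul_apply, swap_inv, swap_apply_right]
    constructor
    · intro h1
      have := congrArg (swap j 4) h1
      rwa [swap_apply_self, swap_apply_right] at this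
    · intro h1
      rw [h1, swap_apply_left]
  have hfixB : ∀ b ∈ B, b ∈ C A ↔ M.φ b 4 = 4 := fun b hb => by
    rw [h.fixB b hb, hM b (le_N hb)]
  -- transversal
  have h1 : ∀ x : Fin 5, ∃ a ∈ A, L.φ a i = x := by
    intro x
    obtain ⟨s, hs⟩ := fact_trans1 i x
    obtain ⟨a, ha, rfl⟩ := Lab.exists_ev L s
    exact ⟨a, ha, hs⟩
  choose t htA hti using h1
  have htC : ∀ x (b : G), b ∈ C A → t x * b * (t x)⁻¹ = b := by
    intro x b hb
    rw [← comm_of_C hb (htA x), mul_inv_cancel_right]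
  refine ⟨fun x σ => t x * inv M σ * (t x)⁻¹, ⟨std_of_lab L hA, ?_, ?_, ?_, ?_, ?_, ?_, ?_, ?_, ?_⟩⟩
  · -- mulβ
    intro x σ τ
    rw [inv_mul M hBt]; group
  · -- injβ
    intro x σ hσ
    have h2 : inv M σ = 1 := by
      rw [show inv M σ = (t x)⁻¹ * (t x * inv M σ * (t x)⁻¹) * t x by group, hσ]; group
    apply Subtype.ext
    rw [← inv_φ M σ, h2, M.one]; rfl
  · -- conjβ
    intro x
    obtain ⟨g, hg⟩ := h.cj.exists_eq
    refine ⟨t x * g, fun y => ?_⟩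
    constructor
    · intro hy
      have h2 : g * y * g⁻¹ ∈ B := by rw [hg]; exact conj_mem_cj.2 hy
      refine ⟨Lab.ev M h2, ?_⟩
      rw [inv_surj M hBt]; group
    · rintro ⟨σ, hσ⟩
      have h2 : g * y * g⁻¹ = inv M σ := by
        have : (t x)⁻¹ * (t x * g * y * (t x * g)⁻¹) * t x = (t x)⁻¹ * (t x * inv M σ * (t x)⁻¹) * t x :=
          congrArg (fun z => (t x)⁻¹ * z * t x) hσ
        rw [show (t x)⁻¹ * (t x * g * y * (t x * g)⁻¹) * t x = g * y * g⁻¹ by group,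
          show (t x)⁻¹ * (t x * inv M σ * (t x)⁻¹) * t x = inv M σ by group] at this
        exact this
      have h3 : g * y * g⁻¹ ∈ B := by rw [h2]; exact inv_mem' M σ
      rw [hg] at h3
      exact conj_mem_cj.1 h3
  · -- agree
    intro x y σ hσ
    have h2 : inv M σ ∈ C A := (hfixB _ (inv_mem' M σ)).2 (by rw [inv_φ]; exact hσ)
    show t x * inv M σ * (t x)⁻¹ = t y * inv M σ * (t y)⁻¹
    rw [htC x _ h2, htC y _ h2]
  · -- act
    intro a ha x σ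
    set y := L.φ a x with hy
    have hc : (t y)⁻¹ * (a * t x) ∈ A := mul_mem (inv_mem (htA y)) (mul_mem ha (htA x))
    have h2 : (t y)⁻¹ * (a * t x) ∈ C B := by
      rw [h.fixA _ hc, L.mul _ _ (inv_mem (le_N (htA y))) (mul_mem (le_N ha) (le_N (htA x))),
        L.inv (le_N (htA y)), L.mul _ _ (le_N ha) (le_N (htA x)), Perm.mul_apply, Perm.mul_apply,
        hti, Perm.inv_eq_iff_eq, hti]
    have h3 := comm_of_C h2 (inv_mem' M σ)
    show a * (t x * inv M σ * (t x)⁻¹) * a⁻¹ = t y * inv M σ * (t y)⁻¹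
    calc a * (t x * inv M σ * (t x)⁻¹) * a⁻¹
        = t y * ((t y)⁻¹ * (a * t x) * inv M σ) * (t x)⁻¹ * a⁻¹ := by group
      _ = t y * inv M σ * (t y)⁻¹ := by rw [h3]; group
  · -- K0
    intro x σ
    have h2 : inv M σ ∈ C A ↔ σ.1 4 = 4 := by
      rw [hfixB _ (inv_mem' M σ), inv_φ]
    rw [← h2]
    constructor
    · intro h3
      have h4 : inv M σ = (t x)⁻¹ * (t x * inv M σ * (t x)⁻¹) * t x := by group
      rw [h4, show (t x)⁻¹ * (t x * inv M σ * (t x)⁻¹) * t x =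
        (t x)⁻¹ * (t x * inv M σ * (t x)⁻¹ * t x) by group, comm_of_C h3 (htA x),
        inv_mul_cancel_left]
      exact h3
    · intro h3
      show t x * inv M σ * (t x)⁻¹ ∈ C A
      rw [htC x _ h3]; exact h3
  · -- CA
    intro k hk
    obtain ⟨b, hb, hbj, d, hdA, hdB, rfl⟩ := decomp h hk
    have hb4 : M.φ b 4 = 4 := (hM b (le_N hb)).2 hbj
    have hbC : b ∈ C A := (hfixB b hb).2 hb4
    refine ⟨Lab.ev M hb, hb4, d, ⟨hdA, fun x σ => ?_⟩, ?_⟩
    · have h2 := comm_of_C hdA (htA x)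
      have h3 := comm_of_C hdB (inv_mem' M σ)
      have h4 := comm_of_C hdA (inv_mem (htA x))
      show d * (t x * inv M σ * (t x)⁻¹) = t x * inv M σ * (t x)⁻¹ * d
      rw [mul_assoc (t x * inv M σ), ← h4, ← mul_assoc, ← mul_assoc, h2, mul_assoc (t x) d, h3]
      group
    · show b * d = t 0 * inv M (Lab.ev M hb) * (t 0)⁻¹ * d
      rw [inv_surj M hBt, htC 0 b hbC]
  · -- odd
    rintro d ⟨hdA, hd⟩ hdd
    by_contra hd1
    refine h.ne (hA.eq_of_mem h.cj hd1 hdd hdA ?_)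
    rw [mem_C]
    intro b hb
    have h2 : d * (t 0 * inv M (Lab.ev M hb) * (t 0)⁻¹) = t 0 * inv M (Lab.ev M hb) * (t 0)⁻¹ * d :=
      hd 0 (Lab.ev M hb)
    rw [inv_surj M hBt] at h2
    have h3 := comm_of_C hdA (htA 0)
    calc d * b = (t 0)⁻¹ * (t 0 * d * b * (t 0)⁻¹) * t 0 := by group
      _ = (t 0)⁻¹ * (d * (t 0 * b * (t 0)⁻¹)) * t 0 := by rw [← h3]; group
      _ = (t 0)⁻¹ * (t 0 * b * (t 0)⁻¹ * d) * t 0 := by rw [h2]
      _ = b * ((t 0)⁻¹ * (d * t 0)) := by group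
      _ = b * d := by rw [h3]; group
  · -- fix
    intro a ha x
    have hc : (t x)⁻¹ * (a * t x) ∈ A := mul_mem (inv_mem (htA x)) (mul_mem ha (htA x))
    have h2 : (t x)⁻¹ * (a * t x) ∈ C B ↔ L.φ a x = x := by
      rw [h.fixA _ hc, L.mul _ _ (inv_mem (le_N (htA x))) (mul_mem (le_N ha) (le_N (htA x))),
        L.inv (le_N (htA x)), L.mul _ _ (le_N ha) (le_N (htA x)), Perm.mul_apply, Perm.mul_apply,
        hti, Perm.inv_eq_iff_eq, hti]
    rw [← h2, mem_C]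
    constructor
    · intro h3 b hb
      have h4 : a * (t x * inv M (Lab.ev M hb) * (t x)⁻¹) = t x * inv M (Lab.ev M hb) * (t x)⁻¹ * a :=
        h3 (Lab.ev M hb)
      rw [inv_surj M hBt] at h4
      calc (t x)⁻¹ * (a * t x) * b = (t x)⁻¹ * (a * (t x * b * (t x)⁻¹)) * t x := by group
        _ = (t x)⁻¹ * (t x * b * (t x)⁻¹ * a) * t x := by rw [h4]
        _ = b * ((t x)⁻¹ * (a * t x)) := by group
    · intro h3 σ
      have h4 := h3 _ (inv_mem' M σ)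
      show a * (t x * inv M σ * (t x)⁻¹) = t x * inv M σ * (t x)⁻¹ * a
      calc a * (t x * inv M σ * (t x)⁻¹) = t x * ((t x)⁻¹ * (a * t x) * inv M σ) * (t x)⁻¹ := by group
        _ = t x * (inv M σ * ((t x)⁻¹ * (a * t x))) * (t x)⁻¹ := by rw [h4]
        _ = t x * inv M σ * (t x)⁻¹ * a := by group

/-- **Type two.** -/
theorem typeTwo_of_inv [Finite G] (L : Lab A (Fin 5)) (hA : TE A) (hF : HasFour A)
    (hK : ∃ x : G, ∃ a ∈ A, a ≠ 1 ∧ a * a = 1 ∧ x * a * x⁻¹ ∈ C A) : ∃ β, TypeTwo A L.φ β := by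
  obtain ⟨x, a, ha, ha1, haa, hx⟩ := hK
  have hxB : a ∈ C (Conj.cj x⁻¹ A) := by
    rw [mem_C_cj, inv_inv]; exact hx
  have hne : A ≠ Conj.cj x⁻¹ A := by
    intro e
    rw [← e] at hxB
    exact ha1 (hA.disj a ha hxB)
  obtain ⟨i, j, h⟩ := exists_twoP L (L.cj x⁻¹) hA (Cj.cj A x⁻¹) hne hF ha ha1 haa hxB
  exact exists_typeTwo h

end Cfsg.Agent.StdAlt.Five
end
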