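import Cfsg.Agent.StdAlt.Five.Swap_m3
import Cfsg.Agent.StdAlt.Pairs
import Cfsg.Agent.StdAlt.CaseB
import Mathlib
import Cfsg.Agent.J2Sylow.Model
import Cfsg.Agent.S0111
import Cfsg.Agent.StdAlt.Conj
import Cfsg.Agent.S0949
import Cfsg.Agent.PermutationGroups.OddKlein
import Cfsg.Agent.TwoFusion.StronglyEmbeddedBasic
import Cfsg.Prelude.Def_TwoFusion
import Cfsg.Agent.J2Sylow.InvSylow
import Cfsg.Prelude.Def_Spor_J2
import Cfsg.Agent.ProdFusion.FunctorComplete_m3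
import Cfsg.Agent.Lib.Cores
import Cfsg.Agent.MTwelveType.SylowModel
import Cfsg.Agent.S1347
import Cfsg.Agent.J2Sylow.MainGW
import Cfsg.Agent.S0483
import Cfsg.Agent.StdAlt.Six.Main
import Cfsg.Agent.FastGrp
import Cfsg.Agent.Prune
set_option linter.all false

section
prune_inst 0x7ff0fefb8ffcbddeffff7e7ffffddffdfdfcffffffdffbcbffedebffcfdf4befffe5fbaf9fec58fddef7e2b6b0f87b53f9ffce7fef6bdc7ffffd5ff45ffbff9fffffbd8911f698340f7e6ffffbf17fffffffffffffffffffffffffffffffffffffffffffffff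

-- part: StdAlt/Five/PExists
section
set_option linter.all false
open scoped Cfsg.Agent.FastGrp

/-!
# S1766, n = 5, case (I): existence of the 2-group `P` of order 64
-/

set_option autoImplicit false

namespace Cfsg.Agent.StdAlt.Five.PExists

open Subgroup Cfsg.Agent.StdAlt.Conj Cfsg.Agent.J2Sylow.Model Cfsg.Agent.StdAlt.Five
open Cfsg.Agent.StdAlt.Five.Sec4 Cfsg.Agent.StdAlt.Five.PGroup

variable {G : Type*} [Group G] {A R V : Subgroup G} {ρ g : G}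

/-- the centralizer of `V` and `E/V` in `N(E)` -/
def W0 (h : OddE A R V ρ g) : Subgroup G where
  carrier := {x | x ∈ N (R ⊔ V) ∧ (∀ v ∈ V, x * v = v * x) ∧ ∀ r ∈ R, x * r * x⁻¹ * r⁻¹ ∈ V}
  mul_mem' := by
    rintro x y ⟨hx1, hx2, hx3⟩ ⟨hy1, hy2, hy3⟩
    refine ⟨mul_mem hx1 hy1, fun v hv => ?_, fun r hr => ?_⟩
    · rw [mul_assoc, hy2 v hv, ← mul_assoc, hx2 v hv, mul_assoc]
    · have h1 := hx2 _ (hy3 r hr)
      have : x * y * r * (x * y)⁻¹ * r⁻¹ = (y * r * y⁻¹ * r⁻¹) * (x * r * x⁻¹ * r⁻¹) := by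
        calc x * y * r * (x * y)⁻¹ * r⁻¹ = (x * (y * r * y⁻¹ * r⁻¹)) * r * x⁻¹ * r⁻¹ := by group
          _ = _ := by rw [h1]; group
      rw [this]
      exact mul_mem (hy3 r hr) (hx3 r hr)
  one_mem' := ⟨one_mem _, fun v _ => by rw [one_mul, mul_one], fun r _ => by
    have : (1 : G) * r * 1⁻¹ * r⁻¹ = 1 := by group
    rw [this]; exact one_mem _⟩
  inv_mem' := by
    rintro x ⟨hx1, hx2, hx3⟩
    refine ⟨inv_mem hx1, fun v hv => ?_, fun r hr => ?_⟩
    · have := hx2 v hv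
      calc x⁻¹ * v = x⁻¹ * (v * x) * x⁻¹ := by group
        _ = v * x⁻¹ := by rw [← this]; group
    · have h1 := hx2 _ (inv_mem (hx3 r hr))
      have : x⁻¹ * r * x⁻¹⁻¹ * r⁻¹ = (x * r * x⁻¹ * r⁻¹)⁻¹ := by
        calc x⁻¹ * r * x⁻¹⁻¹ * r⁻¹ = x⁻¹ * ((x * r * x⁻¹ * r⁻¹)⁻¹ * x) * (r * r⁻¹) := by group
          _ = _ := by rw [← h1]; group
      rw [this]
      exact inv_mem (hx3 r hr)

variable (h : OddE A R V ρ g)
include h

theorem W0_E {x : G} (hx : x ∈ W0 h) {e : G} (he : e ∈ R ⊔ V) : x * e * x⁻¹ * e⁻¹ ∈ V := by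
  obtain ⟨-, h2, h3⟩ := hx
  obtain ⟨r, hr, v, hv, rfl⟩ := (mem_E h).1 he
  have h4 := h2 v hv
  have : x * (r * v) * x⁻¹ * (r * v)⁻¹ = x * r * x⁻¹ * r⁻¹ := by
    calc x * (r * v) * x⁻¹ * (r * v)⁻¹ = x * r * x⁻¹ * (x * v) * x⁻¹ * v⁻¹ * r⁻¹ := by group
      _ = _ := by rw [h4]; group
  rw [this]
  exact h3 r hr

theorem W0_conj [Finite G] {n x : G} (hn : n ∈ N (R ⊔ V)) (hx : x ∈ W0 h) : n * x * n⁻¹ ∈ W0 h := by
  refine ⟨mul_mem (mul_mem hn hx.1) (inv_mem hn), fun v hv => ?_, fun r hr => ?_⟩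
  · have h1 := hx.2.1 _ (normV h (inv_mem hn) hv)
    rw [inv_inv] at h1
    calc n * x * n⁻¹ * v = n * (x * (n⁻¹ * v * n)) * n⁻¹ := by group
      _ = v * (n * x * n⁻¹) := by rw [h1]; group
  · have h1 := W0_E h hx (E_conj h (inv_mem hn) (mem_sup_left hr))
    have h2 := normV h hn h1
    rw [show n * (x * (n⁻¹ * r * n⁻¹⁻¹) * x⁻¹ * (n⁻¹ * r * n⁻¹⁻¹)⁻¹) * n⁻¹ =
      n * x * n⁻¹ * r * (n * x * n⁻¹)⁻¹ * r⁻¹ by group] at h2
    exact h2

/-- odd elements of `C_G(E)` -/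
def Od (R V : Subgroup G) : Set G := {d | CE R V d ∧ Odd (orderOf d)}

omit h in
theorem orderOf_conj' (n x : G) : orderOf (n * x * n⁻¹) = orderOf x :=
  MulEquiv.orderOf_eq (MulAut.conj n) x

theorem CE_E {x : G} (hx : CE R V x) {e : G} (he : e ∈ R ⊔ V) : x * e = e * x := by
  obtain ⟨r, hr, v, hv, rfl⟩ := (mem_E h).1 he
  rw [← mul_assoc, hx.1 r hr, mul_assoc, hx.2 v hv, mul_assoc]

theorem CE_conj {n x : G} (hn : n ∈ N (R ⊔ V)) (hx : CE R V x) : CE R V (n * x * n⁻¹) := by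
  have key : ∀ e ∈ R ⊔ V, n * x * n⁻¹ * e = e * (n * x * n⁻¹) := by
    intro e he
    have h1 := CE_E h hx (E_conj h (inv_mem hn) he)
    rw [inv_inv] at h1
    calc n * x * n⁻¹ * e = n * (x * (n⁻¹ * e * n)) * n⁻¹ := by group
      _ = e * (n * x * n⁻¹) := by rw [h1]; group
  exact ⟨fun r hr => key r (mem_sup_left hr), fun v hv => key v (mem_sup_right hv)⟩

theorem Od_conj {n d : G} (hn : n ∈ N (R ⊔ V)) (hd : d ∈ Od R V) : n * d * n⁻¹ ∈ Od R V :=
  ⟨CE_conj h hn hd.1, by rw [orderOf_conj']; exact hd.2⟩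

theorem Od_A {d : G} (hd : d ∈ Od R V) : d ∈ C A := CE_odd h hd.1 hd.2

/-- `W0 ∩ C(Od)` -/
def Wc (h : OddE A R V ρ g) : Subgroup G := W0 h ⊓ centralizer (Od R V)

theorem mem_Wc {x : G} : x ∈ Wc h ↔ x ∈ W0 h ∧ ∀ d ∈ Od R V, x * d = d * x := by
  constructor
  · rintro ⟨h1, h2⟩
    exact ⟨h1, fun d hd => (mem_centralizer_iff.1 h2 d hd).symm⟩
  · rintro ⟨h1, h2⟩
    exact ⟨h1, mem_centralizer_iff.2 fun d hd => (h2 d hd).symm⟩

theorem Wc_conj [Finite G] {n x : G} (hn : n ∈ N (R ⊔ V)) (hx : x ∈ Wc h) : n * x * n⁻¹ ∈ Wc h := by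
  rw [mem_Wc] at hx ⊢
  refine ⟨W0_conj h hn hx.1, fun d hd => ?_⟩
  have h1 := hx.2 _ (Od_conj h (inv_mem hn) hd)
  rw [inv_inv] at h1
  calc n * x * n⁻¹ * d = n * (x * (n⁻¹ * d * n)) * n⁻¹ := by group
    _ = d * (n * x * n⁻¹) := by rw [h1]; group

/-- the homomorphism `x ↦ [x, r]` -/
def fhom (h : OddE A R V ρ g) {r : G} (hr : r ∈ R) : ↥(W0 h) →* ↥V where
  toFun x := ⟨x * r * (x : G)⁻¹ * r⁻¹, x.2.2.2 r hr⟩
  map_one' := Subtype.ext (by show (1 : G) * r * 1⁻¹ * r⁻¹ = 1; group)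
  map_mul' := by
    rintro ⟨x, hx⟩ ⟨y, hy⟩
    apply Subtype.ext
    show x * y * r * (x * y)⁻¹ * r⁻¹ = (x * r * x⁻¹ * r⁻¹) * (y * r * y⁻¹ * r⁻¹)
    have h1 := hx.2.1 _ (hy.2.2 r hr)
    rw [commV h (hx.2.2 r hr) (hy.2.2 r hr)]
    calc x * y * r * (x * y)⁻¹ * r⁻¹ = (x * (y * r * y⁻¹ * r⁻¹)) * r * x⁻¹ * r⁻¹ := by group
      _ = _ := by rw [h1]; group

theorem W0_cent {x r₀ : G} (hx : x ∈ W0 h) (hr₀ : r₀ ∈ R) (h1 : r₀ ≠ 1) (hc : x * r₀ = r₀ * x) :
    CE R V x :=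
  ⟨fun _ hr => cent_R h hx.1 hx.2.2 hr₀ h1 hc hr, hx.2.1⟩

theorem exists_r : ∃ r ∈ R, r ≠ 1 := by
  haveI : Finite R := Nat.finite_of_card_ne_zero (by rw [h.cardR]; norm_num)
  haveI : Nontrivial R := (Finite.one_lt_card_iff_nontrivial).mp (by rw [h.cardR]; norm_num)
  obtain ⟨⟨r, hr⟩, hr1⟩ := exists_ne (1 : R)
  exact ⟨r, hr, fun e => hr1 (Subtype.ext e)⟩

theorem exists_v : ∃ v ∈ V, v ≠ 1 := by
  haveI : Finite V := Nat.finite_of_card_ne_zero (by rw [h.cardV]; norm_num)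
  haveI : Nontrivial V := (Finite.one_lt_card_iff_nontrivial).mp (by rw [h.cardV]; norm_num)
  obtain ⟨⟨r, hr⟩, hr1⟩ := exists_ne (1 : V)
  exact ⟨r, hr, fun e => hr1 (Subtype.ext e)⟩

/-- elements of odd order of `W0` centralize `E` -/
theorem W0_odd {x : G} (hx : x ∈ W0 h) (ho : Odd (orderOf x)) : CE R V x := by
  obtain ⟨r, hr, hr1⟩ := exists_r h
  have h1 : (fhom h hr ⟨x, hx⟩) ^ orderOf x = 1 := by
    rw [← map_pow]
    have : (⟨x, hx⟩ : ↥(W0 h)) ^ orderOf x = 1 := Subtype.ext (pow_orderOf_eq_one x)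
    rw [this, map_one]
  have h2 : (fhom h hr ⟨x, hx⟩) * (fhom h hr ⟨x, hx⟩) = 1 := Subtype.ext (h.sqV _ (fhom h hr ⟨x, hx⟩).2)
  have h3 : fhom h hr ⟨x, hx⟩ = 1 := by
    obtain ⟨k, hk⟩ := ho
    rw [hk, pow_add, pow_mul, pow_two, h2, one_pow, one_mul, pow_one] at h1
    exact h1
  refine W0_cent h hx hr hr1 ?_
  have h4 : x * r * x⁻¹ * r⁻¹ = 1 := congrArg Subtype.val h3
  calc x * r = (x * r * x⁻¹ * r⁻¹) * (r * x) := by group
    _ = r * x := by rw [h4, one_mul]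

/-- odd elements of `Wc` are central in `Wc` -/
theorem Wc_odd {x y : G} (hx : x ∈ Wc h) (ho : Odd (orderOf x)) (hy : y ∈ Wc h) : y * x = x * y :=
  ((mem_Wc h).1 hy).2 x ⟨W0_odd h ((mem_Wc h).1 hx).1 ho, ho⟩

theorem sylow_normal [Finite G] (Q : Sylow 2 ↥(Wc h)) : (Q : Subgroup ↥(Wc h)).Normal := by
  have key : (normalizer ((Q : Subgroup ↥(Wc h)) : Set ↥(Wc h))).index = 1 := by
    by_contra hcon
    obtain ⟨p, hp, hdvd⟩ := Nat.exists_prime_and_dvd hcon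
    haveI := Fact.mk hp
    by_cases h2 : p = 2
    · subst h2
      have h1 : (normalizer ((Q : Subgroup ↥(Wc h)) : Set ↥(Wc h))).index ∣ (Q : Subgroup ↥(Wc h)).index :=
        index_dvd_of_le le_normalizer
      exact Q.not_dvd_index (hdvd.trans h1)
    · obtain ⟨T⟩ : Nonempty (Sylow p ↥(Wc h)) := inferInstance
      have hT : (T : Subgroup ↥(Wc h)) ≤ normalizer ((Q : Subgroup ↥(Wc h)) : Set ↥(Wc h)) := by
        intro t ht
        have ho : Odd (orderOf (t : G)) := by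
          obtain ⟨k, hk⟩ := (IsPGroup.iff_orderOf.1 T.isPGroup') ⟨t, ht⟩
          have : orderOf (t : G) = p ^ k := by
            rw [Subgroup.orderOf_mk] at hk
            rw [Subgroup.orderOf_coe, hk]
          rw [this]
          exact (hp.odd_of_ne_two h2).pow
        apply mem_normalizer_fintype
        intro n hn
        have h3 : (n : G) * t = t * n := Wc_odd h t.2 ho n.2
        have h4 : t * n * t⁻¹ = n := by
          apply Subtype.ext
          show (t : G) * n * (t : G)⁻¹ = n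
          rw [← h3]; group
        rw [h4]
        exact hn
      exact T.not_dvd_index (hdvd.trans (index_dvd_of_le hT))
  rw [index_eq_one] at key
  exact normalizer_eq_top_iff.1 key

/-- `P` is the set of 2-elements of `Wc` -/
theorem exists_P [Finite G] : ∃ P : Subgroup G, IsPGroup 2 P ∧ P ≤ Wc h ∧
    ∀ x ∈ Wc h, (∃ k : ℕ, x ^ (2 ^ k) = 1) → x ∈ P := by
  obtain ⟨Q⟩ : Nonempty (Sylow 2 ↥(Wc h)) := inferInstance
  have hQ := sylow_normal h Q
  refine ⟨(Q : Subgroup ↥(Wc h)).map (Wc h).subtype, Q.isPGroup'.map _, ?_, ?_⟩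
  · rintro _ ⟨y, -, rfl⟩
    exact y.2
  · rintro x hx ⟨k, hk⟩
    refine ⟨⟨x, hx⟩, ?_, rfl⟩
    have h1 : IsPGroup 2 (zpowers (⟨x, hx⟩ : ↥(Wc h))) := by
      have h2 : Nat.card (zpowers (⟨x, hx⟩ : ↥(Wc h))) ∣ 2 ^ k := by
        rw [Nat.card_zpowers]
        exact orderOf_dvd_of_pow_eq_one (Subtype.ext hk)
      obtain ⟨m, -, hm⟩ := (Nat.dvd_prime_pow Nat.prime_two).1 h2
      exact IsPGroup.of_card hm
    obtain ⟨Q', hQ'⟩ := h1.exists_le_sylow
    haveI := Sylow.unique_of_normal Q hQ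
    rw [Subsingleton.elim Q' Q] at hQ'
    exact hQ' (mem_zpowers _)

theorem E_le_Wc [Finite G] {e : G} (he : e ∈ R ⊔ V) : e ∈ Wc h := by
  rw [mem_Wc]
  refine ⟨⟨le_N he, fun v hv => E_comm h he (mem_sup_right hv), fun r hr => ?_⟩, fun d hd => ?_⟩
  · rw [E_comm h he (mem_sup_left hr), mul_inv_cancel_right, mul_inv_cancel]
    exact one_mem _
  · exact (CE_E h hd.1 he).symm

/-- an element of `A ^ g` of order 3 acts on `V` as `ρ` or `ρ⁻¹` -/
theorem exists_σ [Finite G] : ∃ σ : G, (σ = ρ ∨ σ = ρ⁻¹) ∧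
    ∀ v ∈ V, (g * ρ * g⁻¹) * v * (g * ρ * g⁻¹)⁻¹ = σ * v * σ⁻¹ := by
  obtain ⟨v, hv, hv1⟩ := exists_v h
  set τ := g * ρ * g⁻¹ with hτ
  have hg := h.gE
  have τV : ∀ v ∈ V, τ * v * τ⁻¹ ∈ V := by
    intro v hv
    have h1 := normV h (inv_mem hg) hv
    have h2 := normV h hg (h.ρV _ h1)
    rwa [show g * (ρ * (g⁻¹ * v * g⁻¹⁻¹) * ρ⁻¹) * g⁻¹ = τ * v * τ⁻¹ by rw [hτ]; group] at h2
  have τfix : ∀ v ∈ V, v ≠ 1 → τ * v * τ⁻¹ ≠ v := by
    intro v hv hv1 e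
    have h1 := normV h (inv_mem hg) hv
    rw [inv_inv] at h1
    refine h.ρfix _ h1 ?_ ?_
    · intro e1
      apply hv1
      rw [show v = g * (g⁻¹ * v * g) * g⁻¹ by group, e1]; group
    · calc ρ * (g⁻¹ * v * g) * ρ⁻¹ = g⁻¹ * (τ * v * τ⁻¹) * g := by rw [hτ]; group
        _ = g⁻¹ * v * g := by rw [e]
  have τ3 : ∀ x : G, τ * (τ * (τ * x * τ⁻¹) * τ⁻¹) * τ⁻¹ = x := by
    intro x
    have h1 := ρ3' h (g⁻¹ * x * g)
    calc τ * (τ * (τ * x * τ⁻¹) * τ⁻¹) * τ⁻¹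
        = g * (ρ * (ρ * (ρ * (g⁻¹ * x * g) * ρ⁻¹) * ρ⁻¹) * ρ⁻¹) * g⁻¹ := by rw [hτ]; group
      _ = x := by rw [h1]; group
  -- the argument for `σ` with `σ` free on `V`
  have key : ∀ σ : G, (∀ w ∈ V, w ≠ 1 → ∀ x ∈ V, x = 1 ∨ x = w ∨ x = σ * w * σ⁻¹ ∨
      x = σ * (σ * w * σ⁻¹) * σ⁻¹) → (∀ x, σ * (σ * (σ * x * σ⁻¹) * σ⁻¹) * σ⁻¹ = x) →
      τ * v * τ⁻¹ = σ * v * σ⁻¹ → (∀ w ∈ V, σ * w * σ⁻¹ ∈ V) →
      ∀ w ∈ V, τ * w * τ⁻¹ = σ * w * σ⁻¹ := by
    intro σ hel h3 e0 hσV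
    set v1 := σ * v * σ⁻¹ with hv1d
    set v2 := σ * v1 * σ⁻¹ with hv2d
    have m1 : v1 ∈ V := hσV _ hv
    have m2 : v2 ∈ V := hσV _ m1
    have n1 : v1 ≠ 1 := by
      intro e
      apply hv1
      rw [show v = σ⁻¹ * v1 * σ by rw [hv1d]; group, e]; group
    have n2 : v2 ≠ 1 := by
      intro e
      apply n1
      rw [show v1 = σ⁻¹ * v2 * σ by rw [hv2d]; group, e]; group
    have e1 : τ * v1 * τ⁻¹ = v2 := by
      rcases hel v hv hv1 _ (τV _ m1) with e | e | e | e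
      · exfalso
        apply n1
        rw [show v1 = τ⁻¹ * (τ * v1 * τ⁻¹) * τ by group, e]; group
      · exfalso
        have h4 := τ3 v
        rw [e0, e] at h4
        rw [e0] at h4
        exact τfix v hv hv1 (by rw [e0]; exact h4)
      · exact absurd e (τfix v1 m1 n1)
      · exact e
    have e2 : τ * v2 * τ⁻¹ = σ * v2 * σ⁻¹ := by
      have h4 := τ3 v
      rw [e0, e1] at h4
      rw [h4]
      exact (h3 v).symm
    intro w hw
    rcases hel v hv hv1 w hw with e | e | e | e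
    · rw [e]; group
    · rw [e, e0]
    · rw [e, e1]
    · rw [e, e2]
  have hσ' : ∀ w ∈ V, w ≠ 1 → ∀ x ∈ V, x = 1 ∨ x = w ∨ x = ρ⁻¹ * w * ρ⁻¹⁻¹ ∨
      x = ρ⁻¹ * (ρ⁻¹ * w * ρ⁻¹⁻¹) * ρ⁻¹⁻¹ := by
    intro w hw hw1 x hx
    have e1 : ρ⁻¹ * w * ρ⁻¹⁻¹ = ρ * (ρ * w * ρ⁻¹) * ρ⁻¹ := by
      have := ρ3' h w
      calc ρ⁻¹ * w * ρ⁻¹⁻¹ = ρ⁻¹ * (ρ * (ρ * (ρ * w * ρ⁻¹) * ρ⁻¹) * ρ⁻¹) * ρ⁻¹⁻¹ := by rw [this]
        _ = _ := by group
    have e2 : ρ⁻¹ * (ρ⁻¹ * w * ρ⁻¹⁻¹) * ρ⁻¹⁻¹ = ρ * w * ρ⁻¹ := by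
      rw [e1]; group
    rw [e2, e1]
    rcases V_elts h hw hw1 hx with e | e | e | e
    · exact Or.inl e
    · exact Or.inr (Or.inl e)
    · exact Or.inr (Or.inr (Or.inr e))
    · exact Or.inr (Or.inr (Or.inl e))
  rcases V_elts h hv hv1 (τV v hv) with e | e | e | e
  · exfalso
    apply hv1
    rw [show v = τ⁻¹ * (τ * v * τ⁻¹) * τ by group, e]; group
  · exact absurd e (τfix v hv hv1)
  · exact ⟨ρ, Or.inl rfl, key ρ (fun w hw hw1 x hx => V_elts h hw hw1 hx) (ρ3' h) e h.ρV⟩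
  · refine ⟨ρ⁻¹, Or.inr rfl, key ρ⁻¹ hσ' ?_ ?_ ?_⟩
    · intro x
      have := ρ3' h x
      calc ρ⁻¹ * (ρ⁻¹ * (ρ⁻¹ * x * ρ⁻¹⁻¹) * ρ⁻¹⁻¹) * ρ⁻¹⁻¹
          = ρ⁻¹ * (ρ⁻¹ * (ρ⁻¹ * (ρ * (ρ * (ρ * x * ρ⁻¹) * ρ⁻¹) * ρ⁻¹) * ρ⁻¹⁻¹) * ρ⁻¹⁻¹) * ρ⁻¹⁻¹ := by
            rw [this]
        _ = x := by group
    · rw [e]
      have := ρ3' h v
      calc ρ * (ρ * v * ρ⁻¹) * ρ⁻¹ = ρ⁻¹ * (ρ * (ρ * (ρ * v * ρ⁻¹) * ρ⁻¹) * ρ⁻¹) * ρ⁻¹⁻¹ := by group
        _ = ρ⁻¹ * v * ρ⁻¹⁻¹ := by rw [this]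
    · intro w hw
      exact normV h (inv_mem (ρE h)) hw

/-- the element `δ` -/
theorem exists_δ [Finite G] : ∃ δ ∈ Wc h, ∀ r ∈ R, r ≠ 1 → δ * r * δ⁻¹ * r⁻¹ ≠ 1 := by
  obtain ⟨σ, hσ, hσV⟩ := exists_σ h
  set τ := g * ρ * g⁻¹ with hτ
  have hρE := ρE h
  have hσE : σ ∈ N (R ⊔ V) := by
    rcases hσ with e | e
    · rw [e]; exact hρE
    · rw [e]; exact inv_mem hρE
  have hσR : ∀ r ∈ R, σ * r = r * σ := by
    intro r hr
    have h1 := comm_of_C (h.R_le hr) h.ρ_mem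
    rcases hσ with e | e
    · rw [e]; exact h1.symm
    · rw [e]
      calc ρ⁻¹ * r = ρ⁻¹ * (r * ρ) * ρ⁻¹ := by group
        _ = r * ρ⁻¹ := by rw [h1]; group
  have hτE : τ ∈ N (R ⊔ V) := mul_mem (mul_mem h.gE hρE) (inv_mem h.gE)
  have hcomm : ∀ d ∈ Od R V, σ * d = d * σ := by
    intro d hd
    have h1 := comm_of_C (Od_A h hd) h.ρ_mem
    rcases hσ with e | e
    · rw [e]; exact h1.symm
    · rw [e]
      calc ρ⁻¹ * d = ρ⁻¹ * (d * ρ) * ρ⁻¹ := by group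
        _ = d * ρ⁻¹ := by rw [h1]; group
  have hcommτ : ∀ d ∈ Od R V, τ * d = d * τ := by
    intro d hd
    have h0 := Od_conj h (inv_mem h.gE) hd
    rw [inv_inv] at h0
    have h1 := comm_of_C (Od_A h h0) h.ρ_mem
    rw [hτ]
    calc g * ρ * g⁻¹ * d = g * (ρ * (g⁻¹ * d * g)) * g⁻¹ := by group
      _ = g * ((g⁻¹ * d * g) * ρ) * g⁻¹ := by rw [h1]
      _ = d * (g * ρ * g⁻¹) := by group
  -- the commutator with `r`
  have hf : ∀ r ∈ R, r ≠ 1 → (σ⁻¹ * τ) * r * (σ⁻¹ * τ)⁻¹ * r⁻¹ ∈ V ∧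
      (σ⁻¹ * τ) * r * (σ⁻¹ * τ)⁻¹ * r⁻¹ ≠ 1 := by
    intro r hr hr1
    obtain ⟨s, hs, hs1, b, hb, hb1, e⟩ := exists_g h hr hr1
    have e1 : τ * (r * b) * τ⁻¹ = r * b := by
      rw [← e, hτ]
      have := ρR h hs
      calc g * ρ * g⁻¹ * (g * s * g⁻¹) * (g * ρ * g⁻¹)⁻¹ = g * (ρ * s * ρ⁻¹) * g⁻¹ := by group
        _ = g * s * g⁻¹ := by rw [this]
    have e2 : τ * r * τ⁻¹ = r * (b * (τ * b * τ⁻¹)⁻¹) := by
      calc τ * r * τ⁻¹ = (τ * (r * b) * τ⁻¹) * (τ * b * τ⁻¹)⁻¹ := by group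
        _ = r * (b * (τ * b * τ⁻¹)⁻¹) := by rw [e1]; group
    set c := b * (τ * b * τ⁻¹)⁻¹ with hc
    have hτb : τ * b * τ⁻¹ ∈ V := normV h hτE hb
    have hcV : c ∈ V := mul_mem hb (inv_mem hτb)
    have hc1 : c ≠ 1 := by
      intro e3
      rw [hc, mul_inv_eq_one] at e3
      rw [hσV b hb] at e3
      rcases hσ with e4 | e4
      · rw [e4] at e3
        exact h.ρfix b hb hb1 e3.symm
      · rw [e4] at e3
        apply h.ρfix b hb hb1
        nth_rewrite 1 [e3]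
        group
    have e3 : (σ⁻¹ * τ) * r * (σ⁻¹ * τ)⁻¹ * r⁻¹ = σ⁻¹ * c * σ⁻¹⁻¹ := by
      have h1 := hσR r hr
      have h2 := comm_RV h hr hcV
      calc (σ⁻¹ * τ) * r * (σ⁻¹ * τ)⁻¹ * r⁻¹ = σ⁻¹ * (τ * r * τ⁻¹) * (σ * r⁻¹) := by group
        _ = σ⁻¹ * (r * c) * (σ * r⁻¹) := by rw [e2]
        _ = σ⁻¹ * (c * r) * (σ * r⁻¹) := by rw [h2]
        _ = σ⁻¹ * c * (r * σ) * r⁻¹ := by group
        _ = σ⁻¹ * c * σ⁻¹⁻¹ := by rw [← h1]; group
    rw [e3]
    refine ⟨normV h (inv_mem hσE) hcV, ?_⟩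
    intro e4
    apply hc1
    rw [show c = σ * (σ⁻¹ * c * σ⁻¹⁻¹) * σ⁻¹ by group, e4]; group
  refine ⟨σ⁻¹ * τ, ?_, fun r hr hr1 => (hf r hr hr1).2⟩
  rw [mem_Wc]
  refine ⟨⟨mul_mem (inv_mem hσE) hτE, fun v hv => ?_, fun r hr => ?_⟩, fun d hd => ?_⟩
  · have h1 := hσV v hv
    calc σ⁻¹ * τ * v = σ⁻¹ * (τ * v * τ⁻¹) * τ := by group
      _ = v * (σ⁻¹ * τ) := by rw [h1]; group
  · by_cases hr1 : r = 1
    · have : (σ⁻¹ * τ) * r * (σ⁻¹ * τ)⁻¹ * r⁻¹ = 1 := by rw [hr1]; group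
      rw [this]; exact one_mem _
    · exact (hf r hr hr1).1
  · have h1 := hcomm d hd
    have h2 := hcommτ d hd
    calc σ⁻¹ * τ * d = σ⁻¹ * (d * τ) := by rw [mul_assoc, h2]
      _ = σ⁻¹ * (d * σ) * σ⁻¹ * τ := by group
      _ = d * (σ⁻¹ * τ) := by rw [← h1]; group

end Cfsg.Agent.StdAlt.Five.PExists
end

-- part: StdAlt/Five/PData
section
set_option linter.all false
open scoped Cfsg.Agent.FastGrp

/-!
# S1766, n = 5, case (I): the data of `P`
-/

set_option autoImplicit false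

namespace Cfsg.Agent.StdAlt.Five.PData

open Subgroup Cfsg.Agent.StdAlt.Conj Cfsg.Agent.J2Sylow.Model Cfsg.Agent.StdAlt.Five
open Cfsg.Agent.StdAlt.Five.Sec4 Cfsg.Agent.StdAlt.Five.PGroup Cfsg.Agent.StdAlt.Five.PExists

variable {G : Type*} [Group G] {A R V : Subgroup G} {ρ g : G}

/-- the properties of `P` -/
structure IsP (h : OddE A R V ρ g) (P : Subgroup G) : Prop where
  two : IsPGroup 2 P
  le : P ≤ Wc h
  mem : ∀ x ∈ Wc h, (∃ k : ℕ, x ^ (2 ^ k) = 1) → x ∈ P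

variable {h : OddE A R V ρ g} {P : Subgroup G} (hP : IsP h P)
include hP

theorem pow_two_of_mem {x : G} (hx : x ∈ P) : ∃ k : ℕ, x ^ (2 ^ k) = 1 := by
  obtain ⟨k, hk⟩ := hP.two ⟨x, hx⟩
  exact ⟨k, congrArg Subtype.val hk⟩

theorem norm [Finite G] {n x : G} (hn : n ∈ N (R ⊔ V)) (hx : x ∈ P) : n * x * n⁻¹ ∈ P := by
  obtain ⟨k, hk⟩ := pow_two_of_mem hP hx
  refine hP.mem _ (Wc_conj h hn (hP.le hx)) ⟨k, ?_⟩
  rw [conj_pow, hk]; group

theorem E_le [Finite G] {e : G} (he : e ∈ R ⊔ V) : e ∈ P :=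
  hP.mem _ (E_le_Wc h he) ⟨1, by rw [pow_one, pow_two, E_sq h he]⟩

theorem cent {x v : G} (hx : x ∈ P) (hv : v ∈ V) : x * v = v * x :=
  ((mem_Wc h).1 (hP.le hx)).1.2.1 v hv

theorem comm_mem {x r : G} (hx : x ∈ P) (hr : r ∈ R) : x * r * x⁻¹ * r⁻¹ ∈ V :=
  ((mem_Wc h).1 (hP.le hx)).1.2.2 r hr

theorem P_N {x : G} (hx : x ∈ P) : x ∈ N (R ⊔ V) := ((mem_Wc h).1 (hP.le hx)).1.1

theorem free [Finite G] {x r : G} (hx : x ∈ P) (hr : r ∈ R) (hr1 : r ≠ 1) (hc : x * r = r * x) :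
    x ∈ R ⊔ V :=
  CE_two h (W0_cent h ((mem_Wc h).1 (hP.le hx)).1 hr hr1 hc) (pow_two_of_mem hP hx)

/-- squares of `P` are in `V` -/
theorem sq [Finite G] {x : G} (hx : x ∈ P) : x * x ∈ V := by
  obtain ⟨r₀, hr₀, hr₀1⟩ := exists_r h
  have hxx : x * x ∈ P := mul_mem hx hx
  have h1 : x * x ∈ R ⊔ V := by
    refine free hP hxx hr₀ hr₀1 ?_
    have h2 := comm_mem hP hx hr₀
    have h3 := cent hP hx h2
    have h4 := h.sqV _ h2
    calc x * x * r₀ = (x * (x * r₀ * x⁻¹ * r₀⁻¹)) * r₀ * x := by group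
      _ = (x * r₀ * x⁻¹ * r₀⁻¹) * (x * r₀ * x⁻¹ * r₀⁻¹) * r₀ * x * x := by rw [h3]; group
      _ = r₀ * (x * x) := by rw [h4]; group
  obtain ⟨r, hr, v, hv, e⟩ := (mem_E h).1 h1
  by_cases hr1 : r = 1
  · rw [e, hr1, one_mul]; exact hv
  exfalso
  obtain ⟨n, hn, s, hs, hs1, e2⟩ := exists_conj_E h hr hr1 hv
  have hy : n⁻¹ * x * n⁻¹⁻¹ ∈ P := norm hP (inv_mem hn) hx
  set y := n⁻¹ * x * n⁻¹⁻¹ with hyd
  have hyy : y * y = s := by
    calc y * y = n⁻¹ * (x * x) * n := by rw [hyd]; group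
      _ = n⁻¹ * (n * s * n⁻¹) * n := by rw [e, e2]
      _ = s := by group
  have hyE : y ∈ R ⊔ V := free hP hy hs hs1 (by rw [← hyy]; group)
  apply hs1
  rw [← hyy]
  exact E_sq h hyE

/-- the homomorphism `P → V`, `x ↦ [x, r]` -/
def ψ (hP : IsP h P) {r : G} (hr : r ∈ R) : ↥P →* ↥V :=
  (fhom h hr).comp (inclusion (fun _ hx => ((mem_Wc h).1 (hP.le hx)).1))

theorem ψ_apply {r : G} (hr : r ∈ R) (x : ↥P) : (ψ hP hr x : G) = x * r * (x : G)⁻¹ * r⁻¹ := rfl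

theorem exists_δ' [Finite G] : ∃ δ ∈ P, ∀ r ∈ R, r ≠ 1 → δ * r * δ⁻¹ * r⁻¹ ≠ 1 := by
  obtain ⟨δ, hδ, hδr⟩ := exists_δ h
  obtain ⟨a, b, ha, hb, hab, ha2, hbo⟩ := exists_two_odd δ
  have haW : a ∈ Wc h := (zpowers_le.2 hδ) ha
  have hbW : b ∈ Wc h := (zpowers_le.2 hδ) hb
  refine ⟨a, hP.mem a haW ha2, fun r hr hr1 e => hδr r hr hr1 ?_⟩
  have h1 := (W0_odd h ((mem_Wc h).1 hbW).1 hbo).1 r hr
  rw [hab]
  calc a * b * r * (a * b)⁻¹ * r⁻¹ = a * (b * r) * b⁻¹ * a⁻¹ * r⁻¹ := by group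
    _ = a * r * a⁻¹ * r⁻¹ := by rw [h1]; group
    _ = 1 := e

theorem ψ_surj [Finite G] {r : G} (hr : r ∈ R) (hr1 : r ≠ 1) : Function.Surjective (ψ hP hr) := by
  obtain ⟨δ, hδ, hδr⟩ := exists_δ' hP
  have hv := comm_mem hP hδ hr
  have hv1 := hδr r hr hr1
  set v := δ * r * δ⁻¹ * r⁻¹ with hvd
  have hρ := ρE h
  have step : ∀ x ∈ P, ρ * x * ρ⁻¹ ∈ P ∧
      (ρ * x * ρ⁻¹) * r * (ρ * x * ρ⁻¹)⁻¹ * r⁻¹ = ρ * (x * r * x⁻¹ * r⁻¹) * ρ⁻¹ := by
    intro x hx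
    refine ⟨norm hP hρ hx, ?_⟩
    have h1 := ρR h hr
    calc (ρ * x * ρ⁻¹) * r * (ρ * x * ρ⁻¹)⁻¹ * r⁻¹
        = ρ * x * (ρ⁻¹ * r * ρ) * x⁻¹ * (ρ⁻¹ * r⁻¹ * ρ) * ρ⁻¹ := by group
      _ = ρ * x * (ρ⁻¹ * (ρ * r * ρ⁻¹) * ρ) * x⁻¹ * (ρ⁻¹ * (ρ * r * ρ⁻¹)⁻¹ * ρ) * ρ⁻¹ := by rw [h1]
      _ = _ := by group
  rintro ⟨w, hw⟩
  rcases V_elts h hv hv1 hw with e | e | e | e
  · exact ⟨1, by rw [map_one]; exact Subtype.ext e.symm⟩
  · exact ⟨⟨δ, hδ⟩, Subtype.ext e.symm⟩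
  · exact ⟨⟨_, (step δ hδ).1⟩, Subtype.ext (by
      show (ρ * δ * ρ⁻¹) * r * (ρ * δ * ρ⁻¹)⁻¹ * r⁻¹ = w
      rw [(step δ hδ).2, e])⟩
  · exact ⟨⟨_, (step _ (step δ hδ).1).1⟩, Subtype.ext (by
      show (ρ * (ρ * δ * ρ⁻¹) * ρ⁻¹) * r * (ρ * (ρ * δ * ρ⁻¹) * ρ⁻¹)⁻¹ * r⁻¹ = w
      rw [(step _ (step δ hδ).1).2, (step δ hδ).2, e])⟩

omit hP in
theorem card_E [Finite G] (h : OddE A R V ρ g) : Nat.card ↥(R ⊔ V) = 16 := by
  let f : ↥R × ↥V → ↥(R ⊔ V) := fun p => ⟨p.1 * p.2, mul_mem (mem_sup_left p.1.2) (mem_sup_right p.2.2)⟩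
  have hf : Function.Bijective f := by
    constructor
    · rintro ⟨⟨r, hr⟩, ⟨v, hv⟩⟩ ⟨⟨r', hr'⟩, ⟨v', hv'⟩⟩ e
      have e1 : r * v = r' * v' := congrArg Subtype.val e
      have e2 : r'⁻¹ * r = v' * v⁻¹ := by
        rw [eq_mul_inv_iff_mul_eq, mul_assoc, e1]; group
      have e3 := inf_RV h (mul_mem (inv_mem hr') hr) (by rw [e2]; exact mul_mem hv' (inv_mem hv))
      have e4 : r = r' := by rw [inv_mul_eq_one] at e3; exact e3.symm
      subst e4
      have e5 := mul_left_cancel e1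
      subst e5
      rfl
    · rintro ⟨x, hx⟩
      obtain ⟨r, hr, v, hv, rfl⟩ := (mem_E h).1 hx
      exact ⟨(⟨r, hr⟩, ⟨v, hv⟩), rfl⟩
  rw [← Nat.card_congr (Equiv.ofBijective f hf), Nat.card_prod, h.cardR, h.cardV]

theorem card_P [Finite G] : Nat.card P = 64 := by
  obtain ⟨r, hr, hr1⟩ := exists_r h
  have h1 : Nat.card (ψ hP hr).ker = 16 := by
    rw [← card_E h]
    refine Nat.card_congr ⟨fun x => ⟨(x : ↥P), ?_⟩, fun e => ⟨⟨e, E_le hP e.2⟩, ?_⟩, fun _ => rfl,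
      fun _ => rfl⟩
    · refine free hP (x : ↥P).2 hr hr1 ?_
      have h2 := congrArg Subtype.val ((ψ hP hr).mem_ker.1 x.2)
      rw [ψ_apply] at h2
      have h2' : ((x : ↥P) : G) * r * ((x : ↥P) : G)⁻¹ * r⁻¹ = 1 := h2
      calc ((x : ↥P) : G) * r = (((x : ↥P) : G) * r * ((x : ↥P) : G)⁻¹ * r⁻¹) * (r * (x : ↥P)) := by group
        _ = r * (x : ↥P) := by rw [h2', one_mul]
    · rw [MonoidHom.mem_ker]
      apply Subtype.ext
      rw [ψ_apply]
      show (e : G) * r * (e : G)⁻¹ * r⁻¹ = 1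
      rw [E_comm h e.2 (mem_sup_left hr)]; group
  have h2 : (ψ hP hr).ker.index = 4 := by
    rw [index_ker, MonoidHom.range_eq_top.2 (ψ_surj hP hr hr1), ← h.cardV]
    exact Nat.card_congr (topEquiv (G := ↥V)).toEquiv
  have h3 := (ψ hP hr).ker.card_mul_index
  rw [h1, h2] at h3
  rw [← h3]

/-- the data for the coordinates -/
theorem data [Finite G] : Coord.Data R V P ρ where
  cardR := h.cardR
  cardB := h.cardV
  cardP := card_P hP
  sqR := h.sqR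
  sqB := h.sqV
  inf := fun _ hx hx' => inf_RV h hx hx'
  R_le := fun _ hx => E_le hP (mem_sup_left hx)
  B_le := fun _ hx => E_le hP (mem_sup_right hx)
  cent := fun _ hx _ hb => cent hP hx hb
  comm_mem := fun _ hx _ hr => comm_mem hP hx hr
  free := fun _ hx _ hr hr1 hc => (mem_E h).1 (free hP hx hr hr1 hc)
  sq := fun _ hx => sq hP hx
  ρP := fun _ hx => norm hP (ρE h) hx
  ρR := fun _ hr => PGroup.ρR h hr
  ρB := h.ρV
  ρ3 := fun x _ => ρ3' h x
  ρfix := fun b hb e => by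
    by_contra hb1
    exact h.ρfix b hb hb1 e

/-- `x ∈ W0` is a product of an element of `P` and an odd element of `C_G(E)` -/
theorem W0_fact [Finite G] {x : G} (hx : x ∈ W0 h) : ∃ p ∈ P, ∃ d ∈ Od R V, x = p * d := by
  obtain ⟨r, hr, hr1⟩ := exists_r h
  obtain ⟨⟨p, hp⟩, hpx⟩ := ψ_surj hP hr hr1 (fhom h hr ⟨x, hx⟩)
  have hpx' : p * r * p⁻¹ * r⁻¹ = x * r * x⁻¹ * r⁻¹ := congrArg Subtype.val hpx
  have hpW : p ∈ W0 h := ((mem_Wc h).1 (hP.le hp)).1
  have hy : p⁻¹ * x ∈ W0 h := mul_mem (inv_mem hpW) hx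
  have hc : p⁻¹ * x * r = r * (p⁻¹ * x) := by
    calc p⁻¹ * x * r = p⁻¹ * (x * r * x⁻¹ * r⁻¹) * (r * x) := by group
      _ = p⁻¹ * (p * r * p⁻¹ * r⁻¹) * (r * x) := by rw [hpx']
      _ = r * (p⁻¹ * x) := by group
  have hCE := W0_cent h hy hr hr1 hc
  obtain ⟨a, b, ha, hb, hab, ha2, hbo⟩ := exists_two_odd (p⁻¹ * x)
  have hpow : ∀ y ∈ zpowers (p⁻¹ * x), CE R V y := by
    rintro y ⟨n, rfl⟩
    refine ⟨fun s hs => ?_, fun v hv => ?_⟩
    · exact ((show Commute (p⁻¹ * x) s from hCE.1 s hs).zpow_left n).eq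
    · exact ((show Commute (p⁻¹ * x) v from hCE.2 v hv).zpow_left n).eq
  have haE := CE_two h (hpow a ha) ha2
  refine ⟨p * a, mul_mem hp (E_le hP haE), b, ⟨hpow b hb, hbo⟩, ?_⟩
  rw [mul_assoc, ← hab]; group

theorem Od_P {d p : G} (hd : d ∈ Od R V) (hp : p ∈ P) : p * d = d * p :=
  ((mem_Wc h).1 (hP.le hp)).2 d hd

/-- `N(E) = P (N(A) ∩ N(E))` -/
theorem fact [Finite G] {x : G} (hx : x ∈ N (R ⊔ V)) : ∃ p ∈ P, ∃ m ∈ N A, m ∈ N (R ⊔ V) ∧ x = p * m := by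
  obtain ⟨r, hr, hr1⟩ := exists_r h
  obtain ⟨s, hs, v, hv, e⟩ := (mem_E h).1 (E_conj h hx (mem_sup_left hr))
  have hs1 : s ≠ 1 := by
    intro e1
    rw [e1, one_mul] at e
    apply not_KT h (v := x * r * x⁻¹) (by rw [e]; exact hv)
    exact KT_conj (KT_R h hr hr1) x
  obtain ⟨⟨p, hp⟩, hpx⟩ := ψ_surj hP hs hs1 ⟨v, hv⟩
  have hpx' : p * s * p⁻¹ * s⁻¹ = v := congrArg Subtype.val hpx
  refine ⟨p, hp, p⁻¹ * x, ?_, mul_mem (inv_mem (P_N hP hp)) hx, by group⟩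
  refine h.te.key r (p⁻¹ * x) (h.R_le hr) hr1 (h.sqR r hr) ?_
  have : p⁻¹ * x * r * (p⁻¹ * x)⁻¹ = s := by
    have h1 := cent hP hp hv
    have h2 := comm_RV h hs hv
    calc p⁻¹ * x * r * (p⁻¹ * x)⁻¹ = p⁻¹ * (x * r * x⁻¹) * p := by group
      _ = p⁻¹ * (v * s) * p := by rw [e, h2]
      _ = p⁻¹ * (p * s * p⁻¹ * s⁻¹ * s) * p := by rw [hpx']
      _ = s := by group
  rw [this]
  exact h.R_le hs

end Cfsg.Agent.StdAlt.Five.PData
end

-- part: StdAlt/Five/Moves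
section
set_option linter.all false
open scoped Cfsg.Agent.FastGrp

/-!
# Changing the coordinates
-/

set_option autoImplicit false

namespace Cfsg.Agent.StdAlt.Five.Moves

open Subgroup Cfsg.Agent.StdAlt.Conj Cfsg.Agent.J2Sylow.Model Cfsg.Agent.StdAlt.Five
open Cfsg.Agent.StdAlt.Five.Sec4 Cfsg.Agent.StdAlt.Five.Coord

variable {G : Type*} [Group G] {R V P : Subgroup G} {ρ : G} {ε : F4} {X Y Z : F4 → G}

section

variable (D : Data R V P ρ) (F : Frame R V P ρ ε X Y Z)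
include D F

theorem ZX (c a : F4) : Z c * X a = X a * Z c :=
  (D.cent _ (D.R_le (F.X_mem a)) _ (F.Z_mem c)).symm

theorem ZY (c b : F4) : Z c * Y b = Y b * Z c :=
  (D.cent _ (F.Y_mem b) _ (F.Z_mem c)).symm

theorem ZP (c : F4) {p : G} (hp : p ∈ P) : Z c * p = p * Z c :=
  (D.cent _ hp _ (F.Z_mem c)).symm

omit D in
theorem ZZ (c c' : F4) : Z c * Z c' = Z c' * Z c := by
  rw [← F.Z_add, ← F.Z_add, add_comm]

/-- `Y b ↦ Y b * Z (k b)` -/
theorem shift (k : F4) : Frame R V P ρ ε X (fun b => Y b * Z (k * b)) Z where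
  X_mem := F.X_mem
  Y_mem := fun b => P.mul_mem (F.Y_mem b) (D.B_le (F.Z_mem _))
  Z_mem := F.Z_mem
  X_add := F.X_add
  Z_add := F.Z_add
  Y_mul := by
    intro b b'
    have h1 := ZY D F (k * b) b'
    calc Y b * Z (k * b) * (Y b' * Z (k * b')) = Y b * (Z (k * b) * Y b') * Z (k * b') := by group
      _ = (Y b * Y b') * (Z (k * b) * Z (k * b')) := by rw [h1]; group
      _ = Y (b + b') * (Z (ε * F4.fr (b * b')) * Z (k * b + k * b')) := by
          rw [F.Y_mul, ← F.Z_add]; group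
      _ = Y (b + b') * Z (k * (b + b')) * Z (ε * F4.fr (b * b')) := by
          rw [← mul_add, ZZ F]; group
  X_surj := F.X_surj
  Z_surj := F.Z_surj
  P_surj := by
    intro x hx
    obtain ⟨b, a, c, rfl⟩ := F.P_surj x hx
    refine ⟨b, a, c + k * b, ?_⟩
    have h1 := ZX D F (k * b) a
    have h2 : Z (k * b) * Z (k * b) = 1 := by
      rw [← F.Z_add, F4.add_self]; exact F.Z_zero
    calc Y b * X a * Z c = Y b * X a * (Z (k * b) * Z (k * b)) * Z c := by rw [h2, mul_one]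
      _ = Y b * (X a * Z (k * b)) * (Z (k * b) * Z c) := by group
      _ = Y b * Z (k * b) * X a * (Z c * Z (k * b)) := by rw [← h1, ZZ F (k * b) c]; group
      _ = _ := by rw [← F.Z_add]
  inj := by
    intro a b c a' b' c' e
    have key : ∀ a b c, Y b * Z (k * b) * X a * Z c = Y b * X a * Z (k * b + c) := by
      intro a b c
      have h1 := ZX D F (k * b) a
      calc Y b * Z (k * b) * X a * Z c = Y b * (Z (k * b) * X a) * Z c := by group
        _ = Y b * X a * (Z (k * b) * Z c) := by rw [h1]; group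
        _ = _ := by rw [F.Z_add]
    rw [key, key] at e
    obtain ⟨h1, h2, h3⟩ := F.inj _ _ _ _ _ _ e
    subst h1
    exact ⟨rfl, h2, add_left_cancel h3⟩
  X_Y := by
    intro a b
    have h1 := ZX D F (k * b) a
    calc X a * (Y b * Z (k * b)) = (X a * Y b) * Z (k * b) := by group
      _ = Y b * X a * (Z (a * b) * Z (k * b)) := by rw [F.X_Y]; group
      _ = Y b * (X a * Z (k * b)) * Z (a * b) := by rw [ZZ F]; group
      _ = _ := by rw [← h1]; group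
  ρX := F.ρX
  ρY := by
    intro b
    rw [show ρ * (Y b * Z (k * b)) * ρ⁻¹ = (ρ * Y b * ρ⁻¹) * (ρ * Z (k * b) * ρ⁻¹) by group, F.ρY, F.ρZ]
    congr 2
    ring
  ρZ := F.ρZ

omit D in
/-- `Y b ↦ Y (β b)`, `Z c ↦ Z (β c)` -/
theorem scale {β β' : F4} (hβ : β * β' = 1) :
    Frame R V P ρ ε X (fun b => Y (β * b)) (fun c => Z (β * c)) where
  X_mem := F.X_mem
  Y_mem := fun b => F.Y_mem _
  Z_mem := fun b => F.Z_mem _
  X_add := F.X_add
  Z_add := fun c c' => by rw [mul_add, F.Z_add]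
  Y_mul := by
    intro b b'
    rw [F.Y_mul, mul_add]
    congr 2
    have : ∀ β β' ε b b' : F4, β * β' = 1 → ε * F4.fr (β * b * (β * b')) = β * (ε * F4.fr (b * b')) := by
      decide
    exact this β β' ε b b' hβ
  X_surj := F.X_surj
  Z_surj := by
    intro z hz
    obtain ⟨c, rfl⟩ := F.Z_surj z hz
    exact ⟨β' * c, by rw [← mul_assoc, hβ, one_mul]⟩
  P_surj := by
    intro x hx
    obtain ⟨b, a, c, rfl⟩ := F.P_surj x hx
    exact ⟨β' * b, a, β' * c, by rw [← mul_assoc, ← mul_assoc, hβ, one_mul, one_mul]⟩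
  inj := by
    intro a b c a' b' c' e
    obtain ⟨h1, h2, h3⟩ := F.inj _ _ _ _ _ _ e
    have hc : ∀ x y : F4, β * x = β * y → x = y := by
      intro x y hxy
      have := congrArg (β' * ·) hxy
      simp only [← mul_assoc, mul_comm β' β, hβ, one_mul] at this
      exact this
    exact ⟨hc _ _ h1, h2, hc _ _ h3⟩
  X_Y := by
    intro a b
    rw [F.X_Y]
    congr 2
    ring
  ρX := F.ρX
  ρY := by
    intro b
    rw [F.ρY]
    congr 1
    ring
  ρZ := by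
    intro b
    rw [F.ρZ]
    congr 1
    ring

end

/-- `X a ↦ X (α a)`, `Y b ↦ Y (α⁻¹ b)` (only for `ε = 0`) -/
theorem scaleX (F : Frame R V P ρ 0 X Y Z) {α α' : F4} (hα : α * α' = 1) :
    Frame R V P ρ 0 (fun a => X (α * a)) (fun b => Y (α' * b)) Z where
  X_mem := fun a => F.X_mem _
  Y_mem := fun b => F.Y_mem _
  Z_mem := F.Z_mem
  X_add := fun c c' => by rw [mul_add, F.X_add]
  Z_add := F.Z_add
  Y_mul := by
    intro b b'
    rw [F.Y_mul, mul_add, zero_mul, zero_mul]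
  X_surj := by
    intro z hz
    obtain ⟨c, rfl⟩ := F.X_surj z hz
    exact ⟨α' * c, by rw [← mul_assoc, hα, one_mul]⟩
  Z_surj := F.Z_surj
  P_surj := by
    intro x hx
    obtain ⟨b, a, c, rfl⟩ := F.P_surj x hx
    exact ⟨α * b, α' * a, c, by rw [← mul_assoc, ← mul_assoc, mul_comm α' α, hα, one_mul, one_mul]⟩
  inj := by
    intro a b c a' b' c' e
    obtain ⟨h1, h2, h3⟩ := F.inj _ _ _ _ _ _ e
    have hc : ∀ x y : F4, α * x = α * y → x = y := by
      intro x y hxy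
      have := congrArg (α' * ·) hxy
      simp only [← mul_assoc, mul_comm α' α, hα, one_mul] at this
      exact this
    have hc' : ∀ x y : F4, α' * x = α' * y → x = y := by
      intro x y hxy
      have := congrArg (α * ·) hxy
      simp only [← mul_assoc, hα, one_mul] at this
      exact this
    exact ⟨hc' _ _ h1, hc _ _ h2, h3⟩
  X_Y := by
    intro a b
    rw [F.X_Y]
    congr 2
    calc α * a * (α' * b) = (α * α') * (a * b) := by ring
      _ = a * b := by rw [hα, one_mul]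
  ρX := fun a => F.ρX _
  ρY := by
    intro b
    rw [F.ρY]
    congr 1
    ring
  ρZ := F.ρZ

section

variable (D : Data R V P ρ) (F : Frame R V P ρ ε X Y Z)
include D F

/-- commutator with `Y e` reads off the `X`-coordinate -/
theorem YY_comm (b b' : F4) : Y b * Y b' = Y b' * Y b := by
  rw [F.Y_mul, F.Y_mul, add_comm, mul_comm b b']

theorem comm_Y (b a c : F4) : (Y b * X a * Z c) * Y .e = Z a * (Y .e * (Y b * X a * Z c)) := by
  have h1 := ZY D F c .e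
  have h2 := F.X_Y a .e
  have h3 : a * F4.e = a := mul_one a
  rw [h3] at h2
  have h4 := YY_comm D F b .e
  have h5 := ZP D F a (P.mul_mem (P.mul_mem (F.Y_mem b) (D.R_le (F.X_mem a))) (D.B_le (F.Z_mem c)))
  have h6 := ZY D F a .e
  calc (Y b * X a * Z c) * Y .e = Y b * X a * (Z c * Y .e) := by group
    _ = Y b * (X a * Y .e) * Z c := by rw [h1]; group
    _ = (Y b * Y .e) * X a * (Z a * Z c) := by rw [h2]; group
    _ = Y .e * (Y b * X a * Z c) * Z a := by rw [h4, ZZ F]; group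
    _ = Z a * (Y .e * (Y b * X a * Z c)) := by rw [mul_assoc, ← h5, ← mul_assoc, ← h6, mul_assoc]

/-- the `X`-coordinate of a product of elements of `P` -/
theorem Xcoord_mul {p q : G} {b a c b' a' c' b'' a'' c'' : F4} (hp : p = Y b * X a * Z c)
    (hq : q = Y b' * X a' * Z c') (hpq : p * q = Y b'' * X a'' * Z c'') : a'' = a + a' := by
  apply F.Z_inj
  have h1 := comm_Y D F b a c
  have h2 := comm_Y D F b' a' c'
  have h3 := comm_Y D F b'' a'' c''
  rw [← hp] at h1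
  rw [← hq] at h2
  rw [← hpq] at h3
  have hpP : p ∈ P := by
    rw [hp]; exact P.mul_mem (P.mul_mem (F.Y_mem b) (D.R_le (F.X_mem a))) (D.B_le (F.Z_mem c))
  have h4 := ZP D F a' hpP
  have h5 : p * q * Y .e = Z (a + a') * (Y .e * (p * q)) := by
    calc p * q * Y .e = p * (q * Y .e) := by group
      _ = (p * Z a') * (Y .e * q) := by rw [h2]; group
      _ = Z a' * (p * Y .e) * q := by rw [← h4]; group
      _ = (Z a' * Z a) * (Y .e * (p * q)) := by rw [h1]; group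
      _ = _ := by rw [← F.Z_add, add_comm]
  rw [h5] at h3
  exact (mul_right_cancel h3).symm

/-- `y ρ(y) ρ²(y) = 1` implies that `y ∈ E2` -/
theorem mem_E2 {y : G} (hy : y ∈ P) (h3 : y * (ρ * y * ρ⁻¹) * (ρ * (ρ * y * ρ⁻¹) * ρ⁻¹) = 1) :
    ∃ b c, y = Y b * Z c := by
  obtain ⟨b, a, c, e⟩ := F.P_surj y hy
  have e1 : ρ * y * ρ⁻¹ = Y (F4.w * b) * X a * Z (F4.w * c) := by
    rw [e, show ρ * (Y b * X a * Z c) * ρ⁻¹ = (ρ * Y b * ρ⁻¹) * (ρ * X a * ρ⁻¹) * (ρ * Z c * ρ⁻¹) by group,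
      F.ρY, F.ρX, F.ρZ]
  have e2 : ρ * (ρ * y * ρ⁻¹) * ρ⁻¹ = Y (F4.w * (F4.w * b)) * X a * Z (F4.w * (F4.w * c)) := by
    rw [e1, show ρ * (Y (F4.w * b) * X a * Z (F4.w * c)) * ρ⁻¹ = (ρ * Y (F4.w * b) * ρ⁻¹) *
      (ρ * X a * ρ⁻¹) * (ρ * Z (F4.w * c) * ρ⁻¹) by group,
      F.ρY, F.ρX, F.ρZ]
  obtain ⟨b', a', c', e3⟩ := F.P_surj _ (P.mul_mem hy (D.ρP y hy))
  have h1 := Xcoord_mul D F e e1 e3
  have e4 : y * (ρ * y * ρ⁻¹) * (ρ * (ρ * y * ρ⁻¹) * ρ⁻¹) = Y 0 * X 0 * Z 0 := by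
    rw [h3, F.X_zero, F.Y_zero, F.Z_zero, one_mul, one_mul]
  have h2 := Xcoord_mul D F e3 e2 e4
  have ha : a = 0 := by
    rw [h1, F4.add_self, zero_add] at h2
    exact h2.symm
  refine ⟨b, c, ?_⟩
  rw [e, ha, F.X_zero, mul_one]

theorem E2_mul (b c b' c' : F4) : (Y b * Z c) * (Y b' * Z c') =
    Y (b + b') * Z (c + c' + ε * F4.fr (b * b')) := by
  have h := F.Y_mul b b'
  have h2 := ZY D F c b'
  calc (Y b * Z c) * (Y b' * Z c') = Y b * (Z c * Y b') * Z c' := by group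
    _ = Y b * Y b' * (Z c * Z c') := by rw [h2]; group
    _ = Y (b + b') * (Z (ε * F4.fr (b * b')) * (Z c * Z c')) := by rw [h]; group
    _ = _ := by
      rw [← F.Z_add, ← F.Z_add]
      congr 2
      ring

omit D in
theorem ρE2 (b c : F4) : ρ * (Y b * Z c) * ρ⁻¹ = Y (F4.w * b) * Z (F4.w * c) := by
  rw [show ρ * (Y b * Z c) * ρ⁻¹ = (ρ * Y b * ρ⁻¹) * (ρ * Z c * ρ⁻¹) by group, F.ρY, F.ρZ]

theorem E2_norm (b c : F4) : (Y b * Z c) * (ρ * (Y b * Z c) * ρ⁻¹) *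
    (ρ * (ρ * (Y b * Z c) * ρ⁻¹) * ρ⁻¹) = 1 := by
  rw [ρE2 F, ρE2 F, E2_mul D F, E2_mul D F]
  have h1 : ∀ b c ε : F4, b + F4.w * b + F4.w * (F4.w * b) = 0 ∧
      c + F4.w * c + ε * F4.fr (b * (F4.w * b)) + F4.w * (F4.w * c) +
        ε * F4.fr ((b + F4.w * b) * (F4.w * (F4.w * b))) = 0 := by decide
  obtain ⟨e1, e2⟩ := h1 b c ε
  rw [e1, e2, F.Y_zero, F.Z_zero, one_mul]

theorem E2_inj {b c b' c' : F4} (e : Y b * Z c = Y b' * Z c') : b = b' ∧ c = c' := by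
  have := F.inj 0 b c 0 b' c' (by rw [F.X_zero, mul_one, mul_one]; exact e)
  exact ⟨this.1, this.2.2⟩

end

/-! ### conjugation by an element inverting or centralizing `ρ` -/

/-- `x` normalizes `P`, `R`, `V` -/
structure Nrm (R V P : Subgroup G) (x : G) : Prop where
  P : ∀ p ∈ P, x * p * x⁻¹ ∈ P
  R : ∀ p ∈ R, x * p * x⁻¹ ∈ R
  V : ∀ p ∈ V, x * p * x⁻¹ ∈ V

theorem conj_mul' (x a b : G) : x * (a * b) * x⁻¹ = (x * a * x⁻¹) * (x * b * x⁻¹) := by group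

section

variable (D : Data R V P ρ) (F : Frame R V P ρ ε X Y Z) {x : G} (hx : Nrm R V P x)

include D F in
/-- conjugating the basic relation -/
theorem conj_rel {a b a' b' n c' : F4} (hX : x * X a * x⁻¹ = X a') (hY : x * Y b * x⁻¹ = Y b' * Z n)
    (hZ : x * Z (a * b) * x⁻¹ = Z c') : c' = a' * b' := by
  apply F.Z_inj
  have h1 : x * (X a * Y b) * x⁻¹ = x * (Y b * X a * Z (a * b)) * x⁻¹ := by rw [F.X_Y]
  rw [conj_mul', conj_mul', conj_mul', hX, hY, hZ, ← mul_assoc, F.X_Y a' b'] at h1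
  have h2 := ZX D F n a'
  have h3 : Y b' * X a' * (Z (a' * b') * Z n) = Y b' * X a' * (Z c' * Z n) := by
    calc Y b' * X a' * (Z (a' * b') * Z n) = Y b' * X a' * Z (a' * b') * Z n := by group
      _ = Y b' * Z n * X a' * Z c' := h1
      _ = Y b' * (Z n * X a') * Z c' := by group
      _ = Y b' * X a' * (Z n * Z c') := by rw [h2]; group
      _ = _ := by rw [ZZ F]
  exact (mul_right_cancel (mul_left_cancel h3)).symm

include D F hx

/-- the action of an element centralizing `ρ` -/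
theorem act_lin (hρ : x * ρ * x⁻¹ = ρ) : ∃ f l n h : F4, f ≠ 0 ∧ l ≠ 0 ∧ h = f * l ∧
    (∀ a, x * X a * x⁻¹ = X (f * a)) ∧ (∀ b, x * Y b * x⁻¹ = Y (l * b) * Z (n * b)) ∧
    ∀ c, x * Z c * x⁻¹ = Z (h * c) := by
  have hρ' : ∀ y, x * (ρ * y * ρ⁻¹) * x⁻¹ = ρ * (x * y * x⁻¹) * ρ⁻¹ := by
    intro y
    calc x * (ρ * y * ρ⁻¹) * x⁻¹ = (x * ρ * x⁻¹) * (x * y * x⁻¹) * (x * ρ * x⁻¹)⁻¹ := by group
      _ = _ := by rw [hρ]
  -- `Y e`
  have h3 : (x * Y .e * x⁻¹) * (ρ * (x * Y .e * x⁻¹) * ρ⁻¹) *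
      (ρ * (ρ * (x * Y .e * x⁻¹) * ρ⁻¹) * ρ⁻¹) = 1 := by
    have h0 := E2_norm D F .e 0
    rw [F.Z_zero, mul_one] at h0
    rw [← hρ', ← hρ', ← conj_mul', ← conj_mul', h0]
    group
  obtain ⟨l, n, hl⟩ := mem_E2 D F (hx.P _ (F.Y_mem .e)) h3
  obtain ⟨h, hh⟩ := F.Z_surj _ (hx.V _ (F.Z_mem .e))
  have hY : ∀ b, x * Y b * x⁻¹ = Y (l * b) * Z (n * b) := by
    have h1 : x * Y (F4.w * .e) * x⁻¹ = Y (F4.w * l) * Z (F4.w * n) := by
      rw [← F.ρY, hρ', hl, ρE2 F]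
    have h2 : x * Y (F4.w * (F4.w * .e)) * x⁻¹ = Y (F4.w * (F4.w * l)) * Z (F4.w * (F4.w * n)) := by
      rw [← F.ρY, hρ', h1, ρE2 F]
    intro b
    cases b
    · change x * Y 0 * x⁻¹ = Y (l * 0) * Z (n * 0)
      rw [mul_zero, mul_zero, F.Y_zero, F.Z_zero]; group
    · change x * Y .e * x⁻¹ = Y (l * 1) * Z (n * 1)
      rw [mul_one, mul_one, hl]
    · change x * Y (F4.w * .e) * x⁻¹ = _
      rw [h1, mul_comm F4.w l, mul_comm F4.w n]
    · change x * Y (F4.w * (F4.w * .e)) * x⁻¹ = _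
      rw [h2, ← mul_assoc, ← mul_assoc, mul_comm _ l, mul_comm _ n]
      rfl
  have hZ : ∀ b, x * Z b * x⁻¹ = Z (h * b) := by
    have h1 : x * Z (F4.w * .e) * x⁻¹ = Z (F4.w * h) := by
      rw [← F.ρZ, hρ', ← hh, F.ρZ]
    have h2 : x * Z (F4.w * (F4.w * .e)) * x⁻¹ = Z (F4.w * (F4.w * h)) := by
      rw [← F.ρZ, hρ', h1, F.ρZ]
    intro b
    cases b
    · change x * Z 0 * x⁻¹ = Z (h * 0)
      rw [mul_zero, F.Z_zero]; group
    · change x * Z .e * x⁻¹ = Z (h * 1)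
      rw [mul_one, hh]
    · change x * Z (F4.w * .e) * x⁻¹ = _
      rw [h1, mul_comm F4.w h]
    · change x * Z (F4.w * (F4.w * .e)) * x⁻¹ = _
      rw [h2, ← mul_assoc, mul_comm _ h]
      rfl
  have hh0 : h ≠ 0 := by
    intro e
    have h1 := hZ .e
    rw [e, zero_mul] at h1
    have h2 : Z .e = Z 0 := by
      rw [F.Z_zero] at h1 ⊢
      calc Z .e = x⁻¹ * (x * Z .e * x⁻¹) * x := by group
        _ = 1 := by rw [h1]; group
    exact absurd (F.Z_inj h2) (by decide)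
  have hX' : ∀ a, ∃ a', x * X a * x⁻¹ = X a' := by
    intro a
    obtain ⟨a', ha'⟩ := F.X_surj _ (hx.R _ (F.X_mem a))
    exact ⟨a', ha'.symm⟩
  have hrel : ∀ a a', x * X a * x⁻¹ = X a' → a' * l = h * a := by
    intro a a' e
    have h1 := conj_rel D F e (hY .e) (hZ _)
    have h2 : ∀ y : F4, y * F4.e = y := fun y => mul_one y
    rw [h2, h2] at h1
    exact h1.symm
  obtain ⟨f, hf⟩ := hX' .e
  have hf1 := hrel _ _ hf
  have h2 : ∀ y : F4, y * F4.e = y := fun y => mul_one y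
  rw [h2] at hf1
  have hf0 : f ≠ 0 := by
    intro e
    rw [e, zero_mul] at hf1
    exact hh0 hf1.symm
  have hl0 : l ≠ 0 := by
    intro e
    rw [e, mul_zero] at hf1
    exact hh0 hf1.symm
  refine ⟨f, l, n, h, hf0, hl0, hf1.symm, fun a => ?_, hY, hZ⟩
  obtain ⟨a', ha'⟩ := hX' a
  have h3 := hrel _ _ ha'
  rw [ha']
  congr 1
  rw [← hf1] at h3
  have : ∀ l f a a' : F4, l ≠ 0 → a' * l = f * l * a → a' = f * a := by decide
  exact this l f a a' hl0 h3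

omit hx in
theorem ρinvY (b : F4) : ρ⁻¹ * Y b * ρ = Y (F4.u * b) := by
  have h1 := F.ρY (F4.u * b)
  rw [← mul_assoc] at h1
  have h2 : F4.w * F4.u * b = b := one_mul b
  rw [h2] at h1
  rw [← h1]; group

omit hx in
theorem ρinvZ (b : F4) : ρ⁻¹ * Z b * ρ = Z (F4.u * b) := by
  have h1 := F.ρZ (F4.u * b)
  rw [← mul_assoc] at h1
  have h2 : F4.w * F4.u * b = b := one_mul b
  rw [h2] at h1
  rw [← h1]; group

/-- the action of an element inverting `ρ` -/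
theorem act_semi (hρ : x * ρ * x⁻¹ = ρ⁻¹) : ∃ f l n h : F4, f ≠ 0 ∧ l ≠ 0 ∧ h = f * l ∧
    (∀ a, x * X a * x⁻¹ = X (f * F4.fr a)) ∧
    (∀ b, x * Y b * x⁻¹ = Y (l * F4.fr b) * Z (n * F4.fr b)) ∧
    ∀ c, x * Z c * x⁻¹ = Z (h * F4.fr c) := by
  have hρ' : ∀ y, x * (ρ * y * ρ⁻¹) * x⁻¹ = ρ⁻¹ * (x * y * x⁻¹) * ρ := by
    intro y
    calc x * (ρ * y * ρ⁻¹) * x⁻¹ = (x * ρ * x⁻¹) * (x * y * x⁻¹) * (x * ρ * x⁻¹)⁻¹ := by group
      _ = _ := by rw [hρ]; group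
  have hinv : ∀ y ∈ P, ρ⁻¹ * y * ρ = ρ * (ρ * y * ρ⁻¹) * ρ⁻¹ := by
    intro y hy
    have := D.ρ3 y hy
    calc ρ⁻¹ * y * ρ = ρ⁻¹ * (ρ * (ρ * (ρ * y * ρ⁻¹) * ρ⁻¹) * ρ⁻¹) * ρ := by rw [this]
      _ = _ := by group
  -- `Y e`
  have hyP := hx.P _ (F.Y_mem .e)
  set y := x * Y .e * x⁻¹ with hyd
  have h3 : y * (ρ * y * ρ⁻¹) * (ρ * (ρ * y * ρ⁻¹) * ρ⁻¹) = 1 := by
    have h0 := E2_norm D F .e 0
    rw [F.Z_zero, mul_one] at h0
    have h1 : Y .e * (ρ * (ρ * Y .e * ρ⁻¹) * ρ⁻¹) * (ρ * Y .e * ρ⁻¹) = 1 := by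
      rw [F.ρY, F.ρY]
      rw [F.ρY, F.ρY] at h0
      rw [← h0, mul_assoc, mul_assoc, YY_comm D F (F4.w * (F4.w * .e))]
    have h2 : y * (ρ⁻¹ * (ρ⁻¹ * y * ρ) * ρ) * (ρ⁻¹ * y * ρ) = 1 := by
      rw [hyd, ← hρ', ← hρ', ← conj_mul', ← conj_mul', h1]
      group
    rw [← hinv y hyP]
    have h4 : ρ⁻¹ * (ρ⁻¹ * y * ρ) * ρ = ρ * y * ρ⁻¹ := by
      rw [hinv y hyP]; group
    rw [h4] at h2
    exact h2
  obtain ⟨l, n, hl⟩ := mem_E2 D F hyP h3
  obtain ⟨h, hh⟩ := F.Z_surj _ (hx.V _ (F.Z_mem .e))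
  have e2 : ∀ y : F4, y * F4.e = y := fun y => mul_one y
  have hY : ∀ b, x * Y b * x⁻¹ = Y (l * F4.fr b) * Z (n * F4.fr b) := by
    have h1 : x * Y (F4.w * .e) * x⁻¹ = Y (F4.u * l) * Z (F4.u * n) := by
      rw [← F.ρY, hρ', ← hyd, hl, show ρ⁻¹ * (Y l * Z n) * ρ = (ρ⁻¹ * Y l * ρ) * (ρ⁻¹ * Z n * ρ) by group,
        ρinvY D F, ρinvZ D F]
    have h2 : x * Y (F4.w * (F4.w * .e)) * x⁻¹ = Y (F4.u * (F4.u * l)) * Z (F4.u * (F4.u * n)) := by
      rw [← F.ρY, hρ', h1, show ρ⁻¹ * (Y (F4.u * l) * Z (F4.u * n)) * ρ =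
        (ρ⁻¹ * Y (F4.u * l) * ρ) * (ρ⁻¹ * Z (F4.u * n) * ρ) by group, ρinvY D F, ρinvZ D F]
    intro b
    cases b
    · change x * Y 0 * x⁻¹ = Y (l * 0) * Z (n * 0)
      rw [mul_zero, mul_zero, F.Y_zero, F.Z_zero]; group
    · change x * Y .e * x⁻¹ = Y (l * 1) * Z (n * 1)
      rw [mul_one, mul_one, ← hl]
    · change x * Y (F4.w * .e) * x⁻¹ = _
      rw [h1, mul_comm F4.u l, mul_comm F4.u n]
      rfl
    · change x * Y (F4.w * (F4.w * .e)) * x⁻¹ = _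
      rw [h2, ← mul_assoc, ← mul_assoc, mul_comm _ l, mul_comm _ n]
      rfl
  have hZ : ∀ b, x * Z b * x⁻¹ = Z (h * F4.fr b) := by
    have h1 : x * Z (F4.w * .e) * x⁻¹ = Z (F4.u * h) := by
      rw [← F.ρZ, hρ', ← hh, ρinvZ D F]
    have h2 : x * Z (F4.w * (F4.w * .e)) * x⁻¹ = Z (F4.u * (F4.u * h)) := by
      rw [← F.ρZ, hρ', h1, ρinvZ D F]
    intro b
    cases b
    · change x * Z 0 * x⁻¹ = Z (h * 0)
      rw [mul_zero, F.Z_zero]; group
    · change x * Z .e * x⁻¹ = Z (h * 1)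
      rw [mul_one, hh]
    · change x * Z (F4.w * .e) * x⁻¹ = _
      rw [h1, mul_comm F4.u h]
      rfl
    · change x * Z (F4.w * (F4.w * .e)) * x⁻¹ = _
      rw [h2, ← mul_assoc, mul_comm _ h]
      rfl
  have hh0 : h ≠ 0 := by
    intro e
    have h1 := hZ .e
    rw [e, zero_mul] at h1
    have h2 : Z .e = Z 0 := by
      rw [F.Z_zero] at h1 ⊢
      calc Z .e = x⁻¹ * (x * Z .e * x⁻¹) * x := by group
        _ = 1 := by rw [h1]; group
    exact absurd (F.Z_inj h2) (by decide)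
  have hX' : ∀ a, ∃ a', x * X a * x⁻¹ = X a' := by
    intro a
    obtain ⟨a', ha'⟩ := F.X_surj _ (hx.R _ (F.X_mem a))
    exact ⟨a', ha'.symm⟩
  have hrel : ∀ a a', x * X a * x⁻¹ = X a' → a' * l = h * F4.fr a := by
    intro a a' e
    have h1 := conj_rel D F e (hY .e) (hZ _)
    rw [e2] at h1
    change h * F4.fr a = a' * (l * 1) at h1
    rw [mul_one] at h1
    exact h1.symm
  obtain ⟨f, hf⟩ := hX' .e
  have hf1 := hrel _ _ hf
  change f * l = h * 1 at hf1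
  rw [mul_one] at hf1
  have hf0 : f ≠ 0 := by
    intro e
    rw [e, zero_mul] at hf1
    exact hh0 hf1.symm
  have hl0 : l ≠ 0 := by
    intro e
    rw [e, mul_zero] at hf1
    exact hh0 hf1.symm
  refine ⟨f, l, n, h, hf0, hl0, hf1.symm, fun a => ?_, hY, hZ⟩
  obtain ⟨a', ha'⟩ := hX' a
  have h3 := hrel _ _ ha'
  rw [ha']
  congr 1
  rw [← hf1] at h3
  have : ∀ l f a a' : F4, l ≠ 0 → a' * l = f * l * a → a' = f * a := by decide
  exact this l f _ a' hl0 h3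

end

end Cfsg.Agent.StdAlt.Five.Moves
end

-- part: StdAlt/Five/Base
section
set_option linter.all false
open scoped Cfsg.Agent.FastGrp

/-!
# S1766, n = 5, case (I): the structure `Base`
-/

set_option autoImplicit false

namespace Cfsg.Agent.StdAlt.Five.Base

open Subgroup Cfsg.Agent.StdAlt.Conj Cfsg.Agent.J2Sylow.Model Cfsg.Agent.StdAlt.Five
open Cfsg.Agent.StdAlt.Five.Sec4 Cfsg.Agent.StdAlt.Five.PGroup Cfsg.Agent.StdAlt.Five.PExists
open Cfsg.Agent.StdAlt.Five.PData Cfsg.Agent.StdAlt.Five.Coord Cfsg.Agent.StdAlt.Five.Moves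

variable {G : Type*} [Group G] {A R V P : Subgroup G} {ρ g : G} {ε : F4} {X Y Z : F4 → G}

theorem mk [Finite G] {h : OddE A R V ρ g} (hP : IsP h P) (hε : ε = 0 ∨ ε = F4.e)
    (F : Frame R V P ρ ε X Y Z) : Sec4.Base A R V P ρ ε X Y Z where
  odd := ⟨g, h⟩
  eps := hε
  data := PData.data hP
  frame := F
  le := fun _ hx => P_N hP hx
  norm := fun _ hx _ hp => PData.norm hP hx hp
  normV := fun _ hx _ hv => PGroup.normV h hx hv
  fact := by
    intro x hx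
    obtain ⟨p, hp, m, hm, hmE, e⟩ := PData.fact hP hx
    exact ⟨p, hp, m, hm, mem_N_of fun r hr => PGroup.normR h hmE hm hr,
      mem_N_of fun v hv => PGroup.normV h hmE hv, e⟩
  kt := by
    intro a c
    constructor
    · rintro hk rfl
      rw [F.X_zero, one_mul] at hk
      exact not_KT h (F.Z_mem c) hk
    · intro ha
      refine KT_E h (F.X_mem a) ?_ (F.Z_mem c)
      intro e
      apply ha
      apply F.X_inj
      rw [e, F.X_zero]

/-- the coordinates exist -/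
theorem exists_base [Finite G] {h : OddE A R V ρ g} (hP : IsP h P) :
    ∃ ε X Y Z, Sec4.Base A R V P ρ ε X Y Z := by
  obtain ⟨ε, X, Y, Z, hε, F⟩ := (PData.data hP).exists_frame
  exact ⟨ε, X, Y, Z, mk hP hε F⟩

theorem exists_isP [Finite G] (h : OddE A R V ρ g) : ∃ P, IsP h P := by
  obtain ⟨P, h1, h2, h3⟩ := PExists.exists_P h
  exact ⟨P, h1, h2, h3⟩

/-- elements of `N(E)` normalize `V`, `P`; those of `N(E) ∩ N(A)` also `R` -/
theorem nrm [Finite G] {h : OddE A R V ρ g} (hP : IsP h P) {x : G} (hx : x ∈ N (R ⊔ V))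
    (hxA : x ∈ N A) : Nrm R V P x where
  P := fun _ hp => PData.norm hP hx hp
  R := fun _ hr => PGroup.normR h hx hxA hr
  V := fun _ hv => PGroup.normV h hx hv

/-- elements normalizing `R` and `V` normalize `E` -/
theorem mem_NE [Finite G] (h : OddE A R V ρ g) {x : G} (hR : ∀ r ∈ R, x * r * x⁻¹ ∈ R)
    (hV : ∀ v ∈ V, x * v * x⁻¹ ∈ V) : x ∈ N (R ⊔ V) := by
  refine mem_N_of fun y hy => ?_
  obtain ⟨r, hr, v, hv, rfl⟩ := (mem_E h).1 hy
  rw [conj_mul']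
  exact mul_mem (mem_sup_left (hR r hr)) (mem_sup_right (hV v hv))

/-- `C A` centralizes `V` -/
theorem CA_V (h : OddE A R V ρ g) {x : G} (hx : x ∈ C A) {v : G} (hv : v ∈ V) : x * v * x⁻¹ = v := by
  rw [comm_of_C hx (h.V_le hv)]; group

/-! ### `κ` -/

/-- case `κ ≠ 1`: there is an element of odd order inducing an automorphism of order 3 on `R` -/
theorem kap [Finite G] {h : OddE A R V ρ g} (hP : IsP h P) (hε : ε = 0 ∨ ε = F4.e)
    (F : Frame R V P ρ ε X Y Z) (hk : ¬ Kap1 A R) :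
    ε = 0 ∧ ∃ k ρ₀, Odd (orderOf ρ₀) ∧ Kap3 A X (fun b => Y b * Z (k * b)) ρ₀ := by
  have D := PData.data hP
  unfold Kap1 at hk
  push_neg at hk
  obtain ⟨x, hxA, hxR, r, hr, hne⟩ := hk
  obtain ⟨a, b, ha, hb, hab, ha2, hbo⟩ := exists_two_odd x
  have hzA : zpowers x ≤ C A := by rw [zpowers_le]; exact hxA
  have hzR : zpowers x ≤ N R := by rw [zpowers_le]; exact hxR
  have haR : a ∈ R := mem_R_of_two h (hzA ha) (fun r hr => conj_mem (hzR ha) hr) ha2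
  have hbne : b * r ≠ r * b := by
    intro e
    apply hne
    rw [hab, mul_assoc, e, ← mul_assoc, commR h haR hr, mul_assoc]
  have hbA := hzA hb
  have hbR : ∀ r ∈ R, b * r * b⁻¹ ∈ R := fun r hr => conj_mem (hzR hb) hr
  have hbE : b ∈ N (R ⊔ V) := mem_NE h hbR (fun v hv => by rw [CA_V h hbA hv]; exact hv)
  have hbN : Nrm R V P b := nrm hP hbE (C_le_N hbA)
  have hbρ : b * ρ * b⁻¹ = ρ := by rw [comm_of_C hbA h.ρ_mem]; group
  obtain ⟨f, l, n, hh, hf0, hl0, hfl, hX, hY, hZ⟩ := act_lin D F hbN hbρ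
  have hh1 : hh = F4.e := by
    have h1 := hZ F4.e
    rw [CA_V h hbA (F.Z_mem _)] at h1
    have h2 := F.Z_inj h1
    rw [h2]
    exact (mul_one hh).symm
  rw [hh1] at hfl
  have hl1 : l ≠ F4.e := by
    intro e
    apply hbne
    obtain ⟨a', rfl⟩ := F.X_surj r hr
    have h1 := hX a'
    rw [e] at hfl
    have h2 : f = F4.e := by
      rw [show f * F4.e = f from mul_one f] at hfl
      exact hfl.symm
    rw [h2, show F4.e * a' = a' from one_mul a'] at h1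
    calc b * X a' = (b * X a' * b⁻¹) * b := by group
      _ = X a' * b := by rw [h1]
  -- squares
  have hεz : ε = 0 := by
    rcases hε with e | e
    · exact e
    exfalso
    subst e
    have h1 : (Y F4.e) * (Y F4.e) = Z F4.e := by
      rw [F.Y_mul]
      change Y 0 * Z F4.e = _
      rw [F.Y_zero, one_mul]
    have h2 : b * (Y F4.e * Y F4.e) * b⁻¹ = Z F4.e := by
      rw [h1, CA_V h hbA (F.Z_mem _)]
    rw [conj_mul', hY, E2_mul D F] at h2
    have h3 : Y (l * F4.e + l * F4.e) * Z (n * F4.e + n * F4.e + F4.e * F4.fr (l * F4.e * (l * F4.e))) =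
      Y 0 * Z F4.e := by rw [h2, F.Y_zero, one_mul]
    have h4 := (E2_inj D F h3).2
    have : ∀ l n : F4, l ≠ 0 → l ≠ F4.e → n * F4.e + n * F4.e + F4.e * F4.fr (l * F4.e * (l * F4.e)) ≠ F4.e := by
      decide
    exact this l n hl0 hl1 h4
  refine ⟨hεz, ?_⟩
  subst hεz
  -- the element with `l = u`
  obtain ⟨ρ₀, hρo, hρA, n', hX', hY'⟩ : ∃ ρ₀, Odd (orderOf ρ₀) ∧ ρ₀ ∈ C A ∧ ∃ n',
      (∀ a, ρ₀ * X a * ρ₀⁻¹ = X (F4.w * a)) ∧ ∀ b, ρ₀ * Y b * ρ₀⁻¹ = Y (F4.u * b) * Z (n' * b) := by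
    have hcases : (l = F4.u ∧ f = F4.w) ∨ (l = F4.w ∧ f = F4.u) := by
      have : ∀ l f : F4, l ≠ 0 → l ≠ F4.e → F4.e = f * l → (l = F4.u ∧ f = F4.w) ∨ (l = F4.w ∧ f = F4.u) := by
        decide
      exact this l f hl0 hl1 hfl
    rcases hcases with ⟨rfl, rfl⟩ | ⟨rfl, rfl⟩
    · exact ⟨b, hbo, hbA, n, hX, hY⟩
    · refine ⟨b * b, ?_, mul_mem hbA hbA, n * F4.w + n, fun a => ?_, fun c => ?_⟩
      · have : orderOf (b * b) ∣ orderOf b := by
          rw [← pow_two]; exact orderOf_pow_dvd 2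
        exact hbo.of_dvd_nat this
      · rw [show b * b * X a * (b * b)⁻¹ = b * (b * X a * b⁻¹) * b⁻¹ by group, hX, hX, ← mul_assoc]
        rfl
      · rw [show b * b * Y c * (b * b)⁻¹ = b * (b * Y c * b⁻¹) * b⁻¹ by group, hY, conj_mul', hY, hZ,
          ← mul_assoc, hh1, mul_assoc (Y _), ← F.Z_add]
        congr 2
        rw [show F4.e * (n * c) = n * c from one_mul _, add_mul, mul_assoc]
  refine ⟨F4.u * n', ρ₀, hρo, hρA, hX', fun b => ?_⟩
  rw [conj_mul', hY', CA_V h hρA (F.Z_mem _), mul_assoc, ← F.Z_add]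
  congr 2
  have : ∀ n b : F4, n * b + F4.u * n * b = F4.u * n * (F4.u * b) := by decide
  exact this n' b

end Cfsg.Agent.StdAlt.Five.Base
end

-- part: StdAlt/Five/Mu
section
set_option linter.all false
open scoped Cfsg.Agent.FastGrp

/-!
# S1766, n = 5, case (I): elements of `N A` outside `A * C A`
-/

set_option autoImplicit false

namespace Cfsg.Agent.StdAlt.Five.Mu

open Subgroup Cfsg.Agent.StdAlt.Conj Cfsg.Agent.J2Sylow.Model Cfsg.Agent.StdAlt.Five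
open Cfsg.Agent.StdAlt.Five.Sec4 Cfsg.Agent.StdAlt.Five.PGroup Cfsg.Agent.StdAlt.Five.PExists
open Cfsg.Agent.StdAlt.Five.PData Cfsg.Agent.StdAlt.Five.Coord Cfsg.Agent.StdAlt.Five.Moves

variable {G : Type*} [Group G] {A R V P : Subgroup G} {ρ g : G} {ε : F4} {X Y Z : F4 → G}

/-- `A * C A` -/
def AC (A : Subgroup G) : Subgroup G where
  carrier := {x | ∃ a ∈ A, ∃ k ∈ C A, x = a * k}
  mul_mem' := by
    rintro _ _ ⟨a, ha, k, hk, rfl⟩ ⟨b, hb, l, hl, rfl⟩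
    refine ⟨a * b, mul_mem ha hb, k * l, mul_mem hk hl, ?_⟩
    calc a * k * (b * l) = a * (k * b) * l := by group
      _ = a * b * (k * l) := by rw [comm_of_C hk hb]; group
  one_mem' := ⟨1, one_mem _, 1, one_mem _, by rw [one_mul]⟩
  inv_mem' := by
    rintro _ ⟨a, ha, k, hk, rfl⟩
    refine ⟨a⁻¹, inv_mem ha, k⁻¹, inv_mem hk, ?_⟩
    rw [mul_inv_rev, comm_of_C (inv_mem hk) (inv_mem ha)]

theorem A_le_AC {x : G} (hx : x ∈ A) : x ∈ AC A := ⟨x, hx, 1, one_mem _, by rw [mul_one]⟩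

theorem C_le_AC {x : G} (hx : x ∈ C A) : x ∈ AC A := ⟨1, one_mem _, x, hx, by rw [one_mul]⟩

theorem not_mu1 (h : ¬ Mu1 A) : ∃ s ∈ N A, s ∉ AC A := by
  unfold Mu1 at h
  push_neg at h
  obtain ⟨s, hs, h⟩ := h
  exact ⟨s, hs, fun ⟨a, ha, k, hk, e⟩ => h a ha k hk e⟩

theorem mu1_iff : Mu1 A ↔ ∀ s ∈ N A, s ∈ AC A := Iff.rfl

/-! ### the action on `V` -/

section
variable (F : Frame R V P ρ ε X Y Z)
include F

/-- an element normalizing `V` acts as `c ↦ h c` or `c ↦ h c̄` -/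
theorem act_V {x : G} (hx : ∀ v ∈ V, x * v * x⁻¹ ∈ V) : ∃ h : F4, h ≠ 0 ∧
    ((∀ c, x * Z c * x⁻¹ = Z (h * c)) ∨ (∀ c, x * Z c * x⁻¹ = Z (h * F4.fr c))) := by
  have hθ : ∀ c, ∃ d, x * Z c * x⁻¹ = Z d := by
    intro c
    obtain ⟨d, hd⟩ := F.Z_surj _ (hx _ (F.Z_mem c))
    exact ⟨d, hd.symm⟩
  choose θ hθ using hθ
  have hadd : ∀ c c', θ (c + c') = θ c + θ c' := by
    intro c c'
    apply F.Z_inj
    rw [← hθ, F.Z_add, F.Z_add, conj_mul', hθ, hθ]
  have h0 : θ 0 = 0 := by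
    apply F.Z_inj
    rw [← hθ, F.Z_zero]; group
  have hinj : ∀ c, c ≠ 0 → θ c ≠ 0 := by
    intro c hc e
    apply hc
    apply F.Z_inj
    rw [F.Z_zero]
    have h1 := hθ c
    rw [e, F.Z_zero] at h1
    calc Z c = x⁻¹ * (x * Z c * x⁻¹) * x := by group
      _ = 1 := by rw [h1]; group
  have hp := hinj F4.e (by decide)
  have hq := hinj F4.w (by decide)
  have hr := hinj F4.u (by decide)
  have hu : θ F4.u = θ F4.e + θ F4.w := by
    rw [← hadd]; rfl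
  rw [hu] at hr
  have key : ∀ p q : F4, p ≠ 0 → q ≠ 0 → p + q ≠ 0 →
      ((q = p * F4.w ∧ p + q = p * F4.u) ∨ (q = p * F4.fr F4.w ∧ p + q = p * F4.fr F4.u)) := by decide
  refine ⟨θ F4.e, hp, ?_⟩
  rcases key _ _ hp hq hr with ⟨e1, e2⟩ | ⟨e1, e2⟩
  · left
    intro c
    rw [hθ]
    congr 1
    cases c
    · change θ 0 = _ * 0
      rw [h0, mul_zero]
    · exact (mul_one _).symm
    · exact e1
    · rw [hu]; exact e2
  · right
    intro c
    rw [hθ]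
    congr 1
    cases c
    · change θ 0 = _ * 0
      rw [h0, mul_zero]
    · exact (mul_one _).symm
    · exact e1
    · rw [hu]; exact e2

omit F in
theorem pow_lin {x : G} {Z : F4 → G} {h : F4} (hx : ∀ c, x * Z c * x⁻¹ = Z (h * c)) (n : ℕ) (c : F4) :
    x ^ n * Z c * (x ^ n)⁻¹ = Z (h ^ n * c) := by
  induction n generalizing c with
  | zero => rw [pow_zero, pow_zero, one_mul]; group
  | succ n ih =>
    rw [pow_succ', show x * x ^ n * Z c * (x * x ^ n)⁻¹ = x * (x ^ n * Z c * (x ^ n)⁻¹) * x⁻¹ by group,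
      ih, hx, pow_succ', mul_assoc]

omit [Group G] F in
theorem F4_pow {h : F4} (h0 : h ≠ 0) (h1 : h ≠ F4.e) (n : ℕ) : h ^ (2 ^ n) ≠ F4.e ∧ h ^ (2 ^ n) ≠ 0 := by
  induction n with
  | zero => rw [pow_zero, pow_one]; exact ⟨h1, h0⟩
  | succ n ih =>
    rw [pow_succ, pow_mul, pow_two]
    have : ∀ y : F4, y ≠ F4.e ∧ y ≠ 0 → y * y ≠ F4.e ∧ y * y ≠ 0 := by decide
    exact this _ ih

/-- a 2-element acting linearly on `V` centralizes `V` -/
theorem lin_two {x : G} {h : F4} (h0 : h ≠ 0) (hx : ∀ c, x * Z c * x⁻¹ = Z (h * c))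
    (h2 : ∃ k : ℕ, x ^ (2 ^ k) = 1) : ∀ v ∈ V, x * v = v * x := by
  obtain ⟨k, hk⟩ := h2
  have h1 : h = F4.e := by
    by_contra hne
    have h3 := pow_lin hx (2 ^ k) F4.e
    rw [hk] at h3
    have h4 : Z F4.e = Z (h ^ (2 ^ k) * F4.e) := by rw [← h3]; group
    have h5 := F.Z_inj h4
    apply (F4_pow h0 hne k).1
    rw [show h ^ (2 ^ k) * F4.e = h ^ (2 ^ k) from mul_one _] at h5
    exact h5.symm
  intro v hv
  obtain ⟨c, rfl⟩ := F.Z_surj v hv
  have h6 := hx c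
  rw [h1, show F4.e * c = c from one_mul c] at h6
  calc x * Z c = (x * Z c * x⁻¹) * x := by group
    _ = Z c * x := by rw [h6]

end

/-! ### the element `s` -/

/-- `V` is a Sylow 2-subgroup of `A` -/
theorem V_max [Finite G] (h : OddE A R V ρ g) (h8 : ¬ 8 ∣ Nat.card A) (Q : Subgroup G)
    (hQ : IsPGroup 2 Q) (hVQ : V ≤ Q) (hQA : Q ≤ A) : Q = V := by
  obtain ⟨n, hn⟩ := hQ.exists_card_eq
  have h1 : Nat.card Q ∣ Nat.card A := card_dvd_of_le hQA
  have hn2 : n ≤ 2 := by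
    by_contra hcon
    push_neg at hcon
    apply h8
    rw [hn] at h1
    exact (show (8 : ℕ) ∣ 2 ^ n by rw [show (8 : ℕ) = 2 ^ 3 by norm_num]; exact pow_dvd_pow 2 hcon).trans h1
  symm
  apply eq_of_le_of_card_ge hVQ
  rw [hn, h.cardV]
  calc 2 ^ n ≤ 2 ^ 2 := Nat.pow_le_pow_right (by norm_num) hn2
    _ = 4 := by norm_num

/-- `R` is a Sylow 2-subgroup of `C A` -/
theorem R_max [Finite G] (h : OddE A R V ρ g) (Q : Subgroup G)
    (hQ : IsPGroup 2 Q) (hVQ : R ≤ Q) (hQA : Q ≤ C A) : Q = R := by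
  obtain ⟨n, hn⟩ := hQ.exists_card_eq
  have h1 : Nat.card Q ∣ Nat.card (C A) := card_dvd_of_le hQA
  have hn2 : n ≤ 2 := by
    by_contra hcon
    push_neg at hcon
    apply h.card8
    rw [hn] at h1
    exact (show (8 : ℕ) ∣ 2 ^ n by rw [show (8 : ℕ) = 2 ^ 3 by norm_num]; exact pow_dvd_pow 2 hcon).trans h1
  symm
  apply eq_of_le_of_card_ge hVQ
  rw [hn, h.cardR]
  calc 2 ^ n ≤ 2 ^ 2 := Nat.pow_le_pow_right (by norm_num) hn2
    _ = 4 := by norm_num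

theorem pgroup_cj [Finite G] {Q : Subgroup G} (hQ : IsPGroup 2 Q) (x : G) : IsPGroup 2 (cj x Q) := hQ.map _

theorem pgroup_V [Finite G] (h : OddE A R V ρ g) : IsPGroup 2 V :=
  IsPGroup.of_card (n := 2) (by rw [h.cardV]; norm_num)

theorem pgroup_R [Finite G] (h : OddE A R V ρ g) : IsPGroup 2 R :=
  IsPGroup.of_card (n := 2) (by rw [h.cardR]; norm_num)

/-- `C_A(V) = V` -/
theorem CA_eq (h : OddE A R V ρ g) {x : G} (hx : x ∈ A) (hc : ∀ v ∈ V, x * v = v * x) : x ∈ V := by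
  obtain ⟨v, hv, hxv⟩ := h.CV x (le_N hx) hc
  have h1 := h.te.disj (x * v) (mul_mem hx (h.V_le hv)) hxv
  rw [mul_eq_one_iff_eq_inv] at h1
  rw [h1]
  exact inv_mem hv

theorem AC_of_CV (h : OddE A R V ρ g) {x : G} (hx : x ∈ N A) (hc : ∀ v ∈ V, x * v = v * x) : x ∈ AC A := by
  obtain ⟨v, hv, hxv⟩ := h.CV x hx hc
  have : x = (x * v) * v⁻¹ := by group
  rw [this]
  exact mul_mem (C_le_AC hxv) (A_le_AC (inv_mem (h.V_le hv)))

/-- adjusting an outer element by `A` -/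
theorem exists_inv [Finite G] (h : OddE A R V ρ g) (F : Frame R V P ρ ε X Y Z)
    (h8 : ¬ 8 ∣ Nat.card A) {s : G} (hs : s ∈ N A) (hsA : s ∉ AC A) :
    ∃ a ∈ A, (∀ v ∈ V, (a * s) * v * (a * s)⁻¹ ∈ V) ∧ (a * s) * ρ * (a * s)⁻¹ = ρ⁻¹ := by
  obtain ⟨a, ha, hav⟩ := Pairs.exists_conj_le A V (cj s V) (pgroup_V h) (pgroup_cj (pgroup_V h) s)
    h.V_le (by
      intro x hx
      rw [mem_cj] at hx
      have h1 := conj_mem hs (h.V_le hx)
      rwa [show s * (s⁻¹ * x * s) * s⁻¹ = x by group] at h1) (V_max h h8)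
  have hV : ∀ v ∈ V, (a * s) * v * (a * s)⁻¹ ∈ V := by
    intro v hv
    have h1 := hav _ (conj_mem_cj.2 hv)
    rwa [show a * (s * v * s⁻¹) * a⁻¹ = (a * s) * v * (a * s)⁻¹ by group] at h1
  have htN : a * s ∈ N A := mul_mem (le_N ha) hs
  have htA : a * s ∉ AC A := by
    intro h1
    apply hsA
    rw [show s = a⁻¹ * (a * s) by group]
    exact mul_mem (A_le_AC (inv_mem ha)) h1
  obtain ⟨t, ht⟩ : ∃ t, t = a * s := ⟨_, rfl⟩
  rw [← ht] at hV htN htA
  obtain ⟨hh, hh0, hc | hc⟩ := act_V F hV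
  · exfalso
    apply htA
    -- find `σ`, a power of `ρ`, such that `σ t` centralizes `V`
    obtain ⟨σ, hσA, hσ⟩ : ∃ σ ∈ A, ∀ c, σ * Z (hh * c) * σ⁻¹ = Z c := by
      have hρ := F.ρZ
      have : hh = F4.e ∨ hh = F4.w ∨ hh = F4.u := by
        revert hh0
        cases hh
        · intro h; exact absurd rfl h
        · intro _; exact Or.inl rfl
        · intro _; exact Or.inr (Or.inl rfl)
        · intro _; exact Or.inr (Or.inr rfl)
      rcases this with rfl | rfl | rfl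
      · exact ⟨1, one_mem _, fun c => by rw [show F4.e * c = c from one_mul c]; group⟩
      · refine ⟨ρ * ρ, mul_mem h.ρ_mem h.ρ_mem, fun c => ?_⟩
        rw [show ρ * ρ * Z (F4.w * c) * (ρ * ρ)⁻¹ = ρ * (ρ * Z (F4.w * c) * ρ⁻¹) * ρ⁻¹ by group, hρ, hρ]
        congr 1
        have : ∀ c : F4, F4.w * (F4.w * (F4.w * c)) = c := by decide
        exact this c
      · refine ⟨ρ, h.ρ_mem, fun c => ?_⟩
        rw [hρ]
        congr 1
        have : ∀ c : F4, F4.w * (F4.u * c) = c := by decide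
        exact this c
    have hc2 : ∀ v ∈ V, (σ * t) * v = v * (σ * t) := by
      intro v hv
      obtain ⟨c, rfl⟩ := F.Z_surj v hv
      have : (σ * t) * Z c * (σ * t)⁻¹ = Z c := by
        rw [show (σ * t) * Z c * (σ * t)⁻¹ = σ * (t * Z c * t⁻¹) * σ⁻¹ by group, hc, hσ]
      calc (σ * t) * Z c = ((σ * t) * Z c * (σ * t)⁻¹) * (σ * t) := by group
        _ = Z c * (σ * t) := by rw [this]
    have h1 := AC_of_CV h (mul_mem (le_N hσA) htN) hc2
    rw [show t = σ⁻¹ * (σ * t) by group]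
    exact mul_mem (A_le_AC (inv_mem hσA)) h1
  · -- the semilinear case
    have h1 : ∀ d, (t * ρ * t⁻¹) * Z d * (t * ρ * t⁻¹)⁻¹ = Z (F4.u * d) := by
      intro d
      obtain ⟨c, hcd⟩ : ∃ c, hh * F4.fr c = d := by
        have : ∀ hh d : F4, hh ≠ 0 → ∃ c, hh * F4.fr c = d := by decide
        exact this hh d hh0
      rw [← hcd, ← hc, show (t * ρ * t⁻¹) * (t * Z c * t⁻¹) * (t * ρ * t⁻¹)⁻¹ =
        t * (ρ * Z c * ρ⁻¹) * t⁻¹ by group, F.ρZ, hc]
      congr 1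
      have : ∀ hh c : F4, hh * F4.fr (F4.w * c) = F4.u * (hh * F4.fr c) := by decide
      exact this hh c
    have h2 : t * ρ * t⁻¹ * ρ ∈ A := mul_mem (conj_mem htN h.ρ_mem) h.ρ_mem
    have h3 : ∀ v ∈ V, (t * ρ * t⁻¹ * ρ) * v = v * (t * ρ * t⁻¹ * ρ) := by
      intro v hv
      obtain ⟨c, rfl⟩ := F.Z_surj v hv
      have : (t * ρ * t⁻¹ * ρ) * Z c * (t * ρ * t⁻¹ * ρ)⁻¹ = Z c := by
        rw [show (t * ρ * t⁻¹ * ρ) * Z c * (t * ρ * t⁻¹ * ρ)⁻¹ =
          (t * ρ * t⁻¹) * (ρ * Z c * ρ⁻¹) * (t * ρ * t⁻¹)⁻¹ by group, F.ρZ, h1]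
        congr 1
        have : ∀ c : F4, F4.u * (F4.w * c) = c := by decide
        exact this c
      calc (t * ρ * t⁻¹ * ρ) * Z c = ((t * ρ * t⁻¹ * ρ) * Z c * (t * ρ * t⁻¹ * ρ)⁻¹) * (t * ρ * t⁻¹ * ρ) := by
            group
        _ = _ := by rw [this]
    have h4 := CA_eq h h2 h3
    obtain ⟨c, hc4⟩ := F.Z_surj _ h4
    have h5 : t * ρ * t⁻¹ = Z c * ρ⁻¹ := by rw [hc4]; group
    refine ⟨Z (F4.u * c) * a, mul_mem (h.V_le (F.Z_mem _)) ha, ?_, ?_⟩
    · intro v hv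
      rw [mul_assoc (Z _) a s, ← ht, show Z (F4.u * c) * t * v * (Z (F4.u * c) * t)⁻¹ =
        Z (F4.u * c) * (t * v * t⁻¹) * (Z (F4.u * c))⁻¹ by group]
      exact mul_mem (mul_mem (F.Z_mem _) (hV v hv)) (inv_mem (F.Z_mem _))
    · have h6 : (Z (F4.u * c))⁻¹ = Z (F4.u * c) := invV h (F.Z_mem _)
      have h7 : ρ⁻¹ * Z (F4.u * c) * ρ = Z (F4.u * (F4.u * c)) := by
        have h8 := F.ρZ (F4.u * (F4.u * c))
        have e : ∀ c : F4, F4.w * (F4.u * (F4.u * c)) = F4.u * c := by decide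
        rw [e] at h8
        rw [← h8]; group
      rw [mul_assoc (Z _) a s, ← ht, show Z (F4.u * c) * t * ρ * (Z (F4.u * c) * t)⁻¹ =
        Z (F4.u * c) * (t * ρ * t⁻¹) * (Z (F4.u * c))⁻¹ by group, h5, h6]
      calc Z (F4.u * c) * (Z c * ρ⁻¹) * Z (F4.u * c) =
          Z (F4.u * c) * Z c * (ρ⁻¹ * Z (F4.u * c) * ρ) * ρ⁻¹ := by group
        _ = Z (F4.u * c + c + F4.u * (F4.u * c)) * ρ⁻¹ := by rw [h7, F.Z_add, F.Z_add]
        _ = ρ⁻¹ := by
          have e : ∀ c : F4, F4.u * c + c + F4.u * (F4.u * c) = 0 := by decide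
          rw [e, F.Z_zero, one_mul]

/-- the properties of the outer element `s` -/
structure IsS (A R V : Subgroup G) (ρ s : G) : Prop where
  mem : s ∈ N A
  out : s ∉ AC A
  conjρ : s * ρ * s⁻¹ = ρ⁻¹
  memR : ∀ r ∈ R, s * r * s⁻¹ ∈ R
  memV : ∀ v ∈ V, s * v * s⁻¹ ∈ V
  sq : s * s ∈ R

theorem exists_isS [Finite G] (h : OddE A R V ρ g) (F : Frame R V P ρ ε X Y Z)
    (h8 : ¬ 8 ∣ Nat.card A) (hmu : ¬ Mu1 A) : ∃ s, IsS A R V ρ s := by
  obtain ⟨s₀, hs₀, hs₀A⟩ := not_mu1 hmu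
  obtain ⟨a, ha, hV, hρ⟩ := exists_inv h F h8 hs₀ hs₀A
  have htN : a * s₀ ∈ N A := mul_mem (le_N ha) hs₀
  have htA : a * s₀ ∉ AC A := by
    intro h1
    apply hs₀A
    rw [show s₀ = a⁻¹ * (a * s₀) by group]
    exact mul_mem (A_le_AC (inv_mem ha)) h1
  obtain ⟨t, ht⟩ : ∃ t, t = a * s₀ := ⟨_, rfl⟩
  rw [← ht] at hV htN htA hρ
  -- normalize `R`
  obtain ⟨k, hk, hkR⟩ := Pairs.exists_conj_le (C A) R (cj t R) (pgroup_R h) (pgroup_cj (pgroup_R h) t)
    h.R_le (by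
      intro x hx
      rw [mem_cj] at hx
      have h1 := conj_mem_C htN (h.R_le hx)
      rwa [show t * (t⁻¹ * x * t) * t⁻¹ = x by group] at h1) (R_max h)
  obtain ⟨x, hx⟩ : ∃ x, x = k * t := ⟨_, rfl⟩
  have hxR : ∀ r ∈ R, x * r * x⁻¹ ∈ R := by
    intro v hv
    have h1 := hkR _ (conj_mem_cj.2 hv)
    rwa [show k * (t * v * t⁻¹) * k⁻¹ = x * v * x⁻¹ by rw [hx]; group] at h1
  have hxV : ∀ v ∈ V, x * v * x⁻¹ ∈ V := by
    intro v hv
    rw [hx, show k * t * v * (k * t)⁻¹ = k * (t * v * t⁻¹) * k⁻¹ by group, Base.CA_V h hk (hV v hv)]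
    exact hV v hv
  have hxρ : x * ρ * x⁻¹ = ρ⁻¹ := by
    rw [hx, show k * t * ρ * (k * t)⁻¹ = k * (t * ρ * t⁻¹) * k⁻¹ by group, hρ,
      comm_of_C hk (inv_mem h.ρ_mem)]; group
  have hxN : x ∈ N A := by rw [hx]; exact mul_mem (C_le_N hk) htN
  have hxA : x ∉ AC A := by
    intro h1
    apply htA
    rw [show t = k⁻¹ * x by rw [hx]; group]
    exact mul_mem (C_le_AC (inv_mem hk)) h1
  -- the square
  have hρi : x * ρ⁻¹ * x⁻¹ = ρ := by
    calc x * ρ⁻¹ * x⁻¹ = (x * ρ * x⁻¹)⁻¹ := by group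
      _ = ρ := by rw [hxρ, inv_inv]
  have hxx : x * x ∈ C A := by
    have hcomm : x * x * ρ = ρ * (x * x) := by
      calc x * x * ρ = x * (x * ρ * x⁻¹) * x⁻¹ * (x * x) := by group
        _ = ρ * (x * x) := by rw [hxρ, hρi]
    have hcV : ∀ v ∈ V, (x * x) * v = v * (x * x) := by
      obtain ⟨hh, hh0, hc | hc⟩ := act_V F hxV
      · exfalso
        -- linear action is impossible
        have h1 : x * (ρ * Z F4.e * ρ⁻¹) * x⁻¹ = ρ⁻¹ * (x * Z F4.e * x⁻¹) * ρ := by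
          calc x * (ρ * Z F4.e * ρ⁻¹) * x⁻¹ = (x * ρ * x⁻¹) * (x * Z F4.e * x⁻¹) * (x * ρ * x⁻¹)⁻¹ := by group
            _ = _ := by rw [hxρ]; group
        rw [F.ρZ, hc, hc] at h1
        have h2 : ρ * (ρ⁻¹ * Z (hh * F4.e) * ρ) * ρ⁻¹ = Z (F4.w * (hh * (F4.w * F4.e))) := by
          rw [← h1, F.ρZ]
        have h3 : Z (hh * F4.e) = Z (F4.w * (hh * (F4.w * F4.e))) := by rw [← h2]; group
        have h4 := F.Z_inj h3
        have : ∀ hh : F4, hh ≠ 0 → hh * F4.e ≠ F4.w * (hh * (F4.w * F4.e)) := by decide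
        exact this hh hh0 h4
      · intro v hv
        obtain ⟨c, rfl⟩ := F.Z_surj v hv
        have : (x * x) * Z c * (x * x)⁻¹ = Z c := by
          rw [show (x * x) * Z c * (x * x)⁻¹ = x * (x * Z c * x⁻¹) * x⁻¹ by group, hc, hc]
          congr 1
          have : ∀ hh c : F4, hh ≠ 0 → hh * F4.fr (hh * F4.fr c) = c := by decide
          exact this hh c hh0
        calc (x * x) * Z c = ((x * x) * Z c * (x * x)⁻¹) * (x * x) := by group
          _ = _ := by rw [this]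
    obtain ⟨v, hv, hxv⟩ := h.CV _ (mul_mem hxN hxN) hcV
    have h1 : ρ * v * ρ⁻¹ = v := by
      have h2 := comm_of_C hxv h.ρ_mem
      calc ρ * v * ρ⁻¹ = ρ * (x * x)⁻¹ * ρ⁻¹ * (ρ * (x * x * v)) * ρ⁻¹ := by group
        _ = ρ * (x * x)⁻¹ * ρ⁻¹ * ((x * x * v) * ρ) * ρ⁻¹ := by rw [h2]
        _ = ρ * (ρ * (x * x))⁻¹ * (x * x) * v := by group
        _ = v := by rw [← hcomm]; group
    have h3 : v = 1 := by
      by_contra hne
      exact h.ρfix v hv hne h1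
    rw [h3, mul_one] at hxv
    exact hxv
  -- the 2-part
  obtain ⟨s, b, hs, hb, hab, hs2, hbo⟩ := exists_two_odd x
  have hbC : b ∈ C A := by
    obtain ⟨n, hn⟩ := hb
    have hn' : x ^ n = b := hn
    have h1 : b * b ∈ C A := by
      rw [← hn', ← (Commute.refl x).mul_zpow]
      exact zpow_mem hxx n
    obtain ⟨m, hm⟩ := hbo
    have h2 : b = (b * b) ^ (m + 1) := by
      have h3 := pow_orderOf_eq_one b
      rw [hm] at h3
      calc b = b * b ^ (2 * m + 1) := by rw [h3, mul_one]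
        _ = b ^ (2 * (m + 1)) := by rw [← pow_succ']; congr 1
        _ = (b * b) ^ (m + 1) := by rw [pow_mul, pow_two]
    rw [h2]
    exact pow_mem h1 _
  have hsx : s = x * b⁻¹ := by rw [hab]; group
  have hbR : ∀ r ∈ R, b⁻¹ * r * b ∈ R := by
    have h1 : zpowers x ≤ N R := by rw [zpowers_le]; exact mem_N_of hxR
    exact fun r hr => conj_mem' (h1 hb) hr
  have hsR : ∀ r ∈ R, s * r * s⁻¹ ∈ R := by
    intro r hr
    rw [hsx, show x * b⁻¹ * r * (x * b⁻¹)⁻¹ = x * (b⁻¹ * r * b) * x⁻¹ by group]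
    exact hxR _ (hbR r hr)
  have hss : s * s ∈ C A := by
    obtain ⟨n, hn⟩ := hs
    have hn' : x ^ n = s := hn
    rw [← hn', ← (Commute.refl x).mul_zpow]
    exact zpow_mem hxx n
  refine ⟨s, ⟨?_, ?_, ?_, hsR, ?_, ?_⟩⟩
  · rw [hsx]; exact mul_mem hxN (inv_mem (C_le_N hbC))
  · intro h1
    apply hxA
    rw [hab]
    exact mul_mem h1 (C_le_AC hbC)
  · rw [hsx, show x * b⁻¹ * ρ * (x * b⁻¹)⁻¹ = x * (b⁻¹ * ρ * b) * x⁻¹ by group,
      comm_of_C (inv_mem hbC) h.ρ_mem]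
    calc x * (ρ * b⁻¹ * b) * x⁻¹ = x * ρ * x⁻¹ := by group
      _ = ρ⁻¹ := hxρ
  · intro v hv
    rw [hsx, show x * b⁻¹ * v * (x * b⁻¹)⁻¹ = x * (b⁻¹ * v * b⁻¹⁻¹) * x⁻¹ by group,
      Base.CA_V h (inv_mem hbC) hv]
    exact hxV v hv
  · apply mem_R_of_two h hss
    · intro r hr
      rw [show s * s * r * (s * s)⁻¹ = s * (s * r * s⁻¹) * s⁻¹ by group]
      exact hsR _ (hsR r hr)
    · obtain ⟨k, hk⟩ := hs2
      exact ⟨k, by rw [(show Commute s s from rfl).mul_pow, hk, one_mul]⟩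

namespace IsS

variable {s : G}

theorem mul_R (h : OddE A R V ρ g) (hs : IsS A R V ρ s) {r : G} (hr : r ∈ R) : IsS A R V ρ (r * s) where
  mem := mul_mem (C_le_N (h.R_le hr)) hs.mem
  out := by
    intro h1
    apply hs.out
    rw [show s = r⁻¹ * (r * s) by group]
    exact mul_mem (C_le_AC (inv_mem (h.R_le hr))) h1
  conjρ := by
    rw [show r * s * ρ * (r * s)⁻¹ = r * (s * ρ * s⁻¹) * r⁻¹ by group, hs.conjρ,
      comm_of_C (h.R_le hr) (inv_mem h.ρ_mem)]; group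
  memR := by
    intro x hx
    rw [show r * s * x * (r * s)⁻¹ = r * (s * x * s⁻¹) * r⁻¹ by group]
    exact mul_mem (mul_mem hr (hs.memR x hx)) (inv_mem hr)
  memV := by
    intro x hx
    rw [show r * s * x * (r * s)⁻¹ = r * (s * x * s⁻¹) * r⁻¹ by group, Base.CA_V h (h.R_le hr) (hs.memV x hx)]
    exact hs.memV x hx
  sq := by
    rw [show r * s * (r * s) = r * (s * r * s⁻¹) * (s * s) by group]
    exact mul_mem (mul_mem hr (hs.memR r hr)) hs.sq

theorem NE [Finite G] (h : OddE A R V ρ g) (hs : IsS A R V ρ s) : s ∈ N (R ⊔ V) := Base.mem_NE h hs.memR hs.memV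

theorem nrm [Finite G] {h : OddE A R V ρ g} (hP : IsP h P) (hs : IsS A R V ρ s) : Nrm R V P s :=
  Base.nrm hP (hs.NE h) hs.mem

end IsS

end Cfsg.Agent.StdAlt.Five.Mu
end

-- part: StdAlt/Five/MuNorm
section
set_option linter.all false
open scoped Cfsg.Agent.FastGrp

/-!
# S1766, n = 5, case (I): normal form of the field automorphism
-/

set_option autoImplicit false

namespace Cfsg.Agent.StdAlt.Five.MuNorm

open Subgroup Cfsg.Agent.StdAlt.Conj Cfsg.Agent.J2Sylow.Model Cfsg.Agent.StdAlt.Five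
open Cfsg.Agent.StdAlt.Five.Sec4 Cfsg.Agent.StdAlt.Five.PGroup Cfsg.Agent.StdAlt.Five.PExists
open Cfsg.Agent.StdAlt.Five.PData Cfsg.Agent.StdAlt.Five.Coord Cfsg.Agent.StdAlt.Five.Moves
open Cfsg.Agent.StdAlt.Five.Mu

variable {G : Type*} [Group G] {A R V P : Subgroup G} {ρ g s : G} {ε f l n h : F4} {X Y Z : F4 → G}

/-- the semilinear action of `s` -/
structure Semi (X Y Z : F4 → G) (s : G) (f l n h : F4) : Prop where
  onX : ∀ a, s * X a * s⁻¹ = X (f * F4.fr a)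
  onY : ∀ b, s * Y b * s⁻¹ = Y (l * F4.fr b) * Z (n * F4.fr b)
  onZ : ∀ c, s * Z c * s⁻¹ = Z (h * F4.fr c)

theorem Semi.scale (S : Semi X Y Z s f l n h) {β β' : F4} (hβ : β * β' = 1) :
    Semi X (fun b => Y (β * b)) (fun c => Z (β * c)) s f (β' * l * F4.fr β) (β' * n * F4.fr β)
      (β' * h * F4.fr β) where
  onX := S.onX
  onY := by
    intro b
    rw [S.onY]
    have e : ∀ x : F4, β * (β' * x * F4.fr β * F4.fr b) = x * F4.fr (β * b) := by
      intro x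
      rw [F4.fr_mul]
      calc β * (β' * x * F4.fr β * F4.fr b) = (β * β') * (x * (F4.fr β * F4.fr b)) := by ring
        _ = _ := by rw [hβ, one_mul]
    rw [e, e]
  onZ := by
    intro b
    rw [S.onZ]
    have e : ∀ x : F4, β * (β' * x * F4.fr β * F4.fr b) = x * F4.fr (β * b) := by
      intro x
      rw [F4.fr_mul]
      calc β * (β' * x * F4.fr β * F4.fr b) = (β * β') * (x * (F4.fr β * F4.fr b)) := by ring
        _ = _ := by rw [hβ, one_mul]
    rw [e]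

theorem Semi.scaleX (S : Semi X Y Z s f l n h) {α α' : F4} (hα : α * α' = 1) :
    Semi (fun a => X (α * a)) (fun b => Y (α' * b)) Z s (α' * f * F4.fr α) (α * l * F4.fr α')
      (n * F4.fr α') h where
  onX := by
    intro a
    rw [S.onX]
    congr 1
    rw [F4.fr_mul]
    calc f * (F4.fr α * F4.fr a) = 1 * (f * (F4.fr α * F4.fr a)) := by rw [one_mul]
      _ = _ := by rw [← hα]; ring
  onY := by
    intro b
    rw [S.onY]
    congr 2
    · rw [F4.fr_mul]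
      calc l * (F4.fr α' * F4.fr b) = 1 * (l * (F4.fr α' * F4.fr b)) := by rw [one_mul]
        _ = _ := by rw [← hα]; ring
    · rw [F4.fr_mul]; ring
  onZ := S.onZ

theorem Semi.shift (F : Frame R V P ρ ε X Y Z) (S : Semi X Y Z s f l n h) (k : F4) :
    Semi X (fun b => Y b * Z (k * b)) Z s f l (n + k * l + h * F4.fr k) h where
  onX := S.onX
  onY := by
    intro b
    rw [conj_mul', S.onY, S.onZ, mul_assoc, mul_assoc, ← F.Z_add, ← F.Z_add]
    congr 2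
    have : ∀ n h k l b : F4, n * F4.fr b + h * F4.fr (k * b) = k * (l * F4.fr b) +
      (n + k * l + h * F4.fr k) * F4.fr b := by
      intro n h k l b
      rw [F4.fr_mul]
      have h2 : k * l * F4.fr b + k * l * F4.fr b = 0 := F4.add_self _
      calc n * F4.fr b + h * (F4.fr k * F4.fr b) = (k * l * F4.fr b + k * l * F4.fr b) +
            (n * F4.fr b + h * (F4.fr k * F4.fr b)) := by rw [h2, zero_add]
        _ = _ := by ring
    exact this n h k l b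
  onZ := S.onZ

theorem Kap3.scale {ρ₀ : G} (K : Kap3 A X Y ρ₀) (β : F4) : Kap3 A X (fun b => Y (β * b)) ρ₀ where
  mem := K.mem
  conjX := K.conjX
  conjY := by
    intro b
    rw [K.conjY]
    congr 1
    ring

theorem Kap3.scaleX {ρ₀ : G} (K : Kap3 A X Y ρ₀) (α α' : F4) :
    Kap3 A (fun a => X (α * a)) (fun b => Y (α' * b)) ρ₀ where
  mem := K.mem
  conjX := by
    intro b
    rw [K.conjX]
    congr 1
    ring
  conjY := by
    intro b
    rw [K.conjY]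
    congr 1
    ring

section

variable (D : Data R V P ρ) (F : Frame R V P ρ ε X Y Z)
include D F

/-- if `s * s = 1` -/
theorem Semi.n_rel (S : Semi X Y Z s f l n h) (hs : s * s = 1) :
    n * F4.fr l + h * F4.fr n = 0 := by
  have h1 : s * (s * Y F4.e * s⁻¹) * s⁻¹ = Y F4.e := by
    rw [show s * (s * Y F4.e * s⁻¹) * s⁻¹ = (s * s) * Y F4.e * (s * s)⁻¹ by group, hs]; group
  rw [S.onY, conj_mul', S.onY, S.onZ, mul_assoc, ← F.Z_add] at h1
  have h2 : Y (l * F4.fr (l * F4.fr F4.e)) * Z (n * F4.fr (l * F4.fr F4.e) + h * F4.fr (n * F4.fr F4.e)) =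
    Y F4.e * Z 0 := by rw [h1, F.Z_zero, mul_one]
  have h3 := (E2_inj D F h2).2
  have : ∀ n l h : F4, n * F4.fr (l * F4.fr F4.e) + h * F4.fr (n * F4.fr F4.e) = n * F4.fr l + h * F4.fr n := by
    decide
  rw [this] at h3
  exact h3

/-- case (Q): `f = 1` -/
theorem Semi.f_one (hε : ε = F4.e) (S : Semi X Y Z s f l n h) (hl : l ≠ 0) (hfl : h = f * l) : f = 1 := by
  subst hε
  have h1 : (Y F4.e) * (Y F4.e) = Z F4.e := by
    rw [F.Y_mul]
    change Y 0 * Z F4.e = _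
    rw [F.Y_zero, one_mul]
  have h2 : s * (Y F4.e * Y F4.e) * s⁻¹ = Z (h * F4.fr F4.e) := by
    rw [h1, S.onZ]
  rw [conj_mul', S.onY, E2_mul D F] at h2
  have h3 := (E2_inj D F (b' := 0) (by rw [h2, F.Y_zero, one_mul])).2
  subst hfl
  have : ∀ l n f : F4, l ≠ 0 → n * F4.fr F4.e + n * F4.fr F4.e +
      F4.e * F4.fr (l * F4.fr F4.e * (l * F4.fr F4.e)) = f * l * F4.fr F4.e → f = 1 := by decide
  exact this l n f hl h3

/-- normal form except for `n` -/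
theorem norm_aux (hε : ε = 0 ∨ ε = F4.e) (S : Semi X Y Z s f l n h) (hf : f ≠ 0) (hl : l ≠ 0)
    (hfl : h = f * l) : ∃ (X' Y' Z' : F4 → G) (n' : F4), Frame R V P ρ ε X' Y' Z' ∧
      Semi X' Y' Z' s 1 1 n' 1 ∧ (n = 0 → n' = 0) ∧ ∀ ρ₀, Kap3 A X Y ρ₀ → Kap3 A X' Y' ρ₀ := by
  rcases hε with rfl | hε
  · have hα : F4.fr f * f = 1 := by
      have : ∀ f : F4, f ≠ 0 → F4.fr f * f = 1 := by decide
      exact this f hf
    have hh : h ≠ 0 := by
      have : ∀ f l : F4, f ≠ 0 → l ≠ 0 → f * l ≠ 0 := by decide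
      rw [hfl]; exact this f l hf hl
    have hβ : F4.fr h * h = 1 := by
      have : ∀ f : F4, f ≠ 0 → F4.fr f * f = 1 := by decide
      exact this h hh
    have S1 := S.scaleX hα
    have S2 := S1.scale hβ
    have e1 : f * f * F4.fr (F4.fr f) = 1 := by
      have : ∀ f : F4, f ≠ 0 → f * f * F4.fr (F4.fr f) = 1 := by decide
      exact this f hf
    have e2 : h * (F4.fr f * l * F4.fr f) * F4.fr (F4.fr h) = 1 := by
      have : ∀ f l : F4, f ≠ 0 → l ≠ 0 → f * l * (F4.fr f * l * F4.fr f) * F4.fr (F4.fr (f * l)) = 1 := by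
        decide
      rw [hfl]
      exact this f l hf hl
    have e3 : h * h * F4.fr (F4.fr h) = 1 := by
      have : ∀ f : F4, f ≠ 0 → f * f * F4.fr (F4.fr f) = 1 := by decide
      exact this h hh
    rw [e1, e2, e3] at S2
    refine ⟨_, _, _, _, Moves.scale (Moves.scaleX F hα) hβ, S2, ?_, ?_⟩
    · intro hn
      rw [hn]; ring
    · intro ρ₀ K
      exact Kap3.scale (Kap3.scaleX K (F4.fr f) f) (F4.fr h)
  · have hf1 := S.f_one D F hε hl hfl
    have hhl : h = l := by rw [hfl, hf1, one_mul]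
    subst hhl
    have hβ : F4.fr h * h = 1 := by
      have : ∀ f : F4, f ≠ 0 → F4.fr f * f = 1 := by decide
      exact this h hl
    have S2 := S.scale hβ
    have e3 : h * h * F4.fr (F4.fr h) = 1 := by
      have : ∀ f : F4, f ≠ 0 → f * f * F4.fr (F4.fr f) = 1 := by decide
      exact this h hl
    rw [e3, hf1] at S2
    refine ⟨_, _, _, _, Moves.scale F hβ, S2, ?_, ?_⟩
    · intro hn
      rw [hn]; ring
    · intro ρ₀ K
      exact Kap3.scale K (F4.fr h)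

omit D F in
theorem Semi.mu2 (hS : IsS A R V ρ s) (hss : s * s = 1) (S : Semi X Y Z s 1 1 0 1) (F : Frame R V P ρ ε X Y Z) :
    Mu2 A ρ X Y Z s where
  mem := hS.mem
  out := fun a ha k hk e => hS.out ⟨a, ha, k, hk, e⟩
  sq := hss
  conjρ := by
    have h1 := hS.conjρ
    rwa [inv_eq_of_mul_eq_one_left hss] at h1
  conjX := by
    intro a
    have h1 := S.onX a
    rwa [inv_eq_of_mul_eq_one_left hss, one_mul] at h1
  conjY := by
    intro a
    have h1 := S.onY a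
    rwa [inv_eq_of_mul_eq_one_left hss, one_mul, zero_mul, F.Z_zero, mul_one] at h1
  conjZ := by
    intro a
    have h1 := S.onZ a
    rwa [inv_eq_of_mul_eq_one_left hss, one_mul] at h1

end

variable {hO : OddE A R V ρ g}

/-- `s` can be chosen to be an involution -/
theorem exists_sq [Finite G] (hP : IsP hO P) (F : Frame R V P ρ ε X Y Z) (hs : IsS A R V ρ s) :
    ∃ r ∈ R, (r * s) * (r * s) = 1 := by
  have D := PData.data hP
  obtain ⟨f, l, n, h, hf, hl, hfl, hX, hY, hZ⟩ := act_semi D F (hs.nrm hP) hs.conjρ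
  obtain ⟨r, hr⟩ := F.X_surj _ hs.sq
  have h1 : f * F4.fr r = r := by
    apply F.X_inj
    rw [← hX, hr]; group
  have key : ∀ f r : F4, f ≠ 0 → f * F4.fr r = r → ∃ a, a + f * F4.fr a + r = 0 := by decide
  obtain ⟨a, ha⟩ := key f r hf h1
  refine ⟨X a, F.X_mem a, ?_⟩
  rw [show X a * s * (X a * s) = X a * (s * X a * s⁻¹) * (s * s) by group, hX, ← hr, ← F.X_add, ← F.X_add,
    ha, F.X_zero]

/-- **normal form of `μ = 2`** (without `κ`) -/
theorem norm_one [Finite G] (hP : IsP hO P) (hε : ε = 0 ∨ ε = F4.e) (F : Frame R V P ρ ε X Y Z)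
    (h8 : ¬ 8 ∣ Nat.card A) (hmu : ¬ Mu1 A) : ∃ X' Y' Z' s, Frame R V P ρ ε X' Y' Z' ∧ Mu2 A ρ X' Y' Z' s := by
  have D := PData.data hP
  obtain ⟨s₀, hs₀⟩ := exists_isS hO F h8 hmu
  obtain ⟨r, hr, hrs⟩ := exists_sq hP F hs₀
  have hs := hs₀.mul_R hO hr
  obtain ⟨s, hse⟩ : ∃ s, s = r * s₀ := ⟨_, rfl⟩
  rw [← hse] at hs hrs
  obtain ⟨f, l, n, h, hf, hl, hfl, hX, hY, hZ⟩ := act_semi D F (hs.nrm hP) hs.conjρ
  obtain ⟨X', Y', Z', n', F', S', -, -⟩ := norm_aux (A := A) D F hε ⟨hX, hY, hZ⟩ hf hl hfl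
  have h1 := S'.n_rel D F' hrs
  have key : ∀ n : F4, n * F4.fr 1 + 1 * F4.fr n = 0 → ∃ k, n + k * 1 + 1 * F4.fr k = 0 := by decide
  obtain ⟨k, hk⟩ := key n' h1
  have S'' := S'.shift F' k
  rw [hk] at S''
  have F'' := Moves.shift D F' k
  exact ⟨_, _, _, s, F'', S''.mu2 hs hrs F''⟩

/-- odd elements of `C_G(R)` in `C A` -/
theorem dec_CR [Finite G] {x : G} (hx : x ∈ C A) (hR : ∀ r ∈ R, x * r = r * x) (hO : OddE A R V ρ g) :
    ∃ y ∈ R, ∃ d ∈ Od R V, x = y * d := by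
  obtain ⟨a, b, ha, hb, hab, ha2, hbo⟩ := exists_two_odd x
  have hzA : zpowers x ≤ C A := by rw [zpowers_le]; exact hx
  have hpow : ∀ y ∈ zpowers x, ∀ r ∈ R, y * r = r * y := by
    rintro y ⟨n, rfl⟩ r hr
    exact ((show Commute x r from hR r hr).zpow_left n).eq
  refine ⟨a, ?_, b, ⟨⟨hpow b hb, fun v hv => comm_of_C (hzA hb) (hO.V_le hv)⟩, hbo⟩, hab⟩
  apply mem_R_of_two hO (hzA ha) _ ha2
  intro r hr
  rw [hpow a ha r hr]
  rw [show r * a * a⁻¹ = r by group]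
  exact hr

theorem inv_Od {d : G} (hd : d ∈ Od R V) : d⁻¹ ∈ Od R V := by
  refine ⟨⟨fun r hr => ?_, fun r hr => ?_⟩, by rw [orderOf_inv]; exact hd.2⟩
  · exact ((show Commute d r from hd.1.1 r hr).inv_left).eq
  · exact ((show Commute d r from hd.1.2 r hr).inv_left).eq

/-- **normal form of `κ = 3`, `μ = 2`** -/
theorem norm_three [Finite G] (hP : IsP hO P) (F : Frame R V P ρ 0 X Y Z) {ρ₀ : G} (K : Kap3 A X Y ρ₀)
    (h8 : ¬ 8 ∣ Nat.card A) (hmu : ¬ Mu1 A) : ∃ X' Y' Z' s, Frame R V P ρ 0 X' Y' Z' ∧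
      Kap3 A X' Y' ρ₀ ∧ Mu2 A ρ X' Y' Z' s ∧ ∃ d ∈ Od R V, s * ρ₀ * s⁻¹ = ρ₀⁻¹ * d := by
  have D := PData.data hP
  obtain ⟨s₀, hs₀⟩ := exists_isS hO F h8 hmu
  have hρ₀E : ρ₀ ∈ N (R ⊔ V) := by
    refine Base.mem_NE hO (fun r hr => ?_) (fun v hv => ?_)
    · obtain ⟨a, rfl⟩ := F.X_surj r hr
      rw [K.conjX]; exact F.X_mem _
    · rw [Base.CA_V hO K.mem hv]; exact hv
  have hρi : ∀ a, ρ₀⁻¹ * X a * ρ₀ = X (F4.u * a) := by
    intro a
    have h1 := K.conjX (F4.u * a)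
    have : ∀ a : F4, F4.w * (F4.u * a) = a := by decide
    rw [this] at h1
    rw [← h1]; group
  have hρiY : ∀ a, ρ₀⁻¹ * Y a * ρ₀ = Y (F4.w * a) := by
    intro a
    have h1 := K.conjY (F4.w * a)
    have : ∀ a : F4, F4.u * (F4.w * a) = a := by decide
    rw [this] at h1
    rw [← h1]; group
  -- the adjusted element
  obtain ⟨r, hr, d, hd, hrd⟩ : ∃ r ∈ R, ∃ d ∈ Od R V, (r * s₀) * ρ₀ * (r * s₀)⁻¹ = ρ₀⁻¹ * d := by
    obtain ⟨f, l, n, h, hf, hl, hfl, hX, hY, hZ⟩ := act_semi D F (hs₀.nrm hP) hs₀.conjρ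
    have hxA : ρ₀ * (s₀ * ρ₀ * s₀⁻¹) ∈ C A := mul_mem K.mem (conj_mem_C hs₀.mem K.mem)
    have hxR : ∀ r ∈ R, ρ₀ * (s₀ * ρ₀ * s₀⁻¹) * r = r * (ρ₀ * (s₀ * ρ₀ * s₀⁻¹)) := by
      intro r hr
      obtain ⟨a, rfl⟩ := F.X_surj r hr
      obtain ⟨b, hb⟩ : ∃ b, f * F4.fr b = a := by
        have : ∀ hh d : F4, hh ≠ 0 → ∃ c, hh * F4.fr c = d := by decide
        exact this f a hf
      have h1 : (s₀ * ρ₀ * s₀⁻¹) * X a * (s₀ * ρ₀ * s₀⁻¹)⁻¹ = X (F4.u * a) := by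
        rw [← hb, ← hX, show (s₀ * ρ₀ * s₀⁻¹) * (s₀ * X b * s₀⁻¹) * (s₀ * ρ₀ * s₀⁻¹)⁻¹ =
          s₀ * (ρ₀ * X b * ρ₀⁻¹) * s₀⁻¹ by group, K.conjX, hX]
        congr 1
        have : ∀ f b : F4, f * F4.fr (F4.w * b) = F4.u * (f * F4.fr b) := by decide
        exact this f b
      have h2 : (ρ₀ * (s₀ * ρ₀ * s₀⁻¹)) * X a * (ρ₀ * (s₀ * ρ₀ * s₀⁻¹))⁻¹ = X a := by
        rw [show (ρ₀ * (s₀ * ρ₀ * s₀⁻¹)) * X a * (ρ₀ * (s₀ * ρ₀ * s₀⁻¹))⁻¹ =
          ρ₀ * ((s₀ * ρ₀ * s₀⁻¹) * X a * (s₀ * ρ₀ * s₀⁻¹)⁻¹) * ρ₀⁻¹ by group, h1, K.conjX]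
        congr 1
        have : ∀ a : F4, F4.w * (F4.u * a) = a := by decide
        exact this a
      calc ρ₀ * (s₀ * ρ₀ * s₀⁻¹) * X a = ((ρ₀ * (s₀ * ρ₀ * s₀⁻¹)) * X a * (ρ₀ * (s₀ * ρ₀ * s₀⁻¹))⁻¹) *
            (ρ₀ * (s₀ * ρ₀ * s₀⁻¹)) := by group
        _ = _ := by rw [h2]
    obtain ⟨y, hy, d, hd, e⟩ := dec_CR hxA hxR hO
    obtain ⟨c, rfl⟩ := F.X_surj y hy
    have e1 : s₀ * ρ₀ * s₀⁻¹ = ρ₀⁻¹ * X c * d := by
      rw [mul_assoc ρ₀⁻¹, ← e]; group
    refine ⟨X (F4.w * c), F.X_mem _, d, hd, ?_⟩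
    have h1 : d * X (F4.w * c) = X (F4.w * c) * d := hd.1.1 _ (F.X_mem _)
    have h2 : X c * X (F4.w * c) = X (F4.w * c) * X c := by rw [← F.X_add, ← F.X_add, add_comm]
    have h3 : (X (F4.w * c))⁻¹ = X (F4.w * c) := PGroup.invR hO (F.X_mem _)
    calc X (F4.w * c) * s₀ * ρ₀ * (X (F4.w * c) * s₀)⁻¹
        = X (F4.w * c) * (s₀ * ρ₀ * s₀⁻¹) * (X (F4.w * c))⁻¹ := by group
      _ = X (F4.w * c) * (ρ₀⁻¹ * X c * d) * X (F4.w * c) := by rw [e1, h3]
      _ = X (F4.w * c) * ρ₀⁻¹ * X c * (d * X (F4.w * c)) := by group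
      _ = X (F4.w * c) * ρ₀⁻¹ * (X c * X (F4.w * c)) * d := by rw [h1]; group
      _ = X (F4.w * c) * (ρ₀⁻¹ * X (F4.w * c) * ρ₀) * (ρ₀⁻¹ * X c * ρ₀) * ρ₀⁻¹ * d := by rw [h2]; group
      _ = X (F4.w * c + F4.u * (F4.w * c) + F4.u * c) * ρ₀⁻¹ * d := by
          rw [hρi, hρi, F.X_add, F.X_add]
      _ = ρ₀⁻¹ * d := by
          have : ∀ c : F4, F4.w * c + F4.u * (F4.w * c) + F4.u * c = 0 := by decide
          rw [this, F.X_zero, one_mul]
  have hs := hs₀.mul_R hO hr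
  obtain ⟨s, hse⟩ : ∃ s, s = r * s₀ := ⟨_, rfl⟩
  rw [← hse] at hs hrd
  have hsE : s ∈ N (R ⊔ V) := hs.NE hO
  -- `s * s = 1`
  have hss : s * s = 1 := by
    obtain ⟨t, ht⟩ := F.X_surj _ hs.sq
    have h1 : (s * s) * ρ₀ * (s * s)⁻¹ = d⁻¹ * ρ₀ * (s * d * s⁻¹) := by
      calc (s * s) * ρ₀ * (s * s)⁻¹ = s * (s * ρ₀ * s⁻¹) * s⁻¹ := by group
        _ = s * (ρ₀⁻¹ * d) * s⁻¹ := by rw [hrd]
        _ = (s * ρ₀ * s⁻¹)⁻¹ * (s * d * s⁻¹) := by group
        _ = _ := by rw [hrd]; group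
    have hd' : s * d * s⁻¹ ∈ Od R V := Od_conj hO hsE hd
    have hd'' : ρ₀ * (s * d * s⁻¹) * ρ₀⁻¹ ∈ Od R V := Od_conj hO hρ₀E hd'
    have h2 : X (F4.u * t) = d⁻¹ * (ρ₀ * (s * d * s⁻¹) * ρ₀⁻¹) := by
      have h3 : (X t)⁻¹ = X t := PGroup.invR hO (F.X_mem _)
      rw [← ht] at h1
      calc X (F4.u * t) = X t * X (F4.w * t) := by
            rw [← F.X_add]
            congr 1
            have : ∀ t : F4, F4.u * t = t + F4.w * t := by decide
            exact this t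
        _ = X t * (ρ₀ * (X t)⁻¹ * ρ₀⁻¹) := by rw [h3, K.conjX]
        _ = (X t * ρ₀ * (X t)⁻¹) * ρ₀⁻¹ := by group
        _ = _ := by rw [h1]; group
    have h4 : X (F4.u * t) * Y F4.e = Y F4.e * X (F4.u * t) := by
      have h5 := Od_P hP (inv_Od hd) (F.Y_mem F4.e)
      have h6 := Od_P hP hd'' (F.Y_mem F4.e)
      rw [h2, mul_assoc, ← h6, ← mul_assoc, ← h5, mul_assoc]
    rw [F.X_Y] at h4
    have h5 : Z (F4.u * t * F4.e) = Z 0 := by
      rw [F.Z_zero]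
      exact mul_eq_left.1 h4
    have h6 := F.Z_inj h5
    have : ∀ t : F4, F4.u * t * F4.e = 0 → t = 0 := by decide
    rw [← ht, this t h6, F.X_zero]
  obtain ⟨f, l, n, h, hf, hl, hfl, hX, hY, hZ⟩ := act_semi D F (hs.nrm hP) hs.conjρ
  have hn : n = 0 := by
    have h1 : s * (ρ₀ * Y F4.e * ρ₀⁻¹) * s⁻¹ = Y (F4.w * l) * Z n := by
      have h2 : s * Y F4.e * s⁻¹ = Y l * Z n := by
        rw [hY]
        congr 2
        · exact mul_one l
        · exact mul_one n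
      have h3 := Od_P hP hd (P.mul_mem (F.Y_mem l) (D.B_le (F.Z_mem n)))
      have h4 : ρ₀⁻¹ * Z n * ρ₀ = Z n := by
        have := Base.CA_V hO (inv_mem K.mem) (F.Z_mem n)
        rwa [inv_inv] at this
      calc s * (ρ₀ * Y F4.e * ρ₀⁻¹) * s⁻¹ = (s * ρ₀ * s⁻¹) * (s * Y F4.e * s⁻¹) * (s * ρ₀ * s⁻¹)⁻¹ := by
            group
        _ = ρ₀⁻¹ * (d * (Y l * Z n)) * d⁻¹ * ρ₀ := by rw [hrd, h2]; group
        _ = (ρ₀⁻¹ * Y l * ρ₀) * (ρ₀⁻¹ * Z n * ρ₀) := by rw [← h3]; group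
        _ = _ := by rw [hρiY, h4]
    rw [K.conjY, hY] at h1
    have h2 := (E2_inj D F h1).2
    have : ∀ n : F4, n * F4.fr (F4.u * F4.e) = n → n = 0 := by decide
    exact this n h2
  obtain ⟨X', Y', Z', n', F', S', hn', hK⟩ := norm_aux (A := A) D F (Or.inl rfl) ⟨hX, hY, hZ⟩ hf hl hfl
  rw [hn' hn] at S'
  exact ⟨X', Y', Z', s, F', hK ρ₀ K, S'.mu2 hs hss F', d, hd, hrd⟩

end Cfsg.Agent.StdAlt.Five.MuNorm
end

-- part: StdAlt/Five/SylA
section
prune_inst 0xc010420010221000001800002000000010000002004300012100030202000000a004060128202210001080402000004003180000000000000000000040040000000046001240a108000000008000000000000000000000000000000000000000000000000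
set_option linter.all false
open scoped Cfsg.Agent.FastGrp

/-!
# S1766, n = 5, case (I): the Sylow 2-subgroup of `N(E)`, weakly closed case
-/

set_option autoImplicit false

namespace Cfsg.Agent.StdAlt.Five.SylA

open Subgroup Cfsg.Agent.StdAlt.Conj Cfsg.Agent.J2Sylow.Model Cfsg.Agent.StdAlt.Five
open Cfsg.Agent.StdAlt.Five.Sec4 Cfsg.Agent.StdAlt.Five.PGroup Cfsg.Agent.StdAlt.Five.PExists
open Cfsg.Agent.StdAlt.Five.PData Cfsg.Agent.StdAlt.Five.Coord Cfsg.Agent.StdAlt.Five.Moves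
open Cfsg.Agent.StdAlt.Five.Mu

variable {G : Type*} [Group G] {A R V P : Subgroup G} {ρ g s : G} {ε : F4} {X Y Z : F4 → G}

/-! ### coordinates -/

section
variable (D : Data R V P ρ) (F : Frame R V P ρ ε X Y Z)
include D F

theorem P_mul (b a c b' a' c' : F4) : (Y b * X a * Z c) * (Y b' * X a' * Z c') =
    Y (b + b') * X (a + a') * Z (ε * F4.fr (b * b') + a * b' + (c + c')) := by
  have h1 := ZY D F c b'
  have h2 := ZX D F c a'
  have h3 := F.X_Y a b'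
  have h4 := ZX D F (a * b') a'
  have h5 := F.Y_mul b b'
  have h6 := ZX D F (ε * F4.fr (b * b')) (a + a')
  calc (Y b * X a * Z c) * (Y b' * X a' * Z c') = Y b * X a * (Z c * Y b') * X a' * Z c' := by group
    _ = Y b * (X a * Y b') * (Z c * X a') * Z c' := by rw [h1]; group
    _ = Y b * Y b' * X a * (Z (a * b') * X a') * Z c * Z c' := by rw [h2, h3]; group
    _ = (Y b * Y b') * (X a * X a') * Z (a * b') * (Z c * Z c') := by rw [h4]; group
    _ = Y (b + b') * (Z (ε * F4.fr (b * b')) * X (a + a')) * Z (a * b') * (Z c * Z c') := by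
        rw [h5, ← F.X_add]; group
    _ = _ := by rw [h6, F.Z_add, F.Z_add, F.Z_add]; group

theorem sq_coord (b a c : F4) : (Y b * X a * Z c) * (Y b * X a * Z c) = Z ((ε + a) * b) := by
  rw [P_mul D F, F4.add_self, F4.add_self, F4.add_self, F.Y_zero, F.X_zero, one_mul, one_mul, add_zero]
  congr 1
  have : ∀ ε a b : F4, ε * F4.fr (b * b) + a * b = (ε + a) * b := by decide
  exact this ε a b

omit D in
theorem mem_P (b a c : F4) (D : Data R V P ρ) : Y b * X a * Z c ∈ P :=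
  P.mul_mem (P.mul_mem (F.Y_mem b) (D.R_le (F.X_mem a))) (D.B_le (F.Z_mem c))

/-- `Y b X a Z c` is an involution or trivial iff `b = 0` or `a = ε` -/
theorem inv_coord {b a c : F4} (h : (Y b * X a * Z c) * (Y b * X a * Z c) = 1) : b = 0 ∨ a = ε := by
  rw [sq_coord D F, ← F.Z_zero] at h
  have h1 := F.Z_inj h
  have : ∀ ε a b : F4, (ε + a) * b = 0 → b = 0 ∨ a = ε := by decide
  exact this ε a b h1

theorem comm_coord {b a c a' c' : F4}
    (h : (Y b * X a * Z c) * (X a' * Z c') = (X a' * Z c') * (Y b * X a * Z c)) : a' * b = 0 := by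
  have h1 : X a' * Z c' = Y 0 * X a' * Z c' := by rw [F.Y_zero, one_mul]
  rw [h1, P_mul D F, P_mul D F] at h
  obtain ⟨-, -, h2⟩ := F.inj _ _ _ _ _ _ h
  have : ∀ ε a b c a' c' : F4, ε * F4.fr (b * 0) + a * 0 + (c + c') = ε * F4.fr (0 * b) + a' * b + (c' + c) →
      a' * b = 0 := by
    intro ε a b c a' c' e
    have e1 : F4.fr 0 = 0 := rfl
    rw [mul_zero, zero_mul, mul_zero, e1, mul_zero, zero_add, zero_add, zero_add, add_comm c c'] at e
    have e2 : (c' + c) + (c' + c) = 0 := F4.add_self _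
    calc a' * b = a' * b + ((c' + c) + (c' + c)) := by rw [e2, add_zero]
      _ = (a' * b + (c' + c)) + (c' + c) := by ring
      _ = 0 := by rw [← e, F4.add_self]
  exact this _ _ _ _ _ _ h2

/-- elements of `E` -/
theorem mem_E_iff (h : OddE A R V ρ g) {b a c : F4} : Y b * X a * Z c ∈ R ⊔ V ↔ b = 0 := by
  constructor
  · intro hx
    obtain ⟨r, hr, v, hv, e⟩ := (mem_E h).1 hx
    obtain ⟨a', rfl⟩ := F.X_surj r hr
    obtain ⟨c', rfl⟩ := F.Z_surj v hv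
    rw [show X a' * Z c' = Y 0 * X a' * Z c' by rw [F.Y_zero, one_mul]] at e
    exact (F.inj _ _ _ _ _ _ e).1
  · rintro rfl
    rw [F.Y_zero, one_mul]
    exact mul_mem (mem_sup_left (F.X_mem _)) (mem_sup_right (F.Z_mem _))

end

/-! ### 2-subgroups of `N(E)` containing `P` -/

/-- 2-elements of `N A ∩ N(E)` centralizing `V` lie in `E` -/
theorem two_cent [Finite G] (h : OddE A R V ρ g) {x : G} (hx : x ∈ N A) (hxE : x ∈ N (R ⊔ V))
    (hc : ∀ v ∈ V, x * v = v * x) (h2 : ∃ k : ℕ, x ^ (2 ^ k) = 1) : x ∈ R ⊔ V := by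
  obtain ⟨v, hv, hxv⟩ := h.CV x hx hc
  have h1 : x * v ∈ R := by
    refine mem_R_of_two h hxv (fun r hr => ?_) ?_
    · have h3 := comm_RV h hr hv
      rw [show x * v * r * (x * v)⁻¹ = x * (v * r) * v⁻¹ * x⁻¹ by group, ← h3,
        show x * (r * v) * v⁻¹ * x⁻¹ = x * r * x⁻¹ by group]
      exact PGroup.normR h hxE hx hr
    · obtain ⟨k, hk⟩ := h2
      refine ⟨k + 1, ?_⟩
      rw [(show Commute x v from hc v hv).mul_pow, pow_succ, pow_mul, hk, one_pow, one_mul,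
        mul_comm, pow_mul, pow_two, h.sqV v hv, one_pow]
  rw [show x = (x * v) * v⁻¹ by group]
  exact mul_mem (mem_sup_left h1) (mem_sup_right (inv_mem hv))

/-- an element of `A` normalizing `V` acts linearly on `V` -/
theorem no_semi [Finite G] (h : OddE A R V ρ g) (F : Frame R V P ρ ε X Y Z) (h8 : ¬ 8 ∣ Nat.card A)
    {a : G} (ha : a ∈ A) {hh : F4} (hh0 : hh ≠ 0) (hc : ∀ c, a * Z c * a⁻¹ = Z (hh * F4.fr c)) : False := by
  have hcV : ∀ v ∈ V, (a * a) * v = v * (a * a) := by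
    intro v hv
    obtain ⟨c, rfl⟩ := F.Z_surj v hv
    have : (a * a) * Z c * (a * a)⁻¹ = Z c := by
      rw [show (a * a) * Z c * (a * a)⁻¹ = a * (a * Z c * a⁻¹) * a⁻¹ by group, hc, hc]
      congr 1
      have : ∀ hh c : F4, hh ≠ 0 → hh * F4.fr (hh * F4.fr c) = c := by decide
      exact this hh c hh0
    calc (a * a) * Z c = ((a * a) * Z c * (a * a)⁻¹) * (a * a) := by group
      _ = _ := by rw [this]
  obtain ⟨y, b, hy, hb, hab, hy2, hbo⟩ := exists_two_odd a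
  have hbV : ∀ v ∈ V, b * v = v * b := by
    obtain ⟨n, hn⟩ := hb
    have hn' : a ^ n = b := hn
    intro v hv
    have h1 : Commute (b * b) v := by
      rw [← hn', ← (Commute.refl a).mul_zpow]
      exact (show Commute (a * a) v from hcV v hv).zpow_left n
    obtain ⟨m, hm⟩ := hbo
    have h2 : b = (b * b) ^ (m + 1) := by
      have h3 := pow_orderOf_eq_one b
      rw [hm] at h3
      calc b = b * b ^ (2 * m + 1) := by rw [h3, mul_one]
        _ = b ^ (2 * (m + 1)) := by rw [← pow_succ']; congr 1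
        _ = (b * b) ^ (m + 1) := by rw [pow_mul, pow_two]
    rw [h2]
    exact (h1.pow_left (m + 1)).eq
  have hyA : y ∈ A := (zpowers_le.2 ha) hy
  have hyc : ∀ c, y * Z c * y⁻¹ = Z (hh * F4.fr c) := by
    intro c
    have h1 := hbV _ (F.Z_mem c)
    have h2 := hc c
    rw [hab] at h2
    rw [← h2]
    calc y * Z c * y⁻¹ = y * (Z c * b) * b⁻¹ * y⁻¹ := by group
      _ = y * b * Z c * (y * b)⁻¹ := by rw [← h1]; group
  have hyV : ∀ v ∈ V, y * v * y⁻¹ ∈ V := by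
    intro v hv
    obtain ⟨c, rfl⟩ := F.Z_surj v hv
    rw [hyc]; exact F.Z_mem _
  have hZ : IsPGroup 2 (zpowers y) := by
    obtain ⟨k, hk⟩ := hy2
    have h1 : Nat.card (zpowers y) ∣ 2 ^ k := by
      rw [Nat.card_zpowers]; exact orderOf_dvd_of_pow_eq_one hk
    obtain ⟨m, -, hm⟩ := (Nat.dvd_prime_pow Nat.prime_two).1 h1
    exact IsPGroup.of_card hm
  have hyN : zpowers y ≤ N V := by
    rw [zpowers_le]
    exact mem_N_of hyV
  have hsup : IsPGroup 2 ((zpowers y) ⊔ V : Subgroup G) := hZ.to_sup_of_normal_right' (pgroup_V h) hyN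
  have h3 := V_max h h8 _ hsup le_sup_right (sup_le (by rw [zpowers_le]; exact hyA) h.V_le)
  have hy : y ∈ V := by
    rw [← h3]; exact mem_sup_left (mem_zpowers y)
  have h4 := hyc F4.w
  rw [commV h hy (F.Z_mem _)] at h4
  have h5 := hyc F4.e
  rw [commV h hy (F.Z_mem _)] at h5
  have h6 : F4.w = hh * F4.fr F4.w := F.Z_inj (by rw [← h4]; group)
  have h7 : F4.e = hh * F4.fr F4.e := F.Z_inj (by rw [← h5]; group)
  have : ∀ hh : F4, F4.w = hh * F4.fr F4.w → F4.e = hh * F4.fr F4.e → False := by decide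
  exact this hh h6 h7

/-- elements of `AC A` act linearly on `V` -/
theorem no_semi' [Finite G] (h : OddE A R V ρ g) (F : Frame R V P ρ ε X Y Z) (h8 : ¬ 8 ∣ Nat.card A)
    {a : G} (ha : a ∈ AC A) {hh : F4} (hh0 : hh ≠ 0) (hc : ∀ c, a * Z c * a⁻¹ = Z (hh * F4.fr c)) :
    False := by
  obtain ⟨a, ha, k, hk, rfl⟩ := ha
  refine no_semi h F h8 ha hh0 (fun c => ?_)
  rw [← hc]
  have h1 := Base.CA_V h hk (F.Z_mem c)
  calc a * Z c * a⁻¹ = a * (k * Z c * k⁻¹) * a⁻¹ := by rw [h1]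
    _ = _ := by group

theorem pow_of_two {Q : Subgroup G} (hQ : IsPGroup 2 Q) {x : G} (hx : x ∈ Q) : ∃ k : ℕ, x ^ (2 ^ k) = 1 := by
  obtain ⟨k, hk⟩ := hQ ⟨x, hx⟩
  exact ⟨k, congrArg Subtype.val hk⟩

/-- `μ = 1`: `P` is a maximal 2-subgroup of `N(E)` -/
theorem max_one [Finite G] {h : OddE A R V ρ g} (hP : IsP h P) (F : Frame R V P ρ ε X Y Z)
    (h8 : ¬ 8 ∣ Nat.card A) (hmu : Mu1 A) (Q : Subgroup G) (hQ : IsPGroup 2 Q) (hPQ : P ≤ Q)
    (hQE : Q ≤ N (R ⊔ V)) : Q = P := by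
  refine le_antisymm (fun q hq => ?_) hPQ
  obtain ⟨p, hp, m, hm, hmE, rfl⟩ := PData.fact hP (hQE hq)
  have hmQ : m ∈ Q := by
    rw [show m = p⁻¹ * (p * m) by group]
    exact mul_mem (inv_mem (hPQ hp)) hq
  refine mul_mem hp (E_le hP ?_)
  refine two_cent h hm hmE ?_ (pow_of_two hQ hmQ)
  obtain ⟨hh, hh0, hc | hc⟩ := act_V F (fun v hv => PGroup.normV h hmE hv)
  · exact lin_two F hh0 hc (pow_of_two hQ hmQ)
  · exact absurd hc (fun hc => no_semi' h F h8 (mu1_iff.1 hmu m hm) hh0 hc)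

/-- `μ = 2`: `P ∪ P s` is a maximal 2-subgroup of `N(E)` -/
theorem max_two [Finite G] {h : OddE A R V ρ g} (hP : IsP h P) (F : Frame R V P ρ ε X Y Z)
    (hs : s ∈ N A) (hsE : s ∈ N (R ⊔ V)) (hsZ : ∀ c, s * Z c * s⁻¹ = Z (F4.fr c))
    (Q : Subgroup G) (hQ : IsPGroup 2 Q) (hPQ : P ≤ Q)
    (hsQ : s ∈ Q) (hQE : Q ≤ N (R ⊔ V)) {q : G} (hq : q ∈ Q) : q ∈ P ∨ q * s ∈ P := by
  obtain ⟨p, hp, m, hm, hmE, rfl⟩ := PData.fact hP (hQE hq)
  have hmQ : m ∈ Q := by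
    rw [show m = p⁻¹ * (p * m) by group]
    exact mul_mem (inv_mem (hPQ hp)) hq
  obtain ⟨hh, hh0, hc | hc⟩ := act_V F (fun v hv => PGroup.normV h hmE hv)
  · left
    refine mul_mem hp (E_le hP ?_)
    exact two_cent h hm hmE (lin_two F hh0 hc (pow_of_two hQ hmQ)) (pow_of_two hQ hmQ)
  · right
    rw [mul_assoc]
    refine mul_mem hp (E_le hP ?_)
    have h2 := pow_of_two hQ (mul_mem hmQ hsQ)
    refine two_cent h (mul_mem hm hs) (mul_mem hmE hsE) (lin_two F hh0 (fun c => ?_) h2) h2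
    rw [show m * s * Z c * (m * s)⁻¹ = m * (s * Z c * s⁻¹) * m⁻¹ by group, hsZ, hc, F4.fr_fr]

/-- `N A = AC A ∪ AC A s` -/
theorem index_two [Finite G] (h : OddE A R V ρ g) (F : Frame R V P ρ ε X Y Z)
    (h8 : ¬ 8 ∣ Nat.card A) (hs : s ∈ N A) (hsZ : ∀ c, s * Z c * s⁻¹ = Z (F4.fr c))
    {m : G} (hm : m ∈ N A) : m ∈ AC A ∨ m * s ∈ AC A := by
  by_cases hmA : m ∈ AC A
  · exact Or.inl hmA
  right
  obtain ⟨a, ha, hV, hρ⟩ := exists_inv h F h8 hm hmA
  obtain ⟨t, ht⟩ : ∃ t, t = a * m := ⟨_, rfl⟩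
  rw [← ht] at hV hρ
  have htN : t ∈ N A := by rw [ht]; exact mul_mem (le_N ha) hm
  obtain ⟨hh, hh0, hc⟩ : ∃ hh : F4, hh ≠ 0 ∧ ∀ c, t * s * Z c * (t * s)⁻¹ = Z (hh * c) := by
    obtain ⟨hh, hh0, hc | hc⟩ := act_V F hV
    · exfalso
      -- linear action contradicts `hρ`
      have h1 : t * (ρ * Z F4.e * ρ⁻¹) * t⁻¹ = ρ⁻¹ * (t * Z F4.e * t⁻¹) * ρ := by
        calc t * (ρ * Z F4.e * ρ⁻¹) * t⁻¹ = (t * ρ * t⁻¹) * (t * Z F4.e * t⁻¹) * (t * ρ * t⁻¹)⁻¹ := by group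
          _ = _ := by rw [hρ]; group
      rw [F.ρZ, hc, hc] at h1
      have h2 : ρ * (ρ⁻¹ * Z (hh * F4.e) * ρ) * ρ⁻¹ = Z (F4.w * (hh * (F4.w * F4.e))) := by
        rw [← h1, F.ρZ]
      have h3 : Z (hh * F4.e) = Z (F4.w * (hh * (F4.w * F4.e))) := by rw [← h2]; group
      have h4 := F.Z_inj h3
      have : ∀ hh : F4, hh ≠ 0 → hh * F4.e ≠ F4.w * (hh * (F4.w * F4.e)) := by decide
      exact this hh hh0 h4
    · refine ⟨hh, hh0, fun c => ?_⟩
      rw [show t * s * Z c * (t * s)⁻¹ = t * (s * Z c * s⁻¹) * t⁻¹ by group, hsZ, hc, F4.fr_fr]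
  -- a power of `ρ`
  obtain ⟨σ, hσA, hσ⟩ : ∃ σ ∈ A, ∀ c, σ * Z (hh * c) * σ⁻¹ = Z c := by
    have hρ := F.ρZ
    have : hh = F4.e ∨ hh = F4.w ∨ hh = F4.u := by
      revert hh0
      cases hh
      · intro h; exact absurd rfl h
      · intro _; exact Or.inl rfl
      · intro _; exact Or.inr (Or.inl rfl)
      · intro _; exact Or.inr (Or.inr rfl)
    rcases this with rfl | rfl | rfl
    · exact ⟨1, one_mem _, fun c => by rw [show F4.e * c = c from one_mul c]; group⟩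
    · refine ⟨ρ * ρ, mul_mem h.ρ_mem h.ρ_mem, fun c => ?_⟩
      rw [show ρ * ρ * Z (F4.w * c) * (ρ * ρ)⁻¹ = ρ * (ρ * Z (F4.w * c) * ρ⁻¹) * ρ⁻¹ by group, hρ, hρ]
      congr 1
      have : ∀ c : F4, F4.w * (F4.w * (F4.w * c)) = c := by decide
      exact this c
    · refine ⟨ρ, h.ρ_mem, fun c => ?_⟩
      rw [hρ]
      congr 1
      have : ∀ c : F4, F4.w * (F4.u * c) = c := by decide
      exact this c
  have hc2 : ∀ v ∈ V, (σ * (t * s)) * v = v * (σ * (t * s)) := by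
    intro v hv
    obtain ⟨c, rfl⟩ := F.Z_surj v hv
    have : (σ * (t * s)) * Z c * (σ * (t * s))⁻¹ = Z c := by
      rw [show (σ * (t * s)) * Z c * (σ * (t * s))⁻¹ = σ * (t * s * Z c * (t * s)⁻¹) * σ⁻¹ by group, hc, hσ]
    calc (σ * (t * s)) * Z c = ((σ * (t * s)) * Z c * (σ * (t * s))⁻¹) * (σ * (t * s)) := by group
      _ = Z c * (σ * (t * s)) := by rw [this]
  have h1 := AC_of_CV h (mul_mem (le_N hσA) (mul_mem htN hs)) hc2
  rw [show m * s = a⁻¹ * (σ⁻¹ * (σ * (t * s))) by rw [ht]; group]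
  exact mul_mem (A_le_AC (inv_mem ha)) (mul_mem (A_le_AC (inv_mem hσA)) h1)

/-- `P ∪ P s` -/
def PS (P : Subgroup G) (s : G) (hs : ∀ p ∈ P, s * p * s⁻¹ ∈ P) (hss : s * s = 1) : Subgroup G where
  carrier := {x | x ∈ P ∨ x * s ∈ P}
  mul_mem' := by
    have hsi : s⁻¹ = s := inv_eq_of_mul_eq_one_left hss
    rintro x y (hx | hx) (hy | hy)
    · exact Or.inl (mul_mem hx hy)
    · right
      show x * y * s ∈ P
      rw [mul_assoc]
      exact mul_mem hx hy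
    · right
      show x * y * s ∈ P
      have h1 := hs y hy
      rw [show x * y * s = (x * s) * (s⁻¹ * y * s) by group, hsi]
      rw [hsi] at h1
      exact mul_mem hx h1
    · left
      show x * y ∈ P
      have h1 := hs _ hy
      rw [show x * y = (x * s) * (s⁻¹ * (y * s) * s⁻¹) by group, hsi]
      rw [hsi] at h1
      exact mul_mem hx h1
  one_mem' := Or.inl (one_mem _)
  inv_mem' := by
    have hsi : s⁻¹ = s := inv_eq_of_mul_eq_one_left hss
    rintro x (hx | hx)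
    · exact Or.inl (inv_mem hx)
    · right
      show x⁻¹ * s ∈ P
      have h1 := hs _ (inv_mem hx)
      rw [show x⁻¹ * s = s * (x * s)⁻¹ * s by group]
      rw [hsi] at h1
      exact h1

theorem mem_PS {hs : ∀ p ∈ P, s * p * s⁻¹ ∈ P} {hss : s * s = 1} {x : G} :
    x ∈ PS P s hs hss ↔ x ∈ P ∨ x * s ∈ P := Iff.rfl

theorem PS_two (hP2 : IsPGroup 2 P) (hs : ∀ p ∈ P, s * p * s⁻¹ ∈ P) (hss : s * s = 1) :
    IsPGroup 2 (PS P s hs hss) := by
  have hsi : s⁻¹ = s := inv_eq_of_mul_eq_one_left hss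
  rintro ⟨x, hx⟩
  have hxx : x * x ∈ P := by
    rcases hx with hx | hx
    · exact mul_mem hx hx
    · have h1 := hs _ hx
      rw [show x * x = (x * s) * (s⁻¹ * (x * s) * s⁻¹) by group, hsi]
      rw [hsi] at h1
      exact mul_mem hx h1
  obtain ⟨k, hk⟩ := pow_of_two hP2 hxx
  refine ⟨k + 1, Subtype.ext ?_⟩
  show x ^ (2 ^ (k + 1)) = 1
  rw [pow_succ, mul_comm, pow_mul, pow_two, hk]

/-! ### weak closure -/

/-- an abstract criterion for a Sylow subgroup -/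
theorem exists_sylow [Finite G] (E S₀ : Subgroup G) (hS : IsPGroup 2 S₀) (hE : E ≤ S₀)
    (hwc : ∀ x : G, (∀ e ∈ E, x * e * x⁻¹ ∈ S₀) → x ∈ N E)
    (hmax : ∀ Q : Subgroup G, IsPGroup 2 Q → S₀ ≤ Q → Q ≤ N E → Q = S₀) (hS₀ : S₀ ≤ N E) :
    ∃ S : Sylow 2 G, (S : Subgroup G) = S₀ := by
  obtain ⟨S, hSS⟩ := hS.exists_le_sylow
  refine ⟨S, ?_⟩
  by_contra hne
  obtain ⟨c, hcS, hcn, hc⟩ := Pairs.exists_normalizing (S : Subgroup G) S₀ S.2 hSS (fun e => hne e.symm)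
  have hcE : c ∈ N E := hwc c (fun e he => hc e (hE he))
  have h1 := hmax (S₀ ⊔ zpowers c) (S.2.to_le (sup_le hSS (by rw [zpowers_le]; exact hcS))) le_sup_left
    (sup_le hS₀ (by rw [zpowers_le]; exact hcE))
  apply hcn
  rw [← h1]
  exact mem_sup_right (mem_zpowers c)

/-- weak closure in `P` -/
theorem wc_P [Finite G] {h : OddE A R V ρ g} (hP : IsP h P) (hε : ε = 0 ∨ ε = F4.e)
    (F : Frame R V P ρ ε X Y Z) (nkt : ∀ b c, b ≠ 0 → ¬ KT A (Y b * Z c)) {x : G}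
    (hx : ∀ e ∈ R ⊔ V, x * e * x⁻¹ ∈ P) : x ∈ N (R ⊔ V) := by
  have D := PData.data hP
  refine mem_N_of fun e he => ?_
  obtain ⟨b, a, c, hy⟩ := F.P_surj _ (hx e he)
  rw [hy, mem_E_iff D F h]
  by_contra hb
  -- the elements of `R`
  have key : ∀ t : F4, t ≠ 0 → ∃ b' c', b' ≠ 0 ∧ ε = F4.e ∧ x * X t * x⁻¹ = Y b' * X F4.e * Z c' := by
    intro t ht
    obtain ⟨b', a', c', hy'⟩ := F.P_surj _ (hx _ (mem_sup_left (F.X_mem t)))
    have hKT : KT A (x * X t * x⁻¹) := by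
      refine KT_conj (KT_R h (F.X_mem t) ?_) x
      intro e1
      apply ht
      apply F.X_inj
      rw [e1, F.X_zero]
    by_cases hb' : b' = 0
    · exfalso
      rw [hb', F.Y_zero, one_mul] at hy'
      have h1 : a' * b = 0 := by
        apply comm_coord D F (a := a) (c := c) (c' := c')
        rw [← hy, ← hy']
        have h2 := E_comm h he (mem_sup_left (F.X_mem t))
        calc x * e * x⁻¹ * (x * X t * x⁻¹) = x * (e * X t) * x⁻¹ := by group
          _ = _ := by rw [h2]; group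
      have h2 : a' = 0 := by
        have : ∀ a' b : F4, a' * b = 0 → b ≠ 0 → a' = 0 := by decide
        exact this a' b h1 hb
      rw [h2, F.X_zero, one_mul] at hy'
      apply not_KT h (F.Z_mem c')
      rw [← hy']
      exact hKT
    · have h1 : (x * X t * x⁻¹) * (x * X t * x⁻¹) = 1 := by
        have h2 := h.sqR _ (F.X_mem t)
        calc (x * X t * x⁻¹) * (x * X t * x⁻¹) = x * (X t * X t) * x⁻¹ := by group
          _ = 1 := by rw [h2]; group
      rw [hy'] at h1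
      rcases inv_coord D F h1 with h2 | h2
      · exact absurd h2 hb'
      rcases hε with h3 | h3
      · exfalso
        rw [h2, h3, F.X_zero, mul_one] at hy'
        apply nkt b' c' hb'
        rw [← hy']
        exact hKT
      · exact ⟨b', c', hb', h3, by rw [hy', h2, h3]⟩
  obtain ⟨b1, c1, hb1, -, h1⟩ := key F4.e (by decide)
  obtain ⟨b2, c2, hb2, -, h2⟩ := key F4.w (by decide)
  obtain ⟨b3, c3, hb3, -, h3⟩ := key F4.u (by decide)
  have h4 : x * X F4.u * x⁻¹ = (x * X F4.e * x⁻¹) * (x * X F4.w * x⁻¹) := by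
    rw [← conj_mul', ← F.X_add]; rfl
  rw [h1, h2, h3, P_mul D F] at h4
  have h5 := (F.inj _ _ _ _ _ _ h4).2.1
  exact absurd h5 (by decide)

/-- counting -/
theorem half [Finite G] {H K : Subgroup G} (hHK : H ≤ K)
    (h : ∀ x ∈ K, x ∉ H → ∀ y ∈ K, y ∉ H → x * y ∈ H) : Nat.card K ≤ 2 * Nat.card H := by
  classical
  by_cases hall : ∀ x ∈ K, x ∈ H
  · rw [show K = H from le_antisymm hall hHK]
    omega
  push_neg at hall
  obtain ⟨x, hxK, hxH⟩ := hall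
  let f : K → H × Bool := fun y => if hy : (y : G) ∈ H then (⟨y, hy⟩, true)
    else (⟨x * y, h x hxK hxH y y.2 hy⟩, false)
  have hf : Function.Injective f := by
    intro y z e
    simp only [f] at e
    split_ifs at e with h1 h2 h2
    · have h3 : (⟨y, h1⟩ : H) = ⟨z, h2⟩ := (Prod.mk.inj e).1
      have h4 : (y : G) = z := congrArg (fun t : H => (t : G)) h3
      exact Subtype.ext h4
    · exact absurd (Prod.mk.inj e).2 (by decide)
    · exact absurd (Prod.mk.inj e).2 (by decide)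
    · have h3 : x * (y : G) = x * z := congrArg Subtype.val (Prod.mk.inj e).1
      exact Subtype.ext (mul_left_cancel h3)
  have := Nat.card_le_card_of_injective f hf
  rw [Nat.card_prod] at this
  simp only [Nat.card_eq_fintype_card (α := Bool), Fintype.card_bool] at this
  omega

/-- the number of elements commuting with `t ∉ P` -/
theorem wc_PS [Finite G] {h : OddE A R V ρ g} (hP : IsP h P)
    (F : Frame R V P ρ ε X Y Z) (hsX : ∀ a, s * X a * s⁻¹ = X (F4.fr a))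
    (hsY : ∀ a, s * Y a * s⁻¹ = Y (F4.fr a)) (hsZ : ∀ a, s * Z a * s⁻¹ = Z (F4.fr a)) (hss : s * s = 1)
    {x : G} (hx : ∀ e ∈ R ⊔ V, x * e * x⁻¹ ∈ P ∨ x * e * x⁻¹ * s ∈ P) {e : G} (he : e ∈ R ⊔ V) :
    x * e * x⁻¹ ∈ P := by
  have D := PData.data hP
  by_contra hcon
  have hsP : ∀ p ∈ P, s * p * s⁻¹ ∈ P := by
    intro p hp
    obtain ⟨b, a, c, rfl⟩ := F.P_surj p hp
    rw [conj_mul', conj_mul', hsX, hsY, hsZ]
    exact mem_P F _ _ _ D
  obtain ⟨t, ht⟩ : ∃ t, t = x * e * x⁻¹ := ⟨_, rfl⟩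
  rw [← ht] at hcon
  have htP : t * s ∈ P := by
    rcases hx e he with h1 | h1
    · exact absurd (ht ▸ h1) hcon
    · rw [ht]; exact h1
  obtain ⟨b₀, a₀, c₀, h₀⟩ := F.P_surj _ htP
  have hts : t = Y b₀ * X a₀ * Z c₀ * s := by
    rw [← h₀, mul_assoc, hss, mul_one]
  -- elements of `P` commuting with `t`
  have hcomm : ∀ b a c, t * (Y b * X a * Z c) = (Y b * X a * Z c) * t → F4.fr b = b ∧ F4.fr a = a ∧
      (b = 0 → a = 0 → F4.fr c = c) := by
    intro b a c e1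
    have e2 : (Y b₀ * X a₀ * Z c₀) * (Y (F4.fr b) * X (F4.fr a) * Z (F4.fr c)) =
        (Y b * X a * Z c) * (Y b₀ * X a₀ * Z c₀) := by
      have e3 : s * (Y b * X a * Z c) * s⁻¹ = Y (F4.fr b) * X (F4.fr a) * Z (F4.fr c) := by
        rw [conj_mul', conj_mul', hsX, hsY, hsZ]
      rw [← e3]
      rw [hts] at e1
      calc (Y b₀ * X a₀ * Z c₀) * (s * (Y b * X a * Z c) * s⁻¹)
          = (Y b₀ * X a₀ * Z c₀ * s * (Y b * X a * Z c)) * s⁻¹ := by group
        _ = (Y b * X a * Z c) * (Y b₀ * X a₀ * Z c₀) := by rw [e1]; group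
    rw [P_mul D F, P_mul D F] at e2
    obtain ⟨e3, e4, e5⟩ := F.inj _ _ _ _ _ _ e2
    have can : ∀ p q r : F4, p + q = r + p → q = r := by decide
    refine ⟨can _ _ _ e3, can _ _ _ e4, ?_⟩
    rintro rfl rfl
    have h0 : F4.fr 0 = 0 := rfl
    rw [h0, mul_zero, h0, mul_zero, mul_zero, zero_mul, h0, mul_zero, zero_add, zero_add, zero_add] at e5
    exact can _ _ _ e5
  -- the group `F ∩ P`
  let T : Subgroup G := cj x (R ⊔ V)
  have hTmem : ∀ y, y ∈ T ↔ ∃ e ∈ R ⊔ V, y = x * e * x⁻¹ := by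
    intro y
    constructor
    · intro hy
      exact ⟨x⁻¹ * y * x, mem_cj.1 hy, by group⟩
    · rintro ⟨e, he, rfl⟩
      exact conj_mem_cj.2 he
  have hTcomm : ∀ y ∈ T, ∀ z ∈ T, y * z = z * y := by
    intro y hy z hz
    obtain ⟨e1, he1, rfl⟩ := (hTmem y).1 hy
    obtain ⟨e2, he2, rfl⟩ := (hTmem z).1 hz
    have h2 := E_comm h he1 he2
    calc x * e1 * x⁻¹ * (x * e2 * x⁻¹) = x * (e1 * e2) * x⁻¹ := by group
      _ = _ := by rw [h2]; group
  have htT : t ∈ T := (hTmem t).2 ⟨e, he, ht⟩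
  have hcardT : Nat.card T = 16 := by
    rw [← card_E h]
    exact (Nat.card_congr ((R ⊔ V).equivMapOfInjective _ (MulAut.conj x).injective).toEquiv).symm
  have h1 : Nat.card T ≤ 2 * Nat.card (T ⊓ P : Subgroup G) := by
    refine half inf_le_left fun y hy hyP z hz hzP => ⟨mul_mem hy hz, ?_⟩
    have hy' : y * s ∈ P := by
      obtain ⟨e1, he1, rfl⟩ := (hTmem y).1 hy
      rcases hx e1 he1 with h2 | h2
      · exact absurd ⟨hy, h2⟩ hyP
      · exact h2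
    have hz' : z * s ∈ P := by
      obtain ⟨e1, he1, rfl⟩ := (hTmem z).1 hz
      rcases hx e1 he1 with h2 | h2
      · exact absurd ⟨hz, h2⟩ hzP
      · exact h2
    have h3 := hsP _ hz'
    have hsi : s⁻¹ = s := inv_eq_of_mul_eq_one_left hss
    rw [show y * z = (y * s) * (s⁻¹ * (z * s) * s⁻¹) by group, hsi]
    rw [hsi] at h3
    exact mul_mem hy' h3
  have h2 : Nat.card (T ⊓ P : Subgroup G) ≤ 2 * Nat.card (T ⊓ (R ⊔ V) : Subgroup G) := by
    refine half (inf_le_inf_left T (fun y hy => E_le hP hy)) fun y hy hyP z hz hzP =>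
      ⟨mul_mem hy.1 hz.1, ?_⟩
    obtain ⟨b, a, c, e1⟩ := F.P_surj y hy.2
    obtain ⟨b', a', c', e2⟩ := F.P_surj z hz.2
    have h3 := (hcomm b a c (by rw [← e1]; exact hTcomm t htT y hy.1)).1
    have h4 := (hcomm b' a' c' (by rw [← e2]; exact hTcomm t htT z hz.1)).1
    rw [e1, e2, P_mul D F]
    show _ ∈ R ⊔ V
    rw [mem_E_iff D F h]
    have h5 : b ≠ 0 := fun e => hyP ⟨hy.1, by rw [e1]; exact (mem_E_iff D F h).2 e⟩
    have h6 : b' ≠ 0 := fun e => hzP ⟨hz.1, by rw [e2]; exact (mem_E_iff D F h).2 e⟩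
    have : ∀ b b' : F4, F4.fr b = b → F4.fr b' = b' → b ≠ 0 → b' ≠ 0 → b + b' = 0 := by decide
    exact this b b' h3 h4 h5 h6
  have h3 : Nat.card (T ⊓ (R ⊔ V) : Subgroup G) ≤ 2 * Nat.card (T ⊓ V : Subgroup G) := by
    refine half (inf_le_inf_left T le_sup_right) fun y hy hyP z hz hzP =>
      ⟨mul_mem hy.1 hz.1, ?_⟩
    obtain ⟨r, hr, v, hv, e1⟩ := (mem_E h).1 hy.2
    obtain ⟨r', hr', v', hv', e2⟩ := (mem_E h).1 hz.2
    obtain ⟨a, rfl⟩ := F.X_surj r hr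
    obtain ⟨a', rfl⟩ := F.X_surj r' hr'
    obtain ⟨c, rfl⟩ := F.Z_surj v hv
    obtain ⟨c', rfl⟩ := F.Z_surj v' hv'
    have e1' : y = Y 0 * X a * Z c := by rw [F.Y_zero, one_mul]; exact e1
    have e2' : z = Y 0 * X a' * Z c' := by rw [F.Y_zero, one_mul]; exact e2
    have h3 := (hcomm 0 a c (by rw [← e1']; exact hTcomm t htT y hy.1)).2.1
    have h4 := (hcomm 0 a' c' (by rw [← e2']; exact hTcomm t htT z hz.1)).2.1
    have h5 : a ≠ 0 := fun e => hyP ⟨hy.1, by rw [e1, e, F.X_zero, one_mul]; exact F.Z_mem _⟩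
    have h6 : a' ≠ 0 := fun e => hzP ⟨hz.1, by rw [e2, e, F.X_zero, one_mul]; exact F.Z_mem _⟩
    have h7 : a + a' = 0 := by
      have : ∀ b b' : F4, F4.fr b = b → F4.fr b' = b' → b ≠ 0 → b' ≠ 0 → b + b' = 0 := by decide
      exact this a a' h3 h4 h5 h6
    rw [e1', e2', P_mul D F, h7, add_zero, F.X_zero, F.Y_zero, one_mul, one_mul]
    exact F.Z_mem _
  have h4 : Nat.card (T ⊓ V : Subgroup G) ≤ 2 := by
    have h5 : ∀ y : (T ⊓ V : Subgroup G), (y : G) = Z 0 ∨ (y : G) = Z F4.e := by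
      rintro ⟨y, hy⟩
      obtain ⟨c, rfl⟩ := F.Z_surj y hy.2
      have h6 := (hcomm 0 0 c (by
        rw [F.Y_zero, F.X_zero, one_mul, one_mul]; exact hTcomm t htT _ hy.1)).2.2 rfl rfl
      have : ∀ c : F4, F4.fr c = c → c = 0 ∨ c = F4.e := by decide
      rcases this c h6 with rfl | rfl
      · exact Or.inl rfl
      · exact Or.inr rfl
    classical
    let f : (T ⊓ V : Subgroup G) → Bool := fun y => decide ((y : G) = Z 0)
    have hf : Function.Injective f := by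
      intro y z hyz
      simp only [f, decide_eq_decide] at hyz
      apply Subtype.ext
      rcases h5 y with e1 | e1 <;> rcases h5 z with e2 | e2
      · rw [e1, e2]
      · rw [e1, hyz.1 e1]
      · rw [hyz.2 e2, e2]
      · rw [e1, e2]
    have := Nat.card_le_card_of_injective f hf
    simpa using this
  -- `F ∩ P` is not contained in `E`
  have h5 : ¬ (T ⊓ P : Subgroup G) ≤ R ⊔ V := by
    intro hle
    have h6 : (T ⊓ P : Subgroup G) ≤ T ⊓ (R ⊔ V) := le_inf inf_le_left hle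
    have := Subgroup.card_le_of_le h6
    omega
  have h6 : ¬ (T ⊓ (R ⊔ V) : Subgroup G) ≤ V := by
    intro hle
    have h6 : (T ⊓ (R ⊔ V) : Subgroup G) ≤ T ⊓ V := le_inf inf_le_left hle
    have := Subgroup.card_le_of_le h6
    omega
  obtain ⟨y, hy, hyE⟩ := SetLike.not_le_iff_exists.1 h5
  obtain ⟨z, hz, hzV⟩ := SetLike.not_le_iff_exists.1 h6
  obtain ⟨b, a, c, e1⟩ := F.P_surj y hy.2
  obtain ⟨r', hr', v', hv', e2⟩ := (mem_E h).1 hz.2
  obtain ⟨a', rfl⟩ := F.X_surj r' hr'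
  obtain ⟨c', rfl⟩ := F.Z_surj v' hv'
  have h7 : a' * b = 0 := by
    apply comm_coord D F (a := a) (c := c) (c' := c')
    rw [← e1, ← e2]
    exact hTcomm y hy.1 z hz.1
  have h8 : b ≠ 0 := fun e => hyE (by rw [e1, mem_E_iff D F h]; exact e)
  have h9 : a' ≠ 0 := fun e => hzV (by rw [e2, e, F.X_zero, one_mul]; exact F.Z_mem _)
  have : ∀ a b : F4, a * b = 0 → b ≠ 0 → a ≠ 0 → False := by decide
  exact this a' b h7 h8 h9

/-- **the weakly closed case, `μ = 1`** -/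
theorem wc_one [Finite G] {h : OddE A R V ρ g} (hP : IsP h P) (hε : ε = 0 ∨ ε = F4.e)
    (F : Frame R V P ρ ε X Y Z) (nkt : ∀ b c, b ≠ 0 → ¬ KT A (Y b * Z c))
    (h8 : ¬ 8 ∣ Nat.card A) (hmu : Mu1 A) : ∃ S : Sylow 2 G, WC1 A R V P Y Z S := by
  have hwc : ∀ x : G, (∀ e ∈ R ⊔ V, x * e * x⁻¹ ∈ P) → x ∈ N (R ⊔ V) := fun x hx => wc_P hP hε F nkt hx
  obtain ⟨S, hS⟩ := exists_sylow (R ⊔ V) P hP.two (fun e he => E_le hP he) hwc
    (max_one hP F h8 hmu) (fun p hp => P_N hP hp)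
  exact ⟨S, { le := hS.symm.le, wc := by rw [hS]; exact hwc, nkt := nkt, mu1 := hmu, eq := hS }⟩

/-- **the weakly closed case, `μ = 2`** -/
theorem wc_two [Finite G] {h : OddE A R V ρ g} (hP : IsP h P) (hε : ε = 0 ∨ ε = F4.e)
    (F : Frame R V P ρ ε X Y Z) (nkt : ∀ b c, b ≠ 0 → ¬ KT A (Y b * Z c))
    (hmu : Mu2 A ρ X Y Z s) : ∃ S : Sylow 2 G, WC2 A R V P ρ X Y Z s S := by
  have D := PData.data hP
  have hsi : s⁻¹ = s := inv_eq_of_mul_eq_one_left hmu.sq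
  have hsX : ∀ a, s * X a * s⁻¹ = X (F4.fr a) := by rw [hsi]; exact hmu.conjX
  have hsY : ∀ a, s * Y a * s⁻¹ = Y (F4.fr a) := by rw [hsi]; exact hmu.conjY
  have hsZ : ∀ a, s * Z a * s⁻¹ = Z (F4.fr a) := by rw [hsi]; exact hmu.conjZ
  have hsP : ∀ p ∈ P, s * p * s⁻¹ ∈ P := by
    intro p hp
    obtain ⟨b, a, c, rfl⟩ := F.P_surj p hp
    rw [conj_mul', conj_mul', hsX, hsY, hsZ]
    exact mem_P F _ _ _ D
  have hsE : s ∈ N (R ⊔ V) := by
    refine Base.mem_NE h (fun r hr => ?_) (fun r hr => ?_)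
    · obtain ⟨a, rfl⟩ := F.X_surj r hr
      rw [hsX]; exact F.X_mem _
    · obtain ⟨a, rfl⟩ := F.Z_surj r hr
      rw [hsZ]; exact F.Z_mem _
  have hwc : ∀ x : G, (∀ e ∈ R ⊔ V, x * e * x⁻¹ ∈ PS P s hsP hmu.sq) → x ∈ N (R ⊔ V) :=
    fun x hx => wc_P hP hε F nkt (fun e he => wc_PS hP F hsX hsY hsZ hmu.sq hx he)
  have hPle : P ≤ PS P s hsP hmu.sq := fun p hp => Or.inl hp
  have hsmem : s ∈ PS P s hsP hmu.sq := Or.inr (by rw [hmu.sq]; exact one_mem _)
  obtain ⟨S, hS⟩ := exists_sylow (R ⊔ V) (PS P s hsP hmu.sq) (PS_two hP.two hsP hmu.sq)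
    (fun e he => hPle (E_le hP he)) hwc
    (fun Q hQ hSQ hQE => le_antisymm (fun q hq => max_two hP F hmu.mem hsE hsZ Q hQ (hPle.trans hSQ)
      (hSQ hsmem) hQE hq) hSQ) (by
      rintro x (hx | hx)
      · exact P_N hP hx
      · rw [show x = (x * s) * s⁻¹ by group]
        exact mul_mem (P_N hP hx) (inv_mem hsE))
  have hmem : ∀ x, x ∈ (S : Subgroup G) ↔ x ∈ P ∨ x * s ∈ P := by
    intro x
    rw [hS]
    exact mem_PS
  exact ⟨S, { le := by rw [hS]; exact hPle, wc := by rw [hS]; exact hwc, nkt := nkt, mu2 := hmu,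
              mem := hmem }⟩

/-- case (Q): there is no K-type element in `E2 - V` -/
theorem nkt_Q [Finite G] {h : OddE A R V ρ g} (hP : IsP h P) (F : Frame R V P ρ F4.e X Y Z) {b c : F4}
    (hb : b ≠ 0) : ¬ KT A (Y b * Z c) := by
  rintro ⟨-, h2, -⟩
  have h3 : (Y b * X 0 * Z c) * (Y b * X 0 * Z c) = 1 := by rw [F.X_zero, mul_one]; exact h2
  rcases inv_coord (PData.data hP) F h3 with h4 | h4
  · exact hb h4
  · exact absurd h4 (by decide)

end Cfsg.Agent.StdAlt.Five.SylA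
end

-- part: StdAlt/Five/SwapA
section
prune_inst 0xc010420010221000000000000000200010000002004300012140030202000001800406003800220001000020000a802003180009001000002000820040040000042264c092481108010000408800000000000000000000000000000000000000000000000
set_option linter.all false
open scoped Cfsg.Agent.FastGrp

/-!
# S1766, n = 5, case (I): if `E2` contains an element of K-type, `E2` is conjugate to `E`
-/

set_option autoImplicit false

namespace Cfsg.Agent.StdAlt.Five.SwapA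

open Subgroup Cfsg.Agent.StdAlt.Conj Cfsg.Agent.J2Sylow.Model Cfsg.Agent.StdAlt.Five
open Cfsg.Agent.StdAlt.Five.Sec4 Cfsg.Agent.StdAlt.Five.PGroup Cfsg.Agent.StdAlt.Five.PExists
open Cfsg.Agent.StdAlt.Five.PData Cfsg.Agent.StdAlt.Five.Coord Cfsg.Agent.StdAlt.Five.Moves
open Cfsg.Agent.StdAlt.Five.Mu Cfsg.Agent.StdAlt.Five.SylA

variable {G : Type*} [Group G] {A R V P : Subgroup G} {ρ g s : G} {ε : F4} {X Y Z : F4 → G}

/-! ### `AC A` -/

/-- an element of `N A` acting linearly on `V` lies in `AC A` -/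
theorem lin_AC (h : OddE A R V ρ g) (F : Frame R V P ρ ε X Y Z) {t : G} (ht : t ∈ N A) {hh : F4}
    (hh0 : hh ≠ 0) (hc : ∀ c, t * Z c * t⁻¹ = Z (hh * c)) :
    ∃ σ ∈ A, (∀ r ∈ R, σ * r = r * σ) ∧ ∀ v ∈ V, (σ * t) * v = v * (σ * t) := by
  obtain ⟨σ, hσA, hσ⟩ : ∃ σ ∈ A, ∀ c, σ * Z (hh * c) * σ⁻¹ = Z c := by
    have hρ := F.ρZ
    have : hh = F4.e ∨ hh = F4.w ∨ hh = F4.u := by
      revert hh0
      cases hh
      · intro h; exact absurd rfl h
      · intro _; exact Or.inl rfl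
      · intro _; exact Or.inr (Or.inl rfl)
      · intro _; exact Or.inr (Or.inr rfl)
    rcases this with rfl | rfl | rfl
    · exact ⟨1, one_mem _, fun c => by rw [show F4.e * c = c from one_mul c]; group⟩
    · refine ⟨ρ * ρ, mul_mem h.ρ_mem h.ρ_mem, fun c => ?_⟩
      rw [show ρ * ρ * Z (F4.w * c) * (ρ * ρ)⁻¹ = ρ * (ρ * Z (F4.w * c) * ρ⁻¹) * ρ⁻¹ by group, hρ, hρ]
      congr 1
      have : ∀ c : F4, F4.w * (F4.w * (F4.w * c)) = c := by decide
      exact this c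
    · refine ⟨ρ, h.ρ_mem, fun c => ?_⟩
      rw [hρ]
      congr 1
      have : ∀ c : F4, F4.w * (F4.u * c) = c := by decide
      exact this c
  refine ⟨σ, hσA, fun r hr => (comm_of_C (h.R_le hr) hσA).symm, ?_⟩
  intro v hv
  obtain ⟨c, rfl⟩ := F.Z_surj v hv
  have : (σ * t) * Z c * (σ * t)⁻¹ = Z c := by
    rw [show (σ * t) * Z c * (σ * t)⁻¹ = σ * (t * Z c * t⁻¹) * σ⁻¹ by group, hc, hσ]
  calc (σ * t) * Z c = ((σ * t) * Z c * (σ * t)⁻¹) * (σ * t) := by group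
    _ = Z c * (σ * t) := by rw [this]

theorem lin_AC' (h : OddE A R V ρ g) (F : Frame R V P ρ ε X Y Z) {t : G} (ht : t ∈ N A) {hh : F4}
    (hh0 : hh ≠ 0) (hc : ∀ c, t * Z c * t⁻¹ = Z (hh * c)) : t ∈ AC A := by
  obtain ⟨σ, hσA, -, hc2⟩ := lin_AC h F ht hh0 hc
  have h1 := AC_of_CV h (mul_mem (le_N hσA) ht) hc2
  rw [show t = σ⁻¹ * (σ * t) by group]
  exact mul_mem (A_le_AC (inv_mem hσA)) h1

/-- `|N A : AC A| ≤ 2` -/
theorem mul_mem_AC [Finite G] (h : OddE A R V ρ g) (F : Frame R V P ρ ε X Y Z) (h8 : ¬ 8 ∣ Nat.card A)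
    {x y : G} (hx : x ∈ N A) (hxA : x ∉ AC A) (hy : y ∈ N A) (hyA : y ∉ AC A) : x * y ∈ AC A := by
  obtain ⟨a, ha, hV, -⟩ := exists_inv h F h8 hx hxA
  obtain ⟨b, hb, hV', -⟩ := exists_inv h F h8 hy hyA
  have semi : ∀ {a x : G}, a ∈ A → x ∈ N A → x ∉ AC A → (∀ v ∈ V, (a * x) * v * (a * x)⁻¹ ∈ V) →
      ∃ hh : F4, hh ≠ 0 ∧ ∀ c, (a * x) * Z c * (a * x)⁻¹ = Z (hh * F4.fr c) := by
    intro a x ha hx hxA hV
    obtain ⟨hh, hh0, hc | hc⟩ := act_V F hV
    · exfalso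
      apply hxA
      have h1 := lin_AC' h F (mul_mem (le_N ha) hx) hh0 hc
      rw [show x = a⁻¹ * (a * x) by group]
      exact mul_mem (A_le_AC (inv_mem ha)) h1
    · exact ⟨hh, hh0, hc⟩
  obtain ⟨h1, h10, hc1⟩ := semi ha hx hxA hV
  obtain ⟨h2, h20, hc2⟩ := semi hb hy hyA hV'
  have hlin : ∀ c, (a * x * (b * y)) * Z c * (a * x * (b * y))⁻¹ = Z (h1 * F4.fr h2 * c) := by
    intro c
    rw [show (a * x * (b * y)) * Z c * (a * x * (b * y))⁻¹ =
      (a * x) * ((b * y) * Z c * (b * y)⁻¹) * (a * x)⁻¹ by group, hc2, hc1, F4.fr_mul, F4.fr_fr, mul_assoc]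
  have hne : h1 * F4.fr h2 ≠ 0 := by
    have : ∀ x y : F4, x ≠ 0 → y ≠ 0 → x * F4.fr y ≠ 0 := by decide
    exact this h1 h2 h10 h20
  have h3 := lin_AC' h F (mul_mem (mul_mem (le_N ha) hx) (mul_mem (le_N hb) hy)) hne hlin
  rw [show x * y = (x * b * x⁻¹)⁻¹ * (a⁻¹ * (a * x * (b * y))) by group]
  exact mul_mem (A_le_AC (inv_mem (conj_mem hx hb))) (mul_mem (A_le_AC (inv_mem ha)) h3)

/-- an element of `N A` centralizing `R` lies in `AC A` -/
theorem cent_R_AC [Finite G] {h : OddE A R V ρ g} (hP : IsP h P) (F : Frame R V P ρ ε X Y Z)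
    (h8 : ¬ 8 ∣ Nat.card A) {x : G} (hx : x ∈ N A) (hc : ∀ r ∈ R, x * r = r * x) : x ∈ AC A := by
  by_contra hxA
  have D := PData.data hP
  obtain ⟨a, ha, hV, hρ⟩ := exists_inv h F h8 hx hxA
  have hR : ∀ r ∈ R, (a * x) * r * (a * x)⁻¹ = r := by
    intro r hr
    have h1 := hc r hr
    have h2 := comm_of_C (h.R_le hr) ha
    calc (a * x) * r * (a * x)⁻¹ = a * (x * r) * x⁻¹ * a⁻¹ := by group
      _ = a * r * a⁻¹ := by rw [h1]; group
      _ = r := by rw [← h2]; group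
  have hE : a * x ∈ N (R ⊔ V) := Base.mem_NE h (fun r hr => by rw [hR r hr]; exact hr) hV
  obtain ⟨f, l, n, hh, hf, hl, hfl, hX, hY, hZ⟩ := act_semi D F
    (Base.nrm hP hE (mul_mem (le_N ha) hx)) hρ
  have h1 := hX F4.e
  have h2 := hX F4.w
  rw [hR _ (F.X_mem _)] at h1 h2
  have h3 := F.X_inj h1
  have h4 := F.X_inj h2
  have : ∀ f : F4, F4.e = f * F4.fr F4.e → F4.w = f * F4.fr F4.w → False := by decide
  exact this f h3 h4

theorem AC_conj {k x : G} (hk : k ∈ AC A) (hx : k * x * k⁻¹ ∈ AC A) : x ∈ AC A := by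
  rw [show x = k⁻¹ * (k * x * k⁻¹) * k by group]
  exact mul_mem (mul_mem (inv_mem hk) hx) hk

/-- uniqueness of the decomposition -/
theorem AC_uniq (h : OddE A R V ρ g) {a b k l : G} (ha : a ∈ A) (hb : b ∈ A) (hk : k ∈ C A) (hl : l ∈ C A)
    (e : a * k = b * l) : a = b ∧ k = l := by
  have h1 : b⁻¹ * a = l * k⁻¹ := by
    calc b⁻¹ * a = b⁻¹ * (a * k) * k⁻¹ := by group
      _ = l * k⁻¹ := by rw [e]; group
  have h2 : b⁻¹ * a = 1 := h.te.disj _ (mul_mem (inv_mem hb) ha) (by rw [h1]; exact mul_mem hl (inv_mem hk))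
  have h3 : a = b := by rw [inv_mul_eq_one] at h2; exact h2.symm
  subst h3
  exact ⟨rfl, mul_left_cancel e⟩

/-! ### elementary abelian subgroups of order 16 -/

section elab16

variable (A) in
/-- projection of `T` to `A` -/
def TA (T : Subgroup G) : Subgroup G where
  carrier := {a | a ∈ A ∧ ∃ k ∈ C A, a * k ∈ T}
  mul_mem' := by
    rintro a b ⟨ha, k, hk, hak⟩ ⟨hb, l, hl, hbl⟩
    refine ⟨mul_mem ha hb, k * l, mul_mem hk hl, ?_⟩
    have h1 := comm_of_C hk hb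
    rw [show a * b * (k * l) = a * (b * k) * l by group, ← h1, show a * (k * b) * l = (a * k) * (b * l) by group]
    exact mul_mem hak hbl
  one_mem' := ⟨one_mem _, 1, one_mem _, by rw [one_mul]; exact one_mem _⟩
  inv_mem' := by
    rintro a ⟨ha, k, hk, hak⟩
    refine ⟨inv_mem ha, k⁻¹, inv_mem hk, ?_⟩
    have h1 := comm_of_C hk ha
    rw [← mul_inv_rev, h1]
    exact inv_mem hak

variable (A) in
/-- projection of `T` to `C A` -/
def TC (T : Subgroup G) : Subgroup G where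
  carrier := {k | k ∈ C A ∧ ∃ a ∈ A, a * k ∈ T}
  mul_mem' := by
    rintro k l ⟨hk, a, ha, hak⟩ ⟨hl, b, hb, hbl⟩
    refine ⟨mul_mem hk hl, a * b, mul_mem ha hb, ?_⟩
    have h1 := comm_of_C hk hb
    rw [show a * b * (k * l) = a * (b * k) * l by group, ← h1, show a * (k * b) * l = (a * k) * (b * l) by group]
    exact mul_mem hak hbl
  one_mem' := ⟨one_mem _, 1, one_mem _, by rw [one_mul]; exact one_mem _⟩
  inv_mem' := by
    rintro k ⟨hk, a, ha, hak⟩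
    refine ⟨inv_mem hk, a⁻¹, inv_mem ha, ?_⟩
    have h1 := comm_of_C hk ha
    rw [← mul_inv_rev, h1]
    exact inv_mem hak

variable {T : Subgroup G} (h : OddE A R V ρ g) (hsq : ∀ t ∈ T, t * t = 1)
include h hsq

theorem sq_both {a k : G} (ha : a ∈ A) (hk : k ∈ C A) (hak : a * k ∈ T) : a * a = 1 ∧ k * k = 1 := by
  have h1 := hsq _ hak
  have h2 := comm_of_C hk ha
  have h3 : (a * a) * (k * k) = 1 * 1 := by
    rw [one_mul]
    calc (a * a) * (k * k) = a * (a * k) * k := by group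
      _ = a * (k * a) * k := by rw [h2]
      _ = (a * k) * (a * k) := by group
      _ = 1 := h1
  exact AC_uniq h (mul_mem ha ha) (one_mem _) (mul_mem hk hk) (one_mem _) h3

theorem TA_two : IsPGroup 2 (TA A T) :=
  Pairs.isPGroup_of_sq fun _ ha => by
    obtain ⟨ha, k, hk, hak⟩ := ha
    exact (sq_both h hsq ha hk hak).1

theorem TC_two : IsPGroup 2 (TC A T) :=
  Pairs.isPGroup_of_sq fun _ ha => by
    obtain ⟨hk, a, ha, hak⟩ := ha
    exact (sq_both h hsq ha hk hak).2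

omit hsq h in
theorem card_le_four [Finite G] {Q L : Subgroup G} (hQ : IsPGroup 2 Q) (hQL : Q ≤ L) (hL : ¬ 8 ∣ Nat.card L) :
    Nat.card Q ≤ 4 ∧ (Nat.card Q ≠ 4 → Nat.card Q ≤ 2) := by
  obtain ⟨n, hn⟩ := hQ.exists_card_eq
  have h1 : Nat.card Q ∣ Nat.card L := card_dvd_of_le hQL
  have hn2 : n ≤ 2 := by
    by_contra hcon
    push_neg at hcon
    apply hL
    rw [hn] at h1
    exact (show (8 : ℕ) ∣ 2 ^ n by rw [show (8 : ℕ) = 2 ^ 3 by norm_num]; exact pow_dvd_pow 2 hcon).trans h1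
  rw [hn]
  interval_cases n <;> norm_num

omit hsq in
/-- the projection to `A` has fibres of order `|T ⊓ C A|` -/
theorem card_le_proj [Finite G] (hT : T ≤ AC A) : Nat.card T ≤ Nat.card (TA A T) * Nat.card (T ⊓ C A : Subgroup G) := by
  classical
  have hdec : ∀ t : T, ∃ p : G × G, p.1 ∈ A ∧ p.2 ∈ C A ∧ (t : G) = p.1 * p.2 := by
    rintro ⟨t, ht⟩
    obtain ⟨a, ha, k, hk, e⟩ := hT ht
    exact ⟨(a, k), ha, hk, e⟩
  choose f hfA hfC hf using hdec
  have hsec : ∀ a : TA A T, ∃ k ∈ C A, (a : G) * k ∈ T := fun a => a.2.2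
  choose κ hκC hκ using hsec
  have hmem : ∀ t : T, (f t).1 ∈ TA A T := fun t => ⟨hfA t, (f t).2, hfC t, by rw [← hf]; exact t.2⟩
  have hd : ∀ t : T, (t : G) * ((f t).1 * κ ⟨_, hmem t⟩)⁻¹ ∈ T ⊓ C A := by
    intro t
    refine ⟨T.mul_mem t.2 (T.inv_mem (hκ ⟨_, hmem t⟩)), ?_⟩
    have h1 := comm_of_C (inv_mem (hκC ⟨_, hmem t⟩)) (inv_mem (hfA t))
    have h2 := comm_of_C (mul_mem (hfC t) (inv_mem (hκC ⟨_, hmem t⟩))) (hfA t)
    have h3 : (t : G) * ((f t).1 * κ ⟨_, hmem t⟩)⁻¹ = (f t).2 * (κ ⟨_, hmem t⟩)⁻¹ := by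
      calc (t : G) * ((f t).1 * κ ⟨_, hmem t⟩)⁻¹ =
            (f t).1 * ((f t).2 * (κ ⟨_, hmem t⟩)⁻¹) * ((f t).1)⁻¹ := by
            nth_rewrite 1 [hf t]; group
        _ = (f t).2 * (κ ⟨_, hmem t⟩)⁻¹ := by rw [← h2]; group
    show (t : G) * ((f t).1 * κ ⟨_, hmem t⟩)⁻¹ ∈ C A
    rw [h3]
    exact mul_mem (hfC t) (inv_mem (hκC _))
  let F : T → TA A T × (T ⊓ C A : Subgroup G) := fun t => (⟨_, hmem t⟩, ⟨_, hd t⟩)
  have hF : Function.Injective F := by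
    intro t u e
    have e1 : (⟨(f t).1, hmem t⟩ : TA A T) = ⟨(f u).1, hmem u⟩ := (Prod.mk.inj e).1
    have e2 : (t : G) * ((f t).1 * κ ⟨_, hmem t⟩)⁻¹ = (u : G) * ((f u).1 * κ ⟨_, hmem u⟩)⁻¹ :=
      congrArg (fun x : (T ⊓ C A : Subgroup G) => (x : G)) (Prod.mk.inj e).2
    have e3 : (f t).1 = (f u).1 := congrArg (fun x : TA A T => (x : G)) e1
    rw [← e1, ← e3] at e2
    exact Subtype.ext (mul_right_cancel e2)
  have := Nat.card_le_card_of_injective F hF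
  rwa [Nat.card_prod] at this

/-- **an elementary abelian subgroup of `N A` of order 16 is conjugate to a subgroup of `E`** -/
theorem conj_into_E [Finite G] (hP : IsP h P) (F : Frame R V P ρ ε X Y Z) (h8 : ¬ 8 ∣ Nat.card A)
    (hTN : T ≤ N A) (hcomm : ∀ x ∈ T, ∀ y ∈ T, x * y = y * x) (hcard : Nat.card T = 16) :
    ∃ z : G, ∀ t ∈ T, z * t * z⁻¹ ∈ R ⊔ V := by
  have hTA := card_le_four (TA_two h hsq) (fun x hx => hx.1) h8
  have hTC := card_le_four (TC_two h hsq) (fun x hx => hx.1) h.card8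
  -- `T ≤ AC A`
  have hT : T ≤ AC A := by
    intro m hm
    by_contra hmA
    let B : Subgroup G := T ⊓ AC A
    have hB : Nat.card T ≤ 2 * Nat.card B :=
      half inf_le_left fun x hx hxB y hy hyB => ⟨mul_mem hx hy,
        mul_mem_AC h F h8 (hTN hx) (fun h1 => hxB ⟨hx, h1⟩) (hTN hy) (fun h1 => hyB ⟨hy, h1⟩)⟩
    -- `m` centralizes both projections of `B`
    have hmc : ∀ a ∈ A, ∀ k ∈ C A, a * k ∈ T → m * a * m⁻¹ = a ∧ m * k * m⁻¹ = k := by
      intro a ha k hk hak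
      have h1 := hcomm m hm _ hak
      refine AC_uniq h (conj_mem (hTN hm) ha) ha (conj_mem_C (hTN hm) hk) hk ?_
      calc m * a * m⁻¹ * (m * k * m⁻¹) = (m * (a * k)) * m⁻¹ := by group
        _ = a * k := by rw [h1]; group
    by_cases hA4 : Nat.card (TA A T) = 4
    · -- `m` centralizes a Sylow 2-subgroup of `A`
      obtain ⟨x, hx, hxV⟩ := Pairs.exists_conj_le A V (TA A T) (pgroup_V h) (TA_two h hsq) h.V_le
        (fun x hx => hx.1) (V_max h h8)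
      have hsurj : ∀ v ∈ V, x⁻¹ * v * x ∈ TA A T := by
        have h1 : cj x (TA A T) ≤ V := by
          rintro _ ⟨y, hy, rfl⟩
          exact hxV y hy
        have h2 : cj x (TA A T) = V := by
          apply eq_of_le_of_card_ge h1
          rw [h.cardV, ← hA4]
          exact (Nat.card_congr ((TA A T).equivMapOfInjective _ (MulAut.conj x).injective).toEquiv).le
        intro v hv
        rw [← mem_cj, h2]
        exact hv
      apply hmA
      apply AC_conj (A_le_AC hx)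
      refine AC_of_CV h (mul_mem (mul_mem (le_N hx) (hTN hm)) (inv_mem (le_N hx))) fun v hv => ?_
      obtain ⟨ha, k, hk, hak⟩ := hsurj v hv
      have h1 := (hmc _ ha k hk hak).1
      calc x * m * x⁻¹ * v = x * (m * (x⁻¹ * v * x) * m⁻¹) * m * x⁻¹ := by group
        _ = v * (x * m * x⁻¹) := by rw [h1]; group
    · -- `m` centralizes a Sylow 2-subgroup of `C A`
      have hA2 := hTA.2 hA4
      let K₀ : Subgroup G := T ⊓ C A
      have hK : Nat.card B ≤ 2 * Nat.card K₀ := by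
        refine half (le_inf inf_le_left fun x hx => C_le_AC hx.2) fun x hx hxK y hy hyK =>
          ⟨mul_mem hx.1 hy.1, ?_⟩
        obtain ⟨a, ha, k, hk, rfl⟩ := hx.2
        obtain ⟨b, hb, l, hl, rfl⟩ := hy.2
        have haT : a ∈ TA A T := ⟨ha, k, hk, hx.1⟩
        have hbT : b ∈ TA A T := ⟨hb, l, hl, hy.1⟩
        have ha1 : a ≠ 1 := by
          rintro rfl
          exact hxK ⟨hx.1, by rw [one_mul]; exact hk⟩
        have hb1 : b ≠ 1 := by
          rintro rfl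
          exact hyK ⟨hy.1, by rw [one_mul]; exact hl⟩
        have hab : a = b := by
          by_contra hne
          classical
          haveI := Fintype.ofFinite (TA A T)
          have h3 : ({⟨1, one_mem _⟩, ⟨a, haT⟩, ⟨b, hbT⟩} : Finset (TA A T)).card ≤ Nat.card (TA A T) := by
            rw [Nat.card_eq_fintype_card]
            exact Finset.card_le_univ _
          rw [Finset.card_insert_of_notMem, Finset.card_insert_of_notMem, Finset.card_singleton] at h3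
          · omega
          · simp only [Finset.mem_singleton, Subtype.mk.injEq]
            exact hne
          · simp only [Finset.mem_insert, Finset.mem_singleton, Subtype.mk.injEq, not_or]
            exact ⟨fun e => ha1 e.symm, fun e => hb1 e.symm⟩
        subst hab
        have h2 := (sq_both h hsq ha hk hx.1).1
        have h3 := comm_of_C hk ha
        rw [show a * k * (a * l) = a * (k * a) * l by group, h3, show a * (a * k) * l = (a * a) * (k * l) by group,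
          h2, one_mul]
        exact mul_mem hk hl
      have hK4 : 4 ≤ Nat.card K₀ := by omega
      have hK2 : IsPGroup 2 K₀ := Pairs.isPGroup_of_sq fun x hx => hsq x hx.1
      obtain ⟨y, hy, hyR⟩ := Pairs.exists_conj_le (C A) R K₀ (pgroup_R h) hK2 h.R_le
        (fun x hx => hx.2) (R_max h)
      have hsurj : ∀ v ∈ R, y⁻¹ * v * y ∈ K₀ := by
        have h1 : cj y K₀ ≤ R := by
          rintro _ ⟨z, hz, rfl⟩
          exact hyR z hz
        have h2 : cj y K₀ = R := by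
          apply eq_of_le_of_card_ge h1
          rw [h.cardR]
          exact hK4.trans (Nat.card_congr (K₀.equivMapOfInjective _ (MulAut.conj y).injective).toEquiv).le
        intro v hv
        rw [← mem_cj, h2]
        exact hv
      apply hmA
      apply AC_conj (C_le_AC hy)
      refine cent_R_AC hP F h8 (mul_mem (mul_mem (C_le_N hy) (hTN hm)) (inv_mem (C_le_N hy))) fun r hr => ?_
      have h1 := hcomm m hm _ (hsurj r hr).1
      calc y * m * y⁻¹ * r = y * (m * (y⁻¹ * r * y)) * y⁻¹ := by group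
        _ = r * (y * m * y⁻¹) := by rw [h1]; group
  -- both projections have order 4
  have h1 := card_le_proj h hT
  have hKC : (T ⊓ C A : Subgroup G) ≤ TC A T := fun x hx => ⟨hx.2, 1, one_mem _, by rw [one_mul]; exact hx.1⟩
  have hKcard := Subgroup.card_le_of_le hKC
  have hK4 : 4 ≤ Nat.card (T ⊓ C A : Subgroup G) := by
    by_contra hlt
    push_neg at hlt
    have : Nat.card (TA A T) * Nat.card (T ⊓ C A : Subgroup G) ≤ 4 * 3 :=
      Nat.mul_le_mul hTA.1 (by omega)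
    omega
  have hKeq : (T ⊓ C A : Subgroup G) = TC A T := eq_of_le_of_card_ge hKC (by omega)
  obtain ⟨x, hx, hxV⟩ := Pairs.exists_conj_le A V (TA A T) (pgroup_V h) (TA_two h hsq) h.V_le
    (fun x hx => hx.1) (V_max h h8)
  obtain ⟨y, hy, hyR⟩ := Pairs.exists_conj_le (C A) R (TC A T) (pgroup_R h) (TC_two h hsq) h.R_le
    (fun x hx => hx.1) (R_max h)
  refine ⟨y * x, fun t ht => ?_⟩
  obtain ⟨a, ha, k, hk, rfl⟩ := hT ht
  have h2 := hxV a ⟨ha, k, hk, ht⟩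
  have h3 := hyR k ⟨hk, a, ha, ht⟩
  have h4 := comm_of_C hk hx
  have h5 := comm_of_C hy (h.V_le h2)
  have h6 : x * k * x⁻¹ = k := by rw [← h4]; group
  rw [show y * x * (a * k) * (y * x)⁻¹ = (y * (x * a * x⁻¹)) * (x * k * x⁻¹) * y⁻¹ by group, h6, h5,
    show x * a * x⁻¹ * y * k * y⁻¹ = (x * a * x⁻¹) * (y * k * y⁻¹) by group]
  exact mul_mem (mem_sup_right h2) (mem_sup_left h3)

end elab16

end Cfsg.Agent.StdAlt.Five.SwapA
end

-- part: StdAlt/Five/SwapB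
section
prune_inst 0xe0104200102210000000000020000020000000000040000121000302020000018000000038002200010080200008800003180009000000002000820000040000040046001240b108010000408000000000000000000000000000000000000000000000000
set_option linter.all false
open scoped Cfsg.Agent.FastGrp

/-!
# S1766, n = 5, case (I): the normalizer of `P` when `E2` has K-type
-/

set_option autoImplicit false

namespace Cfsg.Agent.StdAlt.Five.SwapB

open Subgroup Cfsg.Agent.StdAlt.Conj Cfsg.Agent.J2Sylow.Model Cfsg.Agent.StdAlt.Five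
open Cfsg.Agent.StdAlt.Five.Sec4 Cfsg.Agent.StdAlt.Five.PGroup Cfsg.Agent.StdAlt.Five.PExists
open Cfsg.Agent.StdAlt.Five.PData Cfsg.Agent.StdAlt.Five.Coord Cfsg.Agent.StdAlt.Five.Moves
open Cfsg.Agent.StdAlt.Five.Mu Cfsg.Agent.StdAlt.Five.SylA Cfsg.Agent.StdAlt.Five.SwapA

variable {G : Type*} [Group G] {A R V P : Subgroup G} {ρ g s : G} {X Y Z : F4 → G}

/-! ### the subgroup `E2` -/

theorem mulE2 (D : Data R V P ρ) (F : Frame R V P ρ 0 X Y Z) (b c b' c' : F4) :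
    (Y b * Z c) * (Y b' * Z c') = Y (b + b') * Z (c + c') := by
  rw [E2_mul D F, zero_mul, add_zero]

theorem sqE2 (D : Data R V P ρ) (F : Frame R V P ρ 0 X Y Z) (b c : F4) :
    (Y b * Z c) * (Y b * Z c) = 1 := by
  rw [mulE2 D F, F4.add_self, F4.add_self, F.Y_zero, F.Z_zero, one_mul]

/-- `E2 = {Y b * Z c}` -/
def E2 (D : Data R V P ρ) (F : Frame R V P ρ 0 X Y Z) : Subgroup G where
  carrier := {x | ∃ b c, x = Y b * Z c}
  mul_mem' := by
    rintro _ _ ⟨b, c, rfl⟩ ⟨b', c', rfl⟩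
    exact ⟨b + b', c + c', mulE2 D F b c b' c'⟩
  one_mem' := ⟨0, 0, by rw [F.Y_zero, F.Z_zero, one_mul]⟩
  inv_mem' := by
    rintro _ ⟨b, c, rfl⟩
    exact ⟨b, c, inv_eq_of_mul_eq_one_left (sqE2 D F b c)⟩

section
variable (D : Data R V P ρ) (F : Frame R V P ρ 0 X Y Z)
include D F

theorem E2_sq {x : G} (hx : x ∈ E2 D F) : x * x = 1 := by
  obtain ⟨b, c, rfl⟩ := hx
  exact sqE2 D F b c

theorem E2_comm {x y : G} (hx : x ∈ E2 D F) (hy : y ∈ E2 D F) : x * y = y * x := by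
  obtain ⟨b, c, rfl⟩ := hx
  obtain ⟨b', c', rfl⟩ := hy
  rw [mulE2 D F, mulE2 D F, add_comm b, add_comm c]

theorem E2_le {x : G} (hx : x ∈ E2 D F) : x ∈ P := by
  obtain ⟨b, c, rfl⟩ := hx
  exact P.mul_mem (F.Y_mem b) (D.B_le (F.Z_mem c))

theorem V_le_E2 {x : G} (hx : x ∈ V) : x ∈ E2 D F := by
  obtain ⟨c, rfl⟩ := F.Z_surj x hx
  exact ⟨0, c, by rw [F.Y_zero, one_mul]⟩

theorem card_E2 : Nat.card (E2 D F) = 16 := by
  have h1 : Function.Bijective (fun p : F4 × F4 => (⟨Y p.1 * Z p.2, ⟨p.1, p.2, rfl⟩⟩ : E2 D F)) := by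
    constructor
    · rintro ⟨b, c⟩ ⟨b', c'⟩ e
      have e1 : Y b * Z c = Y b' * Z c' := congrArg (fun x : E2 D F => (x : G)) e
      obtain ⟨e2, e3⟩ := E2_inj D F e1
      exact Prod.ext e2 e3
    · rintro ⟨x, b, c, rfl⟩
      exact ⟨(b, c), rfl⟩
  rw [← Nat.card_congr (Equiv.ofBijective _ h1), Nat.card_prod, Nat.card_eq_fintype_card]
  decide

theorem mem_E2_iff {b a c : F4} : Y b * X a * Z c ∈ E2 D F ↔ a = 0 := by
  constructor
  · rintro ⟨b', c', e⟩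
    rw [show Y b' * Z c' = Y b' * X 0 * Z c' by rw [F.X_zero, mul_one]] at e
    exact (F.inj _ _ _ _ _ _ e).2.1
  · rintro rfl
    exact ⟨b, c, by rw [F.X_zero, mul_one]⟩

theorem mem_V_iff {b a c : F4} : Y b * X a * Z c ∈ V ↔ b = 0 ∧ a = 0 := by
  constructor
  · intro h
    obtain ⟨c', e⟩ := F.Z_surj _ h
    rw [show Z c' = Y 0 * X 0 * Z c' by rw [F.X_zero, F.Y_zero, mul_one, one_mul]] at e
    obtain ⟨h1, h2, -⟩ := F.inj _ _ _ _ _ _ e
    exact ⟨h1.symm, h2.symm⟩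
  · rintro ⟨rfl, rfl⟩
    rw [F.X_zero, F.Y_zero, one_mul, one_mul]
    exact F.Z_mem c

theorem inf_E (h : OddE A R V ρ g) {x : G} (hx : x ∈ R ⊔ V) (hx2 : x ∈ E2 D F) : x ∈ V := by
  obtain ⟨b, a, c, e⟩ := F.P_surj x (E2_le D F hx2)
  rw [e] at hx hx2 ⊢
  exact (mem_V_iff D F).2 ⟨(mem_E_iff D F h).1 hx, (mem_E2_iff D F).1 hx2⟩

theorem inv_mem (h : OddE A R V ρ g) {x : G} (hx : x ∈ P) (hxx : x * x = 1) : x ∈ R ⊔ V ∨ x ∈ E2 D F := by
  obtain ⟨b, a, c, e⟩ := F.P_surj x hx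
  rw [e] at hxx ⊢
  rcases inv_coord D F hxx with h1 | h1
  · exact Or.inl ((mem_E_iff D F h).2 h1)
  · exact Or.inr ((mem_E2_iff D F).2 h1)

/-- commutation with an involution outside `V` -/
theorem cent_inv (h : OddE A R V ρ g) {y : G} (hy : y ∈ P) (hyy : y * y = 1) (hyV : y ∉ V) :
    (y ∈ R ⊔ V ∧ ∀ z ∈ P, z * y = y * z → z ∈ R ⊔ V) ∨ (y ∈ E2 D F ∧ ∀ z ∈ P, z * y = y * z → z ∈ E2 D F) := by
  obtain ⟨b₀, a₀, c₀, e⟩ := F.P_surj y hy
  rw [e] at hyy hyV ⊢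
  rcases inv_coord D F hyy with h1 | h1
  · left
    refine ⟨(mem_E_iff D F h).2 h1, fun z hz hc => ?_⟩
    obtain ⟨b, a, c, e'⟩ := F.P_surj z hz
    rw [e', h1, F.Y_zero, one_mul] at hc
    have h2 := comm_coord D F hc
    rw [e']
    refine (mem_E_iff D F h).2 ?_
    have h3 : a₀ ≠ 0 := fun h3 => hyV ((mem_V_iff D F).2 ⟨h1, h3⟩)
    have : ∀ a b : F4, a * b = 0 → a ≠ 0 → b = 0 := by decide
    exact this _ _ h2 h3
  · right
    refine ⟨(mem_E2_iff D F).2 h1, fun z hz hc => ?_⟩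
    obtain ⟨b, a, c, e'⟩ := F.P_surj z hz
    rw [e', P_mul D F, P_mul D F] at hc
    obtain ⟨-, -, h2⟩ := F.inj _ _ _ _ _ _ hc
    rw [e']
    refine (mem_E2_iff D F).2 ?_
    have h3 : b₀ ≠ 0 := fun h3 => hyV ((mem_V_iff D F).2 ⟨h3, h1⟩)
    rw [h1] at h2
    have e1 : a * b₀ + (c + c₀) = 0 + (c + c₀) := by
      rw [zero_mul, zero_mul, zero_add, zero_mul, zero_add, add_comm c₀ c] at h2
      exact h2
    have e2 := add_right_cancel e1
    have : ∀ a b : F4, a * b = 0 → b ≠ 0 → a = 0 := by decide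
    exact this _ _ e2 h3

end

/-- all elements of `E2 - V` have K-type if one does -/
theorem all_kt (D : Data R V P ρ) (F : Frame R V P ρ 0 X Y Z) {b c : F4} (hb : b ≠ 0)
    (hk : KT A (Y b * Z c)) (b' c' : F4) (hb' : b' ≠ 0) : KT A (Y b' * Z c') := by
  -- conjugation by `ρ`
  have h1 : ∀ b c, KT A (Y b * Z c) → KT A (Y (F4.w * b) * Z (F4.w * c)) := by
    intro b c h
    rw [← ρE2 F]
    exact KT_conj h ρ
  have h2 : ∀ b c a, KT A (Y b * Z c) → KT A (Y b * Z (a * b + c)) := by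
    intro b c a h
    have h3 : X a * (Y b * Z c) * (X a)⁻¹ = Y b * Z (a * b + c) := by
      have e1 := F.X_Y a b
      have e2 := ZX D F (a * b) a
      have e3 := ZX D F c a
      calc X a * (Y b * Z c) * (X a)⁻¹ = (X a * Y b) * Z c * (X a)⁻¹ := by group
        _ = Y b * (X a * Z (a * b)) * Z c * (X a)⁻¹ := by rw [e1]; group
        _ = Y b * Z (a * b) * (X a * Z c) * (X a)⁻¹ := by rw [← e2]; group
        _ = Y b * (Z (a * b) * Z c) := by rw [← e3]; group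
        _ = _ := by rw [← F.Z_add]
    rw [← h3]
    exact KT_conj h (X a)
  obtain ⟨c₁, h3⟩ : ∃ c₁, KT A (Y b' * Z c₁) := by
    have : b' = b ∨ b' = F4.w * b ∨ b' = F4.w * (F4.w * b) := by
      have : ∀ b b' : F4, b ≠ 0 → b' ≠ 0 → b' = b ∨ b' = F4.w * b ∨ b' = F4.w * (F4.w * b) := by decide
      exact this b b' hb hb'
    rcases this with e | e | e
    · exact ⟨c, by rw [e]; exact hk⟩
    · exact ⟨_, by rw [e]; exact h1 _ _ hk⟩
    · exact ⟨_, by rw [e]; exact h1 _ _ (h1 _ _ hk)⟩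
  obtain ⟨a, ha⟩ : ∃ a, a * b' + c₁ = c' := by
    have : ∀ b' c₁ c' : F4, b' ≠ 0 → ∃ a, a * b' + c₁ = c' := by decide
    exact this b' c₁ c' hb'
  rw [← ha]
  exact h2 _ _ a h3

/-! ### elements normalizing `P` -/

/-- `x` swaps `E` and `E2` -/
structure Sw (D : Data R V P ρ) (F : Frame R V P ρ 0 X Y Z) (x : G) : Prop where
  onP : ∀ p ∈ P, x * p * x⁻¹ ∈ P
  onV : ∀ v ∈ V, x * v * x⁻¹ ∈ V
  onE : ∀ e ∈ R ⊔ V, x * e * x⁻¹ ∈ E2 D F
  onE' : ∀ e ∈ E2 D F, x * e * x⁻¹ ∈ R ⊔ V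

/-- `x` normalizes `E` and `E2` -/
structure Nm (D : Data R V P ρ) (F : Frame R V P ρ 0 X Y Z) (x : G) : Prop where
  onP : ∀ p ∈ P, x * p * x⁻¹ ∈ P
  onV : ∀ v ∈ V, x * v * x⁻¹ ∈ V
  onE : ∀ e ∈ R ⊔ V, x * e * x⁻¹ ∈ R ⊔ V
  onE' : ∀ e ∈ E2 D F, x * e * x⁻¹ ∈ E2 D F

theorem XY_ncomm (D : Data R V P ρ) (F : Frame R V P ρ 0 X Y Z) : X F4.e * Y F4.e ≠ Y F4.e * X F4.e := by
  intro e
  rw [F.X_Y] at e
  have h1 : Z (F4.e * F4.e) = 1 := mul_eq_left.1 e
  rw [← F.Z_zero] at h1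
  exact absurd (F.Z_inj h1) (by decide)

/-- the dichotomy -/
theorem dich [Finite G] {h : OddE A R V ρ g} (hP : IsP h P) (F : Frame R V P ρ 0 X Y Z)
    (kt2 : ∀ b c, b ≠ 0 → KT A (Y b * Z c)) {x : G} (hx : ∀ p ∈ P, x * p * x⁻¹ ∈ P) :
    Nm (PData.data hP) F x ∨ Sw (PData.data hP) F x := by
  have D := PData.data hP
  -- elements of `V` go to `V`, elements outside do not
  have hkt : ∀ y ∈ P, y * y = 1 → (y ∉ V ↔ KT A y) := by
    intro y hy hyy
    constructor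
    · intro hyV
      obtain ⟨b, a, c, e⟩ := F.P_surj y hy
      rcases inv_mem D F h hy hyy with h1 | h1
      · rw [e] at h1 hyV ⊢
        have h2 := (mem_E_iff D F h).1 h1
        have h3 : a ≠ 0 := fun h3 => hyV ((mem_V_iff D F).2 ⟨h2, h3⟩)
        rw [h2, F.Y_zero, one_mul]
        refine KT_E h (F.X_mem a) ?_ (F.Z_mem c)
        intro e'
        apply h3
        apply F.X_inj
        rw [e', F.X_zero]
      · rw [e] at h1 hyV ⊢
        have h2 := (mem_E2_iff D F).1 h1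
        have h3 : b ≠ 0 := fun h3 => hyV ((mem_V_iff D F).2 ⟨h3, h2⟩)
        rw [h2, F.X_zero, mul_one]
        exact kt2 b c h3
    · intro hk hyV
      exact not_KT h hyV hk
  have hsq : ∀ y : G, y * y = 1 → (x * y * x⁻¹) * (x * y * x⁻¹) = 1 := by
    intro y hy
    calc (x * y * x⁻¹) * (x * y * x⁻¹) = x * (y * y) * x⁻¹ := by group
      _ = 1 := by rw [hy]; group
  have hV : ∀ v ∈ V, x * v * x⁻¹ ∈ V := by
    intro v hv
    by_contra hcon
    have h1 := (hkt _ (hx v (D.B_le hv)) (hsq v (h.sqV v hv))).1 hcon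
    have h2 := KT_conj h1 x⁻¹
    rw [show x⁻¹ * (x * v * x⁻¹) * x⁻¹⁻¹ = v by group] at h2
    exact not_KT h hv h2
  have hnV : ∀ y ∈ P, y * y = 1 → y ∉ V → x * y * x⁻¹ ∉ V := by
    intro y hy hyy hyV
    have h1 := (hkt y hy hyy).1 hyV
    exact (hkt _ (hx y hy) (hsq y hyy)).2 (KT_conj h1 x)
  have hcj : ∀ y z : G, y * z = z * y → (x * y * x⁻¹) * (x * z * x⁻¹) = (x * z * x⁻¹) * (x * y * x⁻¹) := by
    intro y z e
    calc (x * y * x⁻¹) * (x * z * x⁻¹) = x * (y * z) * x⁻¹ := by group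
      _ = _ := by rw [e]; group
  have hXV : X F4.e ∉ V := by
    rw [show X F4.e = Y 0 * X F4.e * Z 0 by rw [F.Y_zero, F.Z_zero, one_mul, mul_one], mem_V_iff D F]
    rintro ⟨-, h1⟩
    exact absurd h1 (by decide)
  have hYV : Y F4.e ∉ V := by
    rw [show Y F4.e = Y F4.e * X 0 * Z 0 by rw [F.X_zero, F.Z_zero, mul_one, mul_one], mem_V_iff D F]
    rintro ⟨h1, -⟩
    exact absurd h1 (by decide)
  have hXP : X F4.e ∈ P := D.R_le (F.X_mem _)
  have hYP : Y F4.e ∈ P := F.Y_mem _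
  have hXX : X F4.e * X F4.e = 1 := h.sqR _ (F.X_mem _)
  have hYY : Y F4.e * Y F4.e = 1 := by
    have := sqE2 D F F4.e 0
    rwa [F.Z_zero, mul_one] at this
  have hXE : X F4.e ∈ R ⊔ V := mem_sup_left (F.X_mem _)
  have hYE : Y F4.e ∈ E2 D F := ⟨F4.e, 0, by rw [F.Z_zero, mul_one]⟩
  have c1 := cent_inv D F h (hx _ hXP) (hsq _ hXX) (hnV _ hXP hXX hXV)
  have c2 := cent_inv D F h (hx _ hYP) (hsq _ hYY) (hnV _ hYP hYY hYV)
  have hn : ¬ ((x * X F4.e * x⁻¹) * (x * Y F4.e * x⁻¹) = (x * Y F4.e * x⁻¹) * (x * X F4.e * x⁻¹)) := by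
    intro e
    apply XY_ncomm D F
    calc X F4.e * Y F4.e = x⁻¹ * ((x * X F4.e * x⁻¹) * (x * Y F4.e * x⁻¹)) * x := by group
      _ = Y F4.e * X F4.e := by rw [e]; group
  have hEE : ∀ e ∈ R ⊔ V, (x * e * x⁻¹) * (x * X F4.e * x⁻¹) = (x * X F4.e * x⁻¹) * (x * e * x⁻¹) :=
    fun e he => hcj _ _ (E_comm h he hXE)
  have hE2 : ∀ e ∈ E2 D F, (x * e * x⁻¹) * (x * Y F4.e * x⁻¹) = (x * Y F4.e * x⁻¹) * (x * e * x⁻¹) :=
    fun e he => hcj _ _ (E2_comm D F he hYE)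
  rcases c1 with ⟨m1, c1⟩ | ⟨m1, c1⟩ <;> rcases c2 with ⟨m2, c2⟩ | ⟨m2, c2⟩
  · exact absurd (E_comm h m1 m2) hn
  · exact Or.inl ⟨hx, hV, fun e he => c1 _ (hx e (E_le hP he)) (hEE e he),
      fun e he => c2 _ (hx e (E2_le D F he)) (hE2 e he)⟩
  · exact Or.inr ⟨hx, hV, fun e he => c1 _ (hx e (E_le hP he)) (hEE e he),
      fun e he => c2 _ (hx e (E2_le D F he)) (hE2 e he)⟩
  · exact absurd (E2_comm D F m1 m2) hn

theorem Nm.NE [Finite G] {D : Data R V P ρ} {F : Frame R V P ρ 0 X Y Z} {x : G} (hx : Nm D F x) :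
    x ∈ N (R ⊔ V) := mem_N_of hx.onE

theorem Sw.not_NE [Finite G] {h : OddE A R V ρ g} {D : Data R V P ρ} {F : Frame R V P ρ 0 X Y Z} {x : G}
    (hx : Sw D F x) : x ∉ N (R ⊔ V) := by
  intro hn
  have h1 : ∀ e ∈ R ⊔ V, e ∈ V := by
    intro e he
    have h2 := conj_mem' hn he
    have h3 := hx.onE _ h2
    rw [show x * (x⁻¹ * e * x) * x⁻¹ = e by group] at h3
    exact inf_E D F h he h3
  have h2 := h1 _ (mem_sup_left (F.X_mem F4.e))
  rw [show X F4.e = Y 0 * X F4.e * Z 0 by rw [F.Y_zero, F.Z_zero, one_mul, mul_one], mem_V_iff D F] at h2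
  exact absurd h2.2 (by decide)

theorem Sw.mul {D : Data R V P ρ} {F : Frame R V P ρ 0 X Y Z} {x y : G} (hx : Sw D F x) (hy : Sw D F y) :
    Nm D F (x * y) where
  onP := fun p hp => by
    rw [show x * y * p * (x * y)⁻¹ = x * (y * p * y⁻¹) * x⁻¹ by group]; exact hx.onP _ (hy.onP _ hp)
  onV := fun p hp => by
    rw [show x * y * p * (x * y)⁻¹ = x * (y * p * y⁻¹) * x⁻¹ by group]; exact hx.onV _ (hy.onV _ hp)
  onE := fun p hp => by
    rw [show x * y * p * (x * y)⁻¹ = x * (y * p * y⁻¹) * x⁻¹ by group]; exact hx.onE' _ (hy.onE _ hp)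
  onE' := fun p hp => by
    rw [show x * y * p * (x * y)⁻¹ = x * (y * p * y⁻¹) * x⁻¹ by group]; exact hx.onE _ (hy.onE' _ hp)

theorem Sw.Nm_mul {D : Data R V P ρ} {F : Frame R V P ρ 0 X Y Z} {x y : G} (hx : Nm D F x) (hy : Sw D F y) :
    Sw D F (x * y) where
  onP := fun p hp => by
    rw [show x * y * p * (x * y)⁻¹ = x * (y * p * y⁻¹) * x⁻¹ by group]; exact hx.onP _ (hy.onP _ hp)
  onV := fun p hp => by
    rw [show x * y * p * (x * y)⁻¹ = x * (y * p * y⁻¹) * x⁻¹ by group]; exact hx.onV _ (hy.onV _ hp)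
  onE := fun p hp => by
    rw [show x * y * p * (x * y)⁻¹ = x * (y * p * y⁻¹) * x⁻¹ by group]; exact hx.onE' _ (hy.onE _ hp)
  onE' := fun p hp => by
    rw [show x * y * p * (x * y)⁻¹ = x * (y * p * y⁻¹) * x⁻¹ by group]; exact hx.onE _ (hy.onE' _ hp)

/-- 2-elements of `W0` lie in `P` -/
theorem W0_two [Finite G] {h : OddE A R V ρ g} (hP : IsP h P) {x : G} (hx : x ∈ W0 h)
    (h2 : ∃ k : ℕ, x ^ (2 ^ k) = 1) : x ∈ P := by
  obtain ⟨p, hp, d, hd, rfl⟩ := W0_fact hP hx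
  obtain ⟨k, hk⟩ := h2
  obtain ⟨l, hl⟩ := pow_two_of_mem hP hp
  have hc : Commute p d := Od_P hP hd hp
  have h3 : d ^ (2 ^ (k + l)) = 1 := by
    have h4 : (p * d) ^ (2 ^ (k + l)) = 1 := by rw [pow_add, pow_mul, hk, one_pow]
    rw [hc.mul_pow, show p ^ (2 ^ (k + l)) = 1 by rw [pow_add, mul_comm, pow_mul, hl, one_pow],
      one_mul] at h4
    exact h4
  have h5 : d = 1 := by
    have h6 : orderOf d ∣ 2 ^ (k + l) := orderOf_dvd_of_pow_eq_one h3
    have h7 : Nat.Coprime (orderOf d) (2 ^ (k + l)) := Nat.Coprime.pow_right _ hd.2.coprime_two_right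
    exact orderOf_eq_one_iff.1 (Nat.Coprime.eq_one_of_dvd h7 h6)
  rw [h5, mul_one]
  exact hp

/-- **existence of a swap** -/
theorem exists_swap [Finite G] {h : OddE A R V ρ g} (hP : IsP h P) (F : Frame R V P ρ 0 X Y Z)
    (kt2 : ∀ b c, b ≠ 0 → KT A (Y b * Z c)) (h8 : ¬ 8 ∣ Nat.card A) : ∃ x, Sw (PData.data hP) F x := by
  have D := PData.data hP
  obtain ⟨h1, h2, g₁, hg₁⟩ := kt2 F4.e 0 (by decide)
  have hyE : Y F4.e * Z 0 ∈ E2 D F := ⟨F4.e, 0, rfl⟩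
  set y := Y F4.e * Z 0 with hy
  let T := cj g₁ (E2 D F)
  have hTmem : ∀ t, t ∈ T → ∃ e ∈ E2 D F, t = g₁ * e * g₁⁻¹ := by
    intro t ht
    exact ⟨g₁⁻¹ * t * g₁, mem_cj.1 ht, by group⟩
  have hTN : T ≤ N A := by
    intro t ht
    obtain ⟨e, he, rfl⟩ := hTmem t ht
    refine h.te.nrm hg₁ ?_ ?_ ?_
    · intro e1
      apply h1
      rw [show y = g₁⁻¹ * (g₁ * y * g₁⁻¹) * g₁ by group, e1]; group
    · rw [show g₁ * y * g₁⁻¹ * (g₁ * y * g₁⁻¹) = g₁ * (y * y) * g₁⁻¹ by group, h2]; group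
    · have h3 := E2_comm D F he hyE
      calc g₁ * e * g₁⁻¹ * (g₁ * y * g₁⁻¹) = g₁ * (e * y) * g₁⁻¹ := by group
        _ = _ := by rw [h3]; group
  have hsq : ∀ t ∈ T, t * t = 1 := by
    intro t ht
    obtain ⟨e, he, rfl⟩ := hTmem t ht
    rw [show g₁ * e * g₁⁻¹ * (g₁ * e * g₁⁻¹) = g₁ * (e * e) * g₁⁻¹ by group, E2_sq D F he]; group
  have hcomm : ∀ x ∈ T, ∀ y ∈ T, x * y = y * x := by
    intro t ht u hu
    obtain ⟨e, he, rfl⟩ := hTmem t ht
    obtain ⟨f, hf, rfl⟩ := hTmem u hu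
    have h3 := E2_comm D F he hf
    calc g₁ * e * g₁⁻¹ * (g₁ * f * g₁⁻¹) = g₁ * (e * f) * g₁⁻¹ := by group
      _ = _ := by rw [h3]; group
  have hcard : Nat.card T = 16 := by
    rw [← card_E2 D F]
    exact (Nat.card_congr ((E2 D F).equivMapOfInjective _ (MulAut.conj g₁).injective).toEquiv).symm
  obtain ⟨z, hz⟩ := conj_into_E h hsq hP F h8 hTN hcomm hcard
  obtain ⟨x, hx⟩ : ∃ x, x = z * g₁ := ⟨_, rfl⟩
  have hxE : ∀ e ∈ E2 D F, x * e * x⁻¹ ∈ R ⊔ V := by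
    intro e he
    have := hz _ (conj_mem_cj.2 he)
    rwa [show z * (g₁ * e * g₁⁻¹) * z⁻¹ = x * e * x⁻¹ by rw [hx]; group] at this
  have hEx : ∀ e ∈ R ⊔ V, x⁻¹ * e * x ∈ E2 D F := by
    have h3 : cj x (E2 D F) ≤ R ⊔ V := by
      rintro _ ⟨y, hy, rfl⟩
      exact hxE y hy
    have h4 : cj x (E2 D F) = R ⊔ V := by
      apply eq_of_le_of_card_ge h3
      rw [card_E h, ← card_E2 D F]
      exact (Nat.card_congr ((E2 D F).equivMapOfInjective _ (MulAut.conj x).injective).toEquiv).le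
    intro v hv
    rw [← mem_cj, h4]
    exact hv
  -- `V` is normalized by `x`
  have hV : ∀ v ∈ V, x * v * x⁻¹ ∈ V := by
    intro v hv
    have h3 := hxE v (V_le_E2 D F hv)
    obtain ⟨r, hr, w, hw, e⟩ := (mem_E h).1 h3
    by_cases hr1 : r = 1
    · rw [e, hr1, one_mul]; exact hw
    · exfalso
      have h4 := KT_conj (KT_E h hr hr1 hw) x⁻¹
      rw [← e, show x⁻¹ * (x * v * x⁻¹) * x⁻¹⁻¹ = v by group] at h4
      exact not_KT h hv h4
  have hV' : ∀ v ∈ V, x⁻¹ * v * x ∈ V := by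
    have h3 : x ∈ N V := mem_N_of hV
    exact fun v hv => conj_mem' h3 hv
  -- `P` is normalized by `x`
  have hPE2 : ∀ p ∈ P, ∀ e ∈ E2 D F, p * e * p⁻¹ ∈ E2 D F ∧ p * e * p⁻¹ * e⁻¹ ∈ V := by
    intro p hp e he
    have h3 : p * e * p⁻¹ * e⁻¹ ∈ V := D.sqcomm hp (E2_le D F he)
    refine ⟨?_, h3⟩
    rw [show p * e * p⁻¹ = (p * e * p⁻¹ * e⁻¹) * e by group]
    exact mul_mem (V_le_E2 D F h3) he
  have hxP : ∀ p ∈ P, x * p * x⁻¹ ∈ P := by
    intro p hp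
    refine W0_two hP ⟨mem_N_of fun e he => ?_, fun v hv => ?_, fun r hr => ?_⟩ ?_
    · rw [show x * p * x⁻¹ * e * (x * p * x⁻¹)⁻¹ = x * (p * (x⁻¹ * e * x) * p⁻¹) * x⁻¹ by group]
      exact hxE _ (hPE2 p hp _ (hEx e he)).1
    · have h3 := D.cent p hp _ (hV' v hv)
      calc x * p * x⁻¹ * v = x * (p * (x⁻¹ * v * x)) * x⁻¹ := by group
        _ = v * (x * p * x⁻¹) := by rw [h3]; group
    · rw [show x * p * x⁻¹ * r * (x * p * x⁻¹)⁻¹ * r⁻¹ =
        x * (p * (x⁻¹ * r * x) * p⁻¹ * (x⁻¹ * r * x)⁻¹) * x⁻¹ by group]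
      exact hV _ (hPE2 p hp _ (hEx r (mem_sup_left hr))).2
    · obtain ⟨k, hk⟩ := pow_two_of_mem hP hp
      exact ⟨k, by rw [conj_pow, hk]; group⟩
  rcases dich hP F kt2 hxP with h3 | h3
  · exfalso
    -- `x` maps `E2` into `E`
    have h4 := h3.onE' y hyE
    have h5 := inf_E D F h (hxE y hyE) h4
    have h6 := KT_conj (kt2 F4.e 0 (by decide)) x
    exact not_KT h h5 h6
  · exact ⟨x, h3⟩

/-! ### the Sylow 2-subgroup of `N P` -/

/-- a Sylow 2-subgroup of `N P` -/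
structure IsQ (D : Data R V P ρ) (F : Frame R V P ρ 0 X Y Z) (S₀ Q : Subgroup G) (τ : G) : Prop where
  two : IsPGroup 2 Q
  le : S₀ ≤ Q
  leN : Q ≤ N P
  pow : ∀ n, 2 ^ n ∣ Nat.card (N P) → 2 ^ n ∣ Nat.card Q
  mem : τ ∈ Q
  sw : Sw D F τ
  inf : ∀ q ∈ Q, q ∈ N (R ⊔ V) → q ∈ S₀
  cases : ∀ q ∈ Q, q ∈ S₀ ∨ q * τ ∈ S₀
  cases' : ∀ q ∈ Q, q ∈ S₀ ∨ Sw D F q

theorem exists_Q [Finite G] {h : OddE A R V ρ g} (hP : IsP h P) (F : Frame R V P ρ 0 X Y Z)
    (kt2 : ∀ b c, b ≠ 0 → KT A (Y b * Z c)) (h8 : ¬ 8 ∣ Nat.card A) {S₀ : Subgroup G}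
    (hS : IsPGroup 2 S₀) (hPS : S₀ ≤ N P) (hSE : S₀ ≤ N (R ⊔ V))
    (hmax : ∀ Q : Subgroup G, IsPGroup 2 Q → S₀ ≤ Q → Q ≤ N (R ⊔ V) → Q = S₀) :
    ∃ Q τ, IsQ (PData.data hP) F S₀ Q τ := by
  have D := PData.data hP
  obtain ⟨x, hx⟩ := exists_swap hP F kt2 h8
  have hxN : x ∈ N P := mem_N_of hx.onP
  obtain ⟨Q, hQ2, hSQ, hQN, hpow⟩ := Pairs.exists_two_subgroup (N P) S₀ hS hPS
  have hinf : ∀ q ∈ Q, q ∈ N (R ⊔ V) → q ∈ S₀ := by
    intro q hq hqN
    have h1 := hmax (Q ⊓ N (R ⊔ V)) (hQ2.to_le inf_le_left) (le_inf hSQ hSE) inf_le_right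
    rw [← h1]
    exact ⟨hq, hqN⟩
  have hdich : ∀ q ∈ Q, q ∈ S₀ ∨ Sw D F q := by
    intro q hq
    rcases dich hP F kt2 (fun p hp => conj_mem (hQN hq) hp) with h1 | h1
    · exact Or.inl (hinf q hq h1.NE)
    · exact Or.inr h1
  -- a swap in `Q`
  obtain ⟨τ, hτ, hτs⟩ : ∃ τ ∈ Q, Sw D F τ := by
    by_contra hcon
    push_neg at hcon
    have hQS : Q ≤ S₀ := fun q hq => (hdich q hq).resolve_right (hcon q hq)
    let M : Subgroup G := N P ⊓ N (R ⊔ V)
    have hM : Nat.card (N P) ≤ 2 * Nat.card M := by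
      refine half inf_le_left fun a ha haM b hb hbM => ⟨mul_mem ha hb, ?_⟩
      have ha' : Sw D F a := by
        rcases dich hP F kt2 (fun p hp => conj_mem ha hp) with h1 | h1
        · exact absurd ⟨ha, h1.NE⟩ haM
        · exact h1
      have hb' : Sw D F b := by
        rcases dich hP F kt2 (fun p hp => conj_mem hb hp) with h1 | h1
        · exact absurd ⟨hb, h1.NE⟩ hbM
        · exact h1
      exact (ha'.mul hb').NE
    have hMne : Nat.card M ≠ Nat.card (N P) := by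
      intro e
      have h1 : M = N P := eq_of_le_of_card_ge inf_le_left e.ge
      have h2 : x ∈ M := by rw [h1]; exact hxN
      exact hx.not_NE (h := h) h2.2
    obtain ⟨k, hk⟩ : Nat.card M ∣ Nat.card (N P) := card_dvd_of_le inf_le_left
    have hMpos : 0 < Nat.card M := Nat.card_pos
    have hk2 : k = 2 := by
      have h1 : k ≤ 2 := by
        by_contra h1
        push_neg at h1
        have : Nat.card M * 3 ≤ Nat.card M * k := Nat.mul_le_mul_left _ h1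
        omega
      have h0 : 0 < Nat.card (N P) := Nat.card_pos
      rcases Nat.lt_or_ge k 2 with h2 | h2
      · exfalso
        rcases Nat.lt_or_ge k 1 with h3 | h3
        · rw [show k = 0 by omega, mul_zero] at hk
          omega
        · rw [show k = 1 by omega, mul_one] at hk
          exact hMne hk.symm
      · omega
    obtain ⟨n, hn⟩ := hQ2.exists_card_eq
    have hQM : Nat.card Q ∣ Nat.card M := card_dvd_of_le (le_inf hQN (hQS.trans hSE))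
    have h1 : 2 ^ (n + 1) ∣ Nat.card (N P) := by
      rw [hk, hk2, pow_succ, ← hn]
      exact Nat.mul_dvd_mul_right hQM 2
    have h2 := hpow _ h1
    rw [hn] at h2
    have h3 := (Nat.pow_dvd_pow_iff_le_right (by norm_num : 1 < 2)).1 h2
    omega
  refine ⟨Q, τ, hQ2, hSQ, hQN, hpow, hτ, hτs, hinf, ?_, hdich⟩
  intro q hq
  rcases hdich q hq with h1 | h1
  · exact Or.inl h1
  · exact Or.inr (hinf _ (mul_mem hq hτ) (h1.mul hτs).NE)

/-- if the conjugates of `E` in `Q` lie in `P`, then `Q` is a Sylow 2-subgroup of `G` -/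
theorem sylow_Q [Finite G] {h : OddE A R V ρ g} (hP : IsP h P) (F : Frame R V P ρ 0 X Y Z)
    {S₀ Q : Subgroup G} {τ : G} (hPS : P ≤ S₀) (hQ : IsQ (PData.data hP) F S₀ Q τ)
    (hwc : ∀ x : G, (∀ e ∈ R ⊔ V, x * e * x⁻¹ ∈ Q) → ∀ e ∈ R ⊔ V, x * e * x⁻¹ ∈ P) :
    ∃ S : Sylow 2 G, (S : Subgroup G) = Q := by
  have D := PData.data hP
  obtain ⟨S, hSS⟩ := hQ.two.exists_le_sylow
  refine ⟨S, ?_⟩
  by_contra hne
  obtain ⟨c, hcS, hcn, hc⟩ := Pairs.exists_normalizing (S : Subgroup G) Q S.2 hSS (fun e => hne e.symm)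
  have hPQ : P ≤ Q := hPS.trans hQ.le
  -- `c` normalizes `P`
  have h1 := hwc c (fun e he => hc e (hPQ (E_le hP he)))
  have h2 : ∀ e ∈ E2 D F, c * e * c⁻¹ ∈ P := by
    have h3 := hwc (c * τ) (fun e he => by
      rw [show c * τ * e * (c * τ)⁻¹ = c * (τ * e * τ⁻¹) * c⁻¹ by group]
      exact hc _ (hPQ (hQ.sw.onP e (E_le hP he))))
    have hτE : ∀ e ∈ E2 D F, τ⁻¹ * e * τ ∈ R ⊔ V := by
      have h4 : cj τ (R ⊔ V) ≤ E2 D F := by
        rintro _ ⟨y, hy, rfl⟩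
        exact hQ.sw.onE y hy
      have h5 : cj τ (R ⊔ V) = E2 D F := by
        apply eq_of_le_of_card_ge h4
        rw [card_E2 D F, ← card_E h]
        exact (Nat.card_congr ((R ⊔ V).equivMapOfInjective _ (MulAut.conj τ).injective).toEquiv).le
      intro v hv
      rw [← mem_cj, h5]
      exact hv
    intro e he
    have h4 := h3 _ (hτE e he)
    rwa [show c * τ * (τ⁻¹ * e * τ) * (c * τ)⁻¹ = c * e * c⁻¹ by group] at h4
  have hcP : c ∈ N P := by
    refine mem_N_of fun p hp => ?_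
    obtain ⟨b, a, c', rfl⟩ := F.P_surj p hp
    rw [conj_mul', conj_mul']
    refine mul_mem (mul_mem ?_ ?_) ?_
    · exact h2 _ ⟨b, 0, by rw [F.Z_zero, mul_one]⟩
    · exact h1 _ (mem_sup_left (F.X_mem a))
    · exact h1 _ (mem_sup_right (F.Z_mem c'))
  -- a bigger 2-subgroup of `N P`
  let Q' : Subgroup G := Q ⊔ zpowers c
  have hQ' : IsPGroup 2 Q' := S.2.to_le (sup_le hSS (by rw [zpowers_le]; exact hcS))
  obtain ⟨n, hn⟩ := hQ'.exists_card_eq
  have hQ'N : Q' ≤ N P := sup_le hQ.leN (by rw [zpowers_le]; exact hcP)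
  have h3 : 2 ^ n ∣ Nat.card (N P) := by
    rw [← hn]
    exact card_dvd_of_le hQ'N
  have h4 := hQ.pow n h3
  have h5 : Q = Q' := by
    apply eq_of_le_of_card_ge le_sup_left
    rw [hn]
    exact Nat.le_of_dvd Nat.card_pos h4
  apply hcn
  rw [h5]
  exact mem_sup_right (mem_zpowers c)

/-- an elementary abelian subgroup with a swap meets `P` in a subgroup of `V` -/
theorem meet_V [Finite G] {h : OddE A R V ρ g} (hP : IsP h P) (F : Frame R V P ρ 0 X Y Z) {t y : G}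
    (ht : Sw (PData.data hP) F t) (hy : y ∈ P) (hyy : y * y = 1) (hc : t * y = y * t) : y ∈ V := by
  have D := PData.data hP
  have h1 : t * y * t⁻¹ = y := by rw [hc]; group
  rcases inv_mem D F h hy hyy with h2 | h2
  · have h3 := ht.onE y h2
    rw [h1] at h3
    exact inf_E D F h h2 h3
  · have h3 := ht.onE' y h2
    rw [h1] at h3
    exact inf_E D F h h3 h2

theorem conj_E_facts [Finite G] (h : OddE A R V ρ g) (x : G) :
    (∀ y ∈ cj x (R ⊔ V), y * y = 1) ∧ (∀ y ∈ cj x (R ⊔ V), ∀ z ∈ cj x (R ⊔ V), y * z = z * y) ∧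
    Nat.card (cj x (R ⊔ V)) = 16 := by
  refine ⟨fun y hy => ?_, fun y hy z hz => ?_, ?_⟩
  · have h1 := E_sq h (mem_cj.1 hy)
    calc y * y = x * (x⁻¹ * y * x * (x⁻¹ * y * x)) * x⁻¹ := by group
      _ = 1 := by rw [h1]; group
  · have h1 := E_comm h (mem_cj.1 hy) (mem_cj.1 hz)
    calc y * z = x * (x⁻¹ * y * x * (x⁻¹ * z * x)) * x⁻¹ := by group
      _ = z * y := by rw [h1]; group
  · rw [← card_E h]
    exact (Nat.card_congr ((R ⊔ V).equivMapOfInjective _ (MulAut.conj x).injective).toEquiv).symm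

/-- `μ = 1` -/
theorem wcQ_one [Finite G] {h : OddE A R V ρ g} (hP : IsP h P) (F : Frame R V P ρ 0 X Y Z)
    {Q : Subgroup G} {τ : G} (hQ : IsQ (PData.data hP) F P Q τ) {x : G}
    (hx : ∀ e ∈ R ⊔ V, x * e * x⁻¹ ∈ Q) : ∀ e ∈ R ⊔ V, x * e * x⁻¹ ∈ P := by
  intro e he
  by_contra hcon
  obtain ⟨hsq, hcomm, hcard⟩ := conj_E_facts h x
  have hTQ : ∀ y ∈ cj x (R ⊔ V), y ∈ Q := by
    rintro _ ⟨y, hy, rfl⟩
    exact hx y hy
  have ht : x * e * x⁻¹ ∈ cj x (R ⊔ V) := conj_mem_cj.2 he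
  have htS : Sw (PData.data hP) F (x * e * x⁻¹) := (hQ.cases' _ (hx e he)).resolve_left hcon
  have h1 : Nat.card (cj x (R ⊔ V)) ≤ 2 * Nat.card (cj x (R ⊔ V) ⊓ P : Subgroup G) := by
    refine half inf_le_left fun a ha haP b hb hbP => ⟨mul_mem ha hb, ?_⟩
    have ha' := (hQ.cases' a (hTQ a ha)).resolve_left (fun h1 => haP ⟨ha, h1⟩)
    have hb' := (hQ.cases' b (hTQ b hb)).resolve_left (fun h1 => hbP ⟨hb, h1⟩)
    exact hQ.inf _ (mul_mem (hTQ a ha) (hTQ b hb)) (ha'.mul hb').NE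
  have h2 : (cj x (R ⊔ V) ⊓ P : Subgroup G) ≤ V := fun y hy =>
    meet_V hP F htS hy.2 (hsq y hy.1) (hcomm _ ht y hy.1)
  have h3 := Subgroup.card_le_of_le h2
  rw [h.cardV] at h3
  omega

/-- `μ = 2` -/
theorem wcQ_two [Finite G] {h : OddE A R V ρ g} (hP : IsP h P) (F : Frame R V P ρ 0 X Y Z)
    (hsP : ∀ p ∈ P, s * p * s⁻¹ ∈ P) (hss : s * s = 1) (hsX : ∀ a, s * X a * s⁻¹ = X (F4.fr a))
    (hsY : ∀ a, s * Y a * s⁻¹ = Y (F4.fr a)) (hsZ : ∀ a, s * Z a * s⁻¹ = Z (F4.fr a))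
    {Q : Subgroup G} {τ : G} (hQ : IsQ (PData.data hP) F (PS P s hsP hss) Q τ) {x : G}
    (hx : ∀ e ∈ R ⊔ V, x * e * x⁻¹ ∈ Q) : ∀ e ∈ R ⊔ V, x * e * x⁻¹ ∈ P := by
  have D := PData.data hP
  obtain ⟨hsq, hcomm, hcard⟩ := conj_E_facts h x
  have hTQ : ∀ y ∈ cj x (R ⊔ V), y ∈ Q := by
    rintro _ ⟨y, hy, rfl⟩
    exact hx y hy
  have hS : ∀ e ∈ R ⊔ V, x * e * x⁻¹ ∈ PS P s hsP hss := by
    intro e he
    by_contra hcon
    have ht : x * e * x⁻¹ ∈ cj x (R ⊔ V) := conj_mem_cj.2 he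
    have htS : Sw (PData.data hP) F (x * e * x⁻¹) := (hQ.cases' _ (hx e he)).resolve_left hcon
    have h1 : Nat.card (cj x (R ⊔ V)) ≤ 2 * Nat.card (cj x (R ⊔ V) ⊓ PS P s hsP hss : Subgroup G) := by
      refine half inf_le_left fun a ha haP b hb hbP => ⟨mul_mem ha hb, ?_⟩
      have ha' := (hQ.cases' a (hTQ a ha)).resolve_left (fun h1 => haP ⟨ha, h1⟩)
      have hb' := (hQ.cases' b (hTQ b hb)).resolve_left (fun h1 => hbP ⟨hb, h1⟩)
      exact hQ.inf _ (mul_mem (hTQ a ha) (hTQ b hb)) (ha'.mul hb').NE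
    have h1' : Nat.card (cj x (R ⊔ V) ⊓ PS P s hsP hss : Subgroup G) ≤
        2 * Nat.card (cj x (R ⊔ V) ⊓ P : Subgroup G) := by
      refine half (inf_le_inf_left _ fun p hp => Or.inl hp) fun a ha haP b hb hbP =>
        ⟨mul_mem ha.1 hb.1, ?_⟩
      have ha' : a * s ∈ P := (mem_PS.1 ha.2).resolve_left (fun h1 => haP ⟨ha.1, h1⟩)
      have hb' : b * s ∈ P := (mem_PS.1 hb.2).resolve_left (fun h1 => hbP ⟨hb.1, h1⟩)
      have hsi : s⁻¹ = s := inv_eq_of_mul_eq_one_left hss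
      have h3 := hsP _ hb'
      rw [hsi] at h3
      show a * b ∈ P
      rw [show a * b = (a * s) * (s⁻¹ * (b * s) * s⁻¹) by group, hsi]
      exact mul_mem ha' h3
    have h2 : (cj x (R ⊔ V) ⊓ P : Subgroup G) ≤ V := fun y hy =>
      meet_V hP F htS hy.2 (hsq y hy.1) (hcomm _ ht y hy.1)
    have h3 := Subgroup.card_le_of_le h2
    rw [h.cardV] at h3
    have h4 : (cj x (R ⊔ V) ⊓ P : Subgroup G) = V := eq_of_le_of_card_ge h2 (by rw [h.cardV]; omega)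
    have h5 : ¬ (cj x (R ⊔ V) ⊓ PS P s hsP hss : Subgroup G) ≤ P := by
      intro hle
      have h6 : (cj x (R ⊔ V) ⊓ PS P s hsP hss : Subgroup G) ≤ cj x (R ⊔ V) ⊓ P :=
        le_inf inf_le_left hle
      have := Subgroup.card_le_of_le h6
      omega
    obtain ⟨t, ht', htP⟩ := SetLike.not_le_iff_exists.1 h5
    have htP' : t * s ∈ P := (mem_PS.1 ht'.2).resolve_left htP
    have hZT : Z F4.w ∈ (cj x (R ⊔ V) ⊓ P : Subgroup G) := by rw [h4]; exact F.Z_mem _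
    have h6 := hcomm t ht'.1 _ hZT.1
    have h7 := D.cent _ htP' _ (F.Z_mem F4.u)
    have h8 := hsZ F4.w
    have hsi : s⁻¹ = s := inv_eq_of_mul_eq_one_left hss
    have h9 : t * Z F4.w * t⁻¹ = Z F4.u := by
      calc t * Z F4.w * t⁻¹ = (t * s) * (s⁻¹ * Z F4.w * s) * (t * s)⁻¹ := by group
        _ = (t * s) * Z F4.u * (t * s)⁻¹ := by
            rw [hsi]
            rw [hsi] at h8
            rw [h8]; rfl
        _ = Z F4.u := by rw [h7]; group
    have h10 : Z F4.w = Z F4.u := by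
      rw [← h9, h6]; group
    exact absurd (F.Z_inj h10) (by decide)
  exact fun e he => wc_PS hP F hsX hsY hsZ hss hS he

/-- `κ = 3` in the swap case -/
theorem not_kap1 [Finite G] {h : OddE A R V ρ g} (hP : IsP h P) (F : Frame R V P ρ 0 X Y Z) {x : G}
    (hx : Sw (PData.data hP) F x) : ¬ Kap1 A R := by
  intro hk
  have D := PData.data hP
  have hxV : ∀ v ∈ V, x⁻¹ * v * x ∈ V := by
    have h3 : x ∈ N V := mem_N_of hx.onV
    exact fun v hv => conj_mem' h3 hv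
  have hxE : ∀ e ∈ R ⊔ V, x⁻¹ * e * x ∈ E2 D F := by
    have h4 : cj x (E2 D F) ≤ R ⊔ V := by
      rintro _ ⟨y, hy, rfl⟩
      exact hx.onE' y hy
    have h5 : cj x (E2 D F) = R ⊔ V := by
      apply eq_of_le_of_card_ge h4
      rw [card_E h, ← card_E2 D F]
      exact (Nat.card_congr ((E2 D F).equivMapOfInjective _ (MulAut.conj x).injective).toEquiv).le
    intro v hv
    rw [← mem_cj, h5]
    exact hv
  have hρE2 : ∀ e ∈ E2 D F, ρ * e * ρ⁻¹ ∈ E2 D F := by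
    rintro _ ⟨b, c, rfl⟩
    exact ⟨_, _, ρE2 F b c⟩
  obtain ⟨ρ', hρ'⟩ : ∃ ρ', ρ' = x * ρ * x⁻¹ := ⟨_, rfl⟩
  have hρ'E : ρ' ∈ N (R ⊔ V) := by
    refine mem_N_of fun e he => ?_
    rw [hρ', show x * ρ * x⁻¹ * e * (x * ρ * x⁻¹)⁻¹ = x * (ρ * (x⁻¹ * e * x) * ρ⁻¹) * x⁻¹ by group]
    exact hx.onE' _ (hρE2 _ (hxE e he))
  obtain ⟨p, hp, m, hm, hmE, hpm⟩ := PData.fact hP hρ'E
  -- action on `R`
  have hr : ∀ r ∈ R, r ≠ 1 → m * r * m⁻¹ ≠ r := by
    intro r hr hr1 e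
    have hrP : r ∈ P := D.R_le hr
    -- `[ρ', r] ∈ V`
    have h1 : ρ' * r * ρ'⁻¹ * r⁻¹ ∈ V := by
      have h2 : ρ' * r * ρ'⁻¹ * r⁻¹ = p * r * p⁻¹ * r⁻¹ := by
        calc ρ' * r * ρ'⁻¹ * r⁻¹ = p * (m * r * m⁻¹) * p⁻¹ * r⁻¹ := by rw [hpm]; group
          _ = _ := by rw [e]
      rw [h2]
      exact D.comm_mem p hp r hr
    have h2 := hxV _ h1
    obtain ⟨b, c, hbc⟩ := hxE r (mem_sup_left hr)
    have h3 : x⁻¹ * (ρ' * r * ρ'⁻¹ * r⁻¹) * x = Y (F4.w * b) * Z (F4.w * c) * (Y b * Z c) := by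
      have hi : (Y b * Z c)⁻¹ = Y b * Z c := inv_eq_of_mul_eq_one_left (sqE2 D F b c)
      calc x⁻¹ * (ρ' * r * ρ'⁻¹ * r⁻¹) * x = ρ * (x⁻¹ * r * x) * ρ⁻¹ * (x⁻¹ * r * x)⁻¹ := by
            rw [hρ']; group
        _ = _ := by rw [hbc, ρE2 F, hi]
    rw [h3, mulE2 D F] at h2
    have h4 : Y (F4.w * b + b) * X 0 * Z (F4.w * c + c) ∈ V := by rw [F.X_zero, mul_one]; exact h2
    have h5 := ((mem_V_iff D F).1 h4).1
    have h6 : b = 0 := by
      have : ∀ b : F4, F4.w * b + b = 0 → b = 0 := by decide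
      exact this b h5
    rw [h6, F.Y_zero, one_mul] at hbc
    have h7 : r ∈ V := by
      have h8 := hx.onV _ (F.Z_mem c)
      rw [← hbc, show x * (x⁻¹ * r * x) * x⁻¹ = r by group] at h8
      exact h8
    exact hr1 (inf_RV h hr h7)
  -- action on `V`
  have hpV : ∀ v ∈ V, p * v = v * p := fun v hv => D.cent p hp v hv
  obtain ⟨hh, hh0, hc | hc⟩ := act_V F (fun v hv => PGroup.normV h hmE hv)
  · obtain ⟨σ, hσA, hσR, hσc⟩ := lin_AC h F hm hh0 hc
    obtain ⟨v, hv, hxv⟩ := h.CV _ (mul_mem (le_N hσA) hm) hσc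
    obtain ⟨r, hrR, hr1⟩ := exists_r h
    have hmR : ∀ r ∈ R, m * r * m⁻¹ ∈ R := fun r hr => PGroup.normR h hmE hm hr
    have hact : ∀ r ∈ R, (σ * m * v) * r * (σ * m * v)⁻¹ = m * r * m⁻¹ := by
      intro r hr
      have h1 := comm_RV h hr hv
      have h2 := hσR _ (hmR r hr)
      calc (σ * m * v) * r * (σ * m * v)⁻¹ = σ * m * (v * r) * v⁻¹ * m⁻¹ * σ⁻¹ := by group
        _ = (σ * (m * r * m⁻¹)) * σ⁻¹ := by rw [← h1]; group
        _ = m * r * m⁻¹ := by rw [h2]; group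
    have h1 := hk _ hxv (mem_N_of fun r hr => by rw [hact r hr]; exact hmR r hr) r hrR
    apply hr r hrR hr1
    rw [← hact r hrR, h1]; group
  · -- `ρ' ^ 3 = 1`
    have h1 : ∀ c, ρ' * Z c * ρ'⁻¹ = Z (hh * F4.fr c) := by
      intro c
      have h2 := hpV _ (F.Z_mem (hh * F4.fr c))
      calc ρ' * Z c * ρ'⁻¹ = p * (m * Z c * m⁻¹) * p⁻¹ := by rw [hpm]; group
        _ = _ := by rw [hc, h2]; group
    have h3 : ρ' * (ρ' * (ρ' * Z F4.w * ρ'⁻¹) * ρ'⁻¹) * ρ'⁻¹ = Z F4.w := by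
      have h4 := ρ3' h (x⁻¹ * Z F4.w * x)
      calc ρ' * (ρ' * (ρ' * Z F4.w * ρ'⁻¹) * ρ'⁻¹) * ρ'⁻¹ =
            x * (ρ * (ρ * (ρ * (x⁻¹ * Z F4.w * x) * ρ⁻¹) * ρ⁻¹) * ρ⁻¹) * x⁻¹ := by rw [hρ']; group
        _ = Z F4.w := by rw [h4]; group
    have h3' : ρ' * (ρ' * (ρ' * Z F4.e * ρ'⁻¹) * ρ'⁻¹) * ρ'⁻¹ = Z F4.e := by
      have h4 := ρ3' h (x⁻¹ * Z F4.e * x)
      calc ρ' * (ρ' * (ρ' * Z F4.e * ρ'⁻¹) * ρ'⁻¹) * ρ'⁻¹ =
            x * (ρ * (ρ * (ρ * (x⁻¹ * Z F4.e * x) * ρ⁻¹) * ρ⁻¹) * ρ⁻¹) * x⁻¹ := by rw [hρ']; group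
        _ = Z F4.e := by rw [h4]; group
    rw [h1, h1, h1] at h3 h3'
    have h5 := F.Z_inj h3
    have h6 := F.Z_inj h3'
    have : ∀ hh : F4, hh * F4.fr (hh * F4.fr (hh * F4.fr F4.w)) = F4.w →
        hh * F4.fr (hh * F4.fr (hh * F4.fr F4.e)) = F4.e → False := by decide
    exact this hh h5 h6

end Cfsg.Agent.StdAlt.Five.SwapB

private theorem dce_874709981cc5 : _root_.True := by
  try have : _root_.True := by simp only [_root_.Cfsg.Agent.StdAlt.Five.SwapB.Sw.congr_simp]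
  exact _root_.True.intro
end

-- part: StdAlt/Five/SwapC
section
prune_inst 0xc010420010221000001800002000002010000002004300012100030202400001a0440600382022100100047028080060031800090228000020000a00400400000000440082480108000000008000000000000000000000000000000000000000000000000
set_option linter.all false
open scoped Cfsg.Agent.FastGrp

/-!
# S1766, n = 5, case (I): normal form of the swap
-/

set_option autoImplicit false

namespace Cfsg.Agent.StdAlt.Five.SwapC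

open Subgroup Cfsg.Agent.StdAlt.Conj Cfsg.Agent.J2Sylow.Model Cfsg.Agent.StdAlt.Five
open Cfsg.Agent.StdAlt.Five.Sec4 Cfsg.Agent.StdAlt.Five.PGroup Cfsg.Agent.StdAlt.Five.PExists
open Cfsg.Agent.StdAlt.Five.PData Cfsg.Agent.StdAlt.Five.Coord Cfsg.Agent.StdAlt.Five.Moves
open Cfsg.Agent.StdAlt.Five.Mu Cfsg.Agent.StdAlt.Five.SylA Cfsg.Agent.StdAlt.Five.SwapA
open Cfsg.Agent.StdAlt.Five.SwapB

variable {G : Type*} [Group G] {A R V P : Subgroup G} {ρ g s : G} {X Y Z : F4 → G}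

/-! ### the group generated by the odd elements of `C_G(E)` -/

/-- generated by the elements of odd order of `C_G(E)` -/
def DD (R V : Subgroup G) : Subgroup G := Subgroup.closure (Od R V)

theorem Od_DD {d : G} (hd : d ∈ Od R V) : d ∈ DD R V := Subgroup.subset_closure hd

theorem DD_P {h : OddE A R V ρ g} (hP : IsP h P) {d p : G} (hd : d ∈ DD R V) (hp : p ∈ P) :
    p * d = d * p := by
  have h1 : DD R V ≤ centralizer (P : Set G) := by
    rw [DD, Subgroup.closure_le]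
    intro d hd
    exact mem_centralizer_iff.2 fun p hp => Od_P hP hd hp
  exact mem_centralizer_iff.1 (h1 hd) p hp

theorem DD_A (h : OddE A R V ρ g) {d : G} (hd : d ∈ DD R V) : d ∈ C A := by
  have h1 : DD R V ≤ C A := by
    rw [DD, Subgroup.closure_le]
    intro d hd
    exact Od_A h hd
  exact h1 hd

theorem DD_inf {h : OddE A R V ρ g} (hP : IsP h P) {ε : F4} (D : Data R V P ρ) (F : Frame R V P ρ ε X Y Z)
    {d : G} (hd : d ∈ DD R V) (hdP : d ∈ P) : d = 1 := by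
  obtain ⟨b, a, c, rfl⟩ := F.P_surj d hdP
  have h1 := DD_P hP hd (D.R_le (F.X_mem F4.e))
  have h2 := DD_P hP hd (F.Y_mem F4.e)
  have h3 : F4.e * b = 0 := by
    apply comm_coord D F (a := a) (c := c) (c' := 0)
    rw [F.Z_zero, mul_one]
    exact h1.symm
  have hb : b = 0 := by
    rw [show F4.e * b = b from one_mul b] at h3
    exact h3
  have h4 := comm_Y D F b a c
  rw [h2, ] at h4
  have h5 : Z a = 1 := mul_eq_right.1 h4.symm
  have ha : a = 0 := F.Z_inj (by rw [h5, F.Z_zero])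
  rw [hb, ha, F.Y_zero, F.X_zero, one_mul, one_mul] at hd ⊢
  exact h.te.disj _ (h.V_le (F.Z_mem c)) (DD_A h hd)

/-- `N P` normalizes `DD` -/
theorem DD_conj [Finite G] {h : OddE A R V ρ g} (hP : IsP h P) {n : G} (hn : n ∈ N P) {d : G}
    (hd : d ∈ DD R V) : n * d * n⁻¹ ∈ DD R V := by
  have h1 : DD R V ≤ (DD R V).comap (MulAut.conj n).toMonoidHom := by
    conv_lhs => rw [DD]
    rw [Subgroup.closure_le]
    intro d hd
    show n * d * n⁻¹ ∈ DD R V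
    refine Od_DD ⟨⟨fun r hr => ?_, fun v hv => ?_⟩, by rw [orderOf_conj']; exact hd.2⟩
    · have h2 := Od_P hP hd (conj_mem' hn (E_le hP (mem_sup_left hr)))
      calc n * d * n⁻¹ * r = n * (d * (n⁻¹ * r * n)) * n⁻¹ := by group
        _ = r * (n * d * n⁻¹) := by rw [← h2]; group
    · have h2 := Od_P hP hd (conj_mem' hn (E_le hP (mem_sup_right hv)))
      calc n * d * n⁻¹ * v = n * (d * (n⁻¹ * v * n)) * n⁻¹ := by group
        _ = v * (n * d * n⁻¹) := by rw [← h2]; group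
  exact h1 hd

/-- congruence modulo `DD` -/
def Cg (R V : Subgroup G) (x y : G) : Prop := ∃ d ∈ DD R V, x = d * y

theorem Cg.refl (x : G) : Cg R V x x := ⟨1, one_mem _, by rw [one_mul]⟩

theorem Cg.symm {x y : G} (hxy : Cg R V x y) : Cg R V y x := by
  obtain ⟨d, hd, rfl⟩ := hxy
  exact ⟨d⁻¹, Subgroup.inv_mem _ hd, by group⟩

theorem Cg.trans {x y z : G} (hxy : Cg R V x y) (hyz : Cg R V y z) : Cg R V x z := by
  obtain ⟨d, hd, rfl⟩ := hxy
  obtain ⟨d', hd', rfl⟩ := hyz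
  exact ⟨d * d', mul_mem hd hd', by group⟩

theorem Cg.conj [Finite G] {h : OddE A R V ρ g} (hP : IsP h P) {n : G} (hn : n ∈ N P) {x y : G}
    (hxy : Cg R V x y) : Cg R V (n * x * n⁻¹) (n * y * n⁻¹) := by
  obtain ⟨d, hd, rfl⟩ := hxy
  exact ⟨n * d * n⁻¹, DD_conj hP hn hd, by group⟩

theorem Cg.inv [Finite G] {h : OddE A R V ρ g} (hP : IsP h P) {x y : G} (hy : y ∈ N P)
    (hxy : Cg R V x y) : Cg R V x⁻¹ y⁻¹ := by
  obtain ⟨d, hd, rfl⟩ := hxy
  exact ⟨y⁻¹ * d⁻¹ * y⁻¹⁻¹, DD_conj hP (Subgroup.inv_mem _ hy) (Subgroup.inv_mem _ hd), by group⟩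

theorem Cg.conj_inv [Finite G] {h : OddE A R V ρ g} (hP : IsP h P) {n : G} (hn : n ∈ N P) {x y : G}
    (hy : y ∈ N P) (hxy : Cg R V (n * x * n⁻¹) y) : Cg R V (n * x⁻¹ * n⁻¹) y⁻¹ := by
  have := hxy.inv hP hy
  rwa [show (n * x * n⁻¹)⁻¹ = n * x⁻¹ * n⁻¹ by group] at this

/-! ### linear elements -/

/-- `n` acts on `X`, `Y` modulo `V` and on `V` by scalars -/
structure Acts (X Y Z : F4 → G) (n : G) (x y z : F4) : Prop where
  onX : ∀ a, ∃ c, n * X a * n⁻¹ = X (x * a) * Z c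
  onY : ∀ a, ∃ c, n * Y a * n⁻¹ = Y (y * a) * Z c
  onZ : ∀ a, n * Z a * n⁻¹ = Z (z * a)

section acts

variable {ε : F4} {n n' : G} {x y z x' y' z' : F4}

theorem Acts.mul (F : Frame R V P ρ ε X Y Z) (hn : Acts X Y Z n x y z) (hn' : Acts X Y Z n' x' y' z') :
    Acts X Y Z (n * n') (x * x') (y * y') (z * z') where
  onX := by
    intro a
    obtain ⟨c', h1⟩ := hn'.onX a
    obtain ⟨c, h2⟩ := hn.onX (x' * a)
    refine ⟨c + z * c', ?_⟩
    rw [show n * n' * X a * (n * n')⁻¹ = n * (n' * X a * n'⁻¹) * n⁻¹ by group, h1, conj_mul', h2, hn.onZ,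
      mul_assoc, ← F.Z_add, mul_assoc]
  onY := by
    intro a
    obtain ⟨c', h1⟩ := hn'.onY a
    obtain ⟨c, h2⟩ := hn.onY (y' * a)
    refine ⟨c + z * c', ?_⟩
    rw [show n * n' * Y a * (n * n')⁻¹ = n * (n' * Y a * n'⁻¹) * n⁻¹ by group, h1, conj_mul', h2, hn.onZ,
      mul_assoc, ← F.Z_add, mul_assoc]
  onZ := by
    intro a
    rw [show n * n' * Z a * (n * n')⁻¹ = n * (n' * Z a * n'⁻¹) * n⁻¹ by group, hn'.onZ, hn.onZ, mul_assoc]

theorem Acts.inv (F : Frame R V P ρ ε X Y Z) (hn : Acts X Y Z n x y z) (hx : x * x' = 1) (hy : y * y' = 1)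
    (hz : z * z' = 1) : Acts X Y Z n⁻¹ x' y' z' where
  onX := by
    intro a
    obtain ⟨c, h1⟩ := hn.onX (x' * a)
    have h2 := hn.onZ (z' * c)
    rw [← mul_assoc, hx, one_mul] at h1
    rw [← mul_assoc, hz, one_mul] at h2
    refine ⟨z' * c, ?_⟩
    have h3 : Z c * Z c = 1 := by rw [← F.Z_add, F4.add_self, F.Z_zero]
    have h4 : n * (X (x' * a) * Z (z' * c)) * n⁻¹ = X a := by
      rw [conj_mul', h1, h2, mul_assoc, h3, mul_one]
    rw [← h4]; group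
  onY := by
    intro a
    obtain ⟨c, h1⟩ := hn.onY (y' * a)
    have h2 := hn.onZ (z' * c)
    rw [← mul_assoc, hy, one_mul] at h1
    rw [← mul_assoc, hz, one_mul] at h2
    refine ⟨z' * c, ?_⟩
    have h3 : Z c * Z c = 1 := by rw [← F.Z_add, F4.add_self, F.Z_zero]
    have h4 : n * (Y (y' * a) * Z (z' * c)) * n⁻¹ = Y a := by
      rw [conj_mul', h1, h2, mul_assoc, h3, mul_one]
    rw [← h4]; group
  onZ := by
    intro a
    have h2 := hn.onZ (z' * a)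
    rw [← mul_assoc, hz, one_mul] at h2
    rw [← h2]; group

theorem Acts.NE [Finite G] (h : OddE A R V ρ g) (F : Frame R V P ρ ε X Y Z) (hn : Acts X Y Z n x y z) :
    n ∈ N (R ⊔ V) := by
  refine mem_N_of fun e he => ?_
  obtain ⟨r, hr, v, hv, rfl⟩ := (mem_E h).1 he
  obtain ⟨a, rfl⟩ := F.X_surj r hr
  obtain ⟨c, rfl⟩ := F.Z_surj v hv
  obtain ⟨c', h1⟩ := hn.onX a
  rw [conj_mul', h1, hn.onZ]
  exact mul_mem (mul_mem (mem_sup_left (F.X_mem _)) (mem_sup_right (F.Z_mem _))) (mem_sup_right (F.Z_mem _))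

theorem Acts.NP [Finite G] (D : Data R V P ρ) (F : Frame R V P ρ ε X Y Z) (hn : Acts X Y Z n x y z) :
    n ∈ N P := by
  refine mem_N_of fun p hp => ?_
  obtain ⟨b, a, c, rfl⟩ := F.P_surj p hp
  obtain ⟨c', h1⟩ := hn.onX a
  obtain ⟨c'', h2⟩ := hn.onY b
  rw [conj_mul', conj_mul', h1, h2, hn.onZ]
  exact P.mul_mem (P.mul_mem (P.mul_mem (F.Y_mem _) (D.B_le (F.Z_mem _)))
    (P.mul_mem (D.R_le (F.X_mem _)) (D.B_le (F.Z_mem _)))) (D.B_le (F.Z_mem _))

/-- an element acting trivially is in `P * Od` -/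
theorem Acts.fact [Finite G] {h : OddE A R V ρ g} (hP : IsP h P) (F : Frame R V P ρ ε X Y Z)
    (hn : Acts X Y Z n x y z) (hx : x = 1) (hz : z = 1) : ∃ p ∈ P, ∃ d ∈ Od R V, n = p * d := by
  subst hx hz
  refine W0_fact hP ⟨hn.NE h F, fun v hv => ?_, fun r hr => ?_⟩
  · obtain ⟨c, rfl⟩ := F.Z_surj v hv
    have h1 := hn.onZ c
    rw [one_mul] at h1
    calc n * Z c = (n * Z c * n⁻¹) * n := by group
      _ = Z c * n := by rw [h1]
  · obtain ⟨a, rfl⟩ := F.X_surj r hr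
    obtain ⟨c, h1⟩ := hn.onX a
    have h2 := comm_RV h (F.X_mem a) (F.Z_mem c)
    rw [h1, one_mul, h2, mul_inv_cancel_right]
    exact F.Z_mem c

theorem Acts.rho (F : Frame R V P ρ ε X Y Z) : Acts X Y Z ρ 1 F4.w F4.w where
  onX := fun a => ⟨0, by rw [F.ρX, F.Z_zero, mul_one, one_mul]⟩
  onY := fun a => ⟨0, by rw [F.ρY, F.Z_zero, mul_one]⟩
  onZ := fun a => F.ρZ a

theorem Acts.rho0 (h : OddE A R V ρ g) (F : Frame R V P ρ ε X Y Z) {ρ₀ : G} (K : Kap3 A X Y ρ₀) :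
    Acts X Y Z ρ₀ F4.w F4.u 1 where
  onX := fun a => ⟨0, by rw [K.conjX, F.Z_zero, mul_one]⟩
  onY := fun a => ⟨0, by rw [K.conjY, F.Z_zero, mul_one]⟩
  onZ := fun a => by rw [Base.CA_V h K.mem (F.Z_mem a), one_mul]

end acts

/-! ### the action of a swap -/

/-- the identity or the Frobenius -/
structure IsAut (σ : F4 → F4) : Prop where
  eq : σ = id ∨ σ = F4.fr

namespace IsAut

variable {σ : F4 → F4} (hσ : IsAut σ)
include hσ

theorem mul (a b : F4) : σ (a * b) = σ a * σ b := by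
  rcases hσ.eq with rfl | rfl
  · rfl
  · exact F4.fr_mul a b

theorem add (a b : F4) : σ (a + b) = σ a + σ b := by
  rcases hσ.eq with rfl | rfl
  · rfl
  · exact F4.fr_add a b

theorem one : σ 1 = 1 := by
  rcases hσ.eq with rfl | rfl <;> rfl

theorem invol (a : F4) : σ (σ a) = a := by
  rcases hσ.eq with rfl | rfl
  · rfl
  · exact F4.fr_fr a

theorem ne_zero {a : F4} (ha : a ≠ 0) : σ a ≠ 0 := by
  rcases hσ.eq with rfl | rfl
  · exact ha
  · have : ∀ a : F4, a ≠ 0 → F4.fr a ≠ 0 := by decide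
    exact this a ha

theorem surj {f : F4} (hf : f ≠ 0) (a : F4) : ∃ b, f * σ b = a := by
  rcases hσ.eq with rfl | rfl
  · have : ∀ f a : F4, f ≠ 0 → ∃ b, f * id b = a := by decide
    exact this f a hf
  · have : ∀ f a : F4, f ≠ 0 → ∃ b, f * F4.fr b = a := by decide
    exact this f a hf

end IsAut

/-- the action of a swap -/
structure ActSw (X Y Z : F4 → G) (τ : G) (f l : F4) (σ : F4 → F4) : Prop where
  aut : IsAut σ
  f0 : f ≠ 0
  l0 : l ≠ 0
  onX : ∀ a, ∃ c, τ * X a * τ⁻¹ = Y (f * σ a) * Z c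
  onY : ∀ a, ∃ c, τ * Y a * τ⁻¹ = X (l * σ a) * Z c
  onZ : ∀ a, τ * Z a * τ⁻¹ = Z (f * l * σ a)

/-- additive bijections of `F4` -/
theorem additive_cases {θ : F4 → F4} (hadd : ∀ a b, θ (a + b) = θ a + θ b) (hker : ∀ a, θ a = 0 → a = 0) :
    ∃ f, f ≠ 0 ∧ ((∀ a, θ a = f * a) ∨ ∀ a, θ a = f * F4.fr a) := by
  have h0 : θ 0 = 0 := by
    have h1 := hadd 0 0
    rw [add_zero] at h1
    rw [h1, F4.add_self]
  have hp : θ F4.e ≠ 0 := fun e => absurd (hker _ e) (by decide)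
  have hq : θ F4.w ≠ 0 := fun e => absurd (hker _ e) (by decide)
  have hr : θ F4.u ≠ 0 := fun e => absurd (hker _ e) (by decide)
  have hu : θ F4.u = θ F4.e + θ F4.w := by
    rw [← hadd]; rfl
  rw [hu] at hr
  have key : ∀ p q : F4, p ≠ 0 → q ≠ 0 → p + q ≠ 0 →
      ((q = p * F4.w ∧ p + q = p * F4.u) ∨ (q = p * F4.fr F4.w ∧ p + q = p * F4.fr F4.u)) := by decide
  refine ⟨θ F4.e, hp, ?_⟩
  rcases key _ _ hp hq hr with ⟨e1, e2⟩ | ⟨e1, e2⟩
  · left
    intro c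
    cases c
    · change θ 0 = _ * 0
      rw [h0, mul_zero]
    · exact (mul_one _).symm
    · exact e1
    · rw [hu]; exact e2
  · right
    intro c
    cases c
    · change θ 0 = _ * 0
      rw [h0, mul_zero]
    · exact (mul_one _).symm
    · exact e1
    · rw [hu]; exact e2

section

variable (D : Data R V P ρ) (F : Frame R V P ρ 0 X Y Z)
include D F

theorem actSw {τ : G} (hτ : Sw D F τ) (hO : OddE A R V ρ g) : ∃ f l σ, ActSw X Y Z τ f l σ := by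
  have hX : ∀ a, ∃ b c, τ * X a * τ⁻¹ = Y b * Z c := fun a => hτ.onE _ (mem_sup_left (F.X_mem a))
  have hY : ∀ a, ∃ b c, τ * Y a * τ⁻¹ = X b * Z c := by
    intro a
    obtain ⟨r, hr, v, hv, e⟩ := (mem_E hO).1 (hτ.onE' _ ⟨a, 0, by rw [F.Z_zero, mul_one]⟩)
    obtain ⟨b, rfl⟩ := F.X_surj r hr
    obtain ⟨c, rfl⟩ := F.Z_surj v hv
    exact ⟨b, c, e⟩
  have hZ : ∀ a, ∃ c, τ * Z a * τ⁻¹ = Z c := by
    intro a
    obtain ⟨c, e⟩ := F.Z_surj _ (hτ.onV _ (F.Z_mem a))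
    exact ⟨c, e.symm⟩
  choose θ θ' hθ using hX
  choose φ φ' hφ using hY
  choose γ hγ using hZ
  have hEinj : ∀ {a c a' c' : F4}, X a * Z c = X a' * Z c' → a = a' ∧ c = c' := by
    intro a c a' c' e
    have := F.inj a 0 c a' 0 c' (by rw [F.Y_zero, one_mul, one_mul]; exact e)
    exact ⟨this.2.1, this.2.2⟩
  have hinj : ∀ x y : G, τ * x * τ⁻¹ = τ * y * τ⁻¹ → x = y := fun x y e =>
    mul_left_cancel (mul_right_cancel e)
  -- additivity
  have addθ : ∀ a b, θ (a + b) = θ a + θ b := by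
    intro a b
    have h1 := hθ (a + b)
    rw [F.X_add, conj_mul', hθ, hθ, mulE2 D F] at h1
    exact (E2_inj D F h1).1.symm
  have addγ : ∀ a b, γ (a + b) = γ a + γ b := by
    intro a b
    have h1 := hγ (a + b)
    rw [F.Z_add, conj_mul', hγ, hγ, ← F.Z_add] at h1
    exact (F.Z_inj h1).symm
  have addφ : ∀ a b, φ (a + b) = φ a + φ b := by
    intro a b
    have h1 := hφ (a + b)
    have h2 := F.Y_mul a b
    rw [zero_mul, F.Z_zero, mul_one] at h2
    rw [← h2, conj_mul', hφ, hφ] at h1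
    have h3 := ZX D F (φ' a) (φ b)
    have h4 : X (φ a) * Z (φ' a) * (X (φ b) * Z (φ' b)) = X (φ a + φ b) * Z (φ' a + φ' b) := by
      calc X (φ a) * Z (φ' a) * (X (φ b) * Z (φ' b)) = X (φ a) * (Z (φ' a) * X (φ b)) * Z (φ' b) := by group
        _ = (X (φ a) * X (φ b)) * (Z (φ' a) * Z (φ' b)) := by rw [h3]; group
        _ = _ := by rw [← F.X_add, ← F.Z_add]
    rw [h4] at h1
    exact (hEinj h1).1.symm
  -- kernels
  have hVmem : ∀ c, ∃ c', Z c = τ * Z c' * τ⁻¹ := by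
    haveI : Finite V := Nat.finite_of_card_ne_zero (by rw [D.cardB]; norm_num)
    have hf : Function.Injective (fun v : V => (⟨τ * v * τ⁻¹, hτ.onV v v.2⟩ : V)) := by
      intro v w e
      exact Subtype.ext (hinj _ _ (congrArg (fun t : V => (t : G)) e))
    obtain hs := Finite.surjective_of_injective hf
    intro c
    obtain ⟨⟨v, hv⟩, e⟩ := hs ⟨Z c, F.Z_mem c⟩
    obtain ⟨c', rfl⟩ := F.Z_surj v hv
    exact ⟨c', (congrArg (fun t : V => (t : G)) e).symm⟩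
  have kerθ : ∀ a, θ a = 0 → a = 0 := by
    intro a ha
    have h1 := hθ a
    rw [ha, F.Y_zero, one_mul] at h1
    obtain ⟨c', hc'⟩ := hVmem (θ' a)
    rw [hc'] at h1
    have h2 := hinj _ _ h1
    have h3 : X a * Z 0 = X 0 * Z c' := by rw [F.Z_zero, F.X_zero, mul_one, one_mul]; exact h2
    exact (hEinj h3).1
  have kerφ : ∀ a, φ a = 0 → a = 0 := by
    intro a ha
    have h1 := hφ a
    rw [ha, F.X_zero, one_mul] at h1
    obtain ⟨c', hc'⟩ := hVmem (φ' a)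
    rw [hc'] at h1
    have h2 := hinj _ _ h1
    have h3 : Y a * Z 0 = Y 0 * Z c' := by rw [F.Z_zero, F.Y_zero, mul_one, one_mul]; exact h2
    exact (E2_inj D F h3).1
  have kerγ : ∀ a, γ a = 0 → a = 0 := by
    intro a ha
    have h1 := hγ a
    rw [ha, F.Z_zero] at h1
    apply F.Z_inj
    rw [F.Z_zero]
    apply hinj
    rw [h1]; group
  -- the relation
  have hrel : ∀ a b, γ (a * b) = θ a * φ b := by
    intro a b
    have h1 : τ * (X a * Y b) * τ⁻¹ = τ * (Y b * X a * Z (a * b)) * τ⁻¹ := by rw [F.X_Y]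
    rw [conj_mul', conj_mul', conj_mul', hθ, hφ, hγ] at h1
    have h2 : Y (θ a) * Z (θ' a) = Y (θ a) * X 0 * Z (θ' a) := by rw [F.X_zero, mul_one]
    have h3 : X (φ b) * Z (φ' b) = Y 0 * X (φ b) * Z (φ' b) := by rw [F.Y_zero, one_mul]
    rw [h2, h3, P_mul D F, P_mul D F, mul_assoc _ _ (Z (γ (a * b))), ← F.Z_add] at h1
    have h4 := (F.inj _ _ _ _ _ _ h1).2.2
    have key : ∀ p q r t u : F4, 0 * F4.fr (r * 0) + 0 * 0 + (p + q) =
        0 * F4.fr (0 * r) + t * r + (q + p) + u → u = r * t := by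
      intro p q r t u e
      rw [zero_mul, zero_mul, zero_mul, zero_add, zero_add, zero_add, add_comm q p] at e
      have e2 : (t * r + (p + q)) + (p + q) = t * r := by
        rw [add_assoc, F4.add_self, add_zero]
      have e3 : t * r + u = 0 := by
        have e4 : (t * r + (p + q) + u) + (p + q) = 0 := by rw [← e, F4.add_self]
        calc t * r + u = ((t * r + (p + q)) + (p + q)) + u := by rw [e2]
          _ = (t * r + (p + q) + u) + (p + q) := by ring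
          _ = 0 := e4
      calc u = t * r + (t * r + u) := by rw [← add_assoc, F4.add_self, zero_add]
        _ = r * t := by rw [e3, add_zero, mul_comm]
    exact key _ _ _ _ _ h4
  obtain ⟨f, hf0, hf⟩ := additive_cases addθ kerθ
  obtain ⟨l, hl0, hl⟩ := additive_cases addφ kerφ
  obtain ⟨m, hm0, hm⟩ := additive_cases addγ kerγ
  have r1 := hrel F4.e F4.e
  have r2 := hrel F4.e F4.w
  have r3 := hrel F4.w F4.e
  rcases hf with hf | hf <;> rcases hl with hl | hl <;> rcases hm with hm | hm <;>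
    rw [hf, hl, hm] at r1 r2 r3
  · refine ⟨f, l, id, ⟨Or.inl rfl⟩, hf0, hl0, fun a => ⟨θ' a, by rw [hθ, hf]; rfl⟩,
      fun a => ⟨φ' a, by rw [hφ, hl]; rfl⟩, fun a => ?_⟩
    rw [hγ, hm]
    congr 1
    have : ∀ m f l a : F4, m * (F4.e * F4.e) = f * F4.e * (l * F4.e) → m * a = f * l * id a := by decide
    exact this m f l a r1
  · exfalso
    have : ∀ m f l : F4, f ≠ 0 → l ≠ 0 → m * F4.fr (F4.e * F4.e) = f * F4.e * (l * F4.e) →
      m * F4.fr (F4.e * F4.w) = f * F4.e * (l * F4.w) → False := by decide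
    exact this m f l hf0 hl0 r1 r2
  · exfalso
    have : ∀ m f l : F4, f ≠ 0 → l ≠ 0 → m * (F4.e * F4.e) = f * F4.e * (l * F4.fr F4.e) →
      m * (F4.e * F4.w) = f * F4.e * (l * F4.fr F4.w) → False := by decide
    exact this m f l hf0 hl0 r1 r2
  · exfalso
    have : ∀ m f l : F4, f ≠ 0 → l ≠ 0 → m * F4.fr (F4.e * F4.e) = f * F4.e * (l * F4.fr F4.e) →
      m * F4.fr (F4.w * F4.e) = f * F4.w * (l * F4.fr F4.e) → False := by decide
    exact this m f l hf0 hl0 r1 r3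
  · exfalso
    have : ∀ m f l : F4, f ≠ 0 → l ≠ 0 → m * (F4.e * F4.e) = f * F4.fr F4.e * (l * F4.e) →
      m * (F4.w * F4.e) = f * F4.fr F4.w * (l * F4.e) → False := by decide
    exact this m f l hf0 hl0 r1 r3
  · exfalso
    have : ∀ m f l : F4, f ≠ 0 → l ≠ 0 → m * F4.fr (F4.e * F4.e) = f * F4.fr F4.e * (l * F4.e) →
      m * F4.fr (F4.e * F4.w) = f * F4.fr F4.e * (l * F4.w) → False := by decide
    exact this m f l hf0 hl0 r1 r2
  · exfalso
    have : ∀ m f l : F4, f ≠ 0 → l ≠ 0 → m * (F4.e * F4.e) = f * F4.fr F4.e * (l * F4.fr F4.e) →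
      m * (F4.e * F4.w) = f * F4.fr F4.e * (l * F4.fr F4.w) → False := by decide
    exact this m f l hf0 hl0 r1 r2
  · refine ⟨f, l, F4.fr, ⟨Or.inr rfl⟩, hf0, hl0, fun a => ⟨θ' a, by rw [hθ, hf]⟩,
      fun a => ⟨φ' a, by rw [hφ, hl]⟩, fun a => ?_⟩
    rw [hγ, hm]
    congr 1
    have : ∀ m f l a : F4, m * F4.fr (F4.e * F4.e) = f * F4.fr F4.e * (l * F4.fr F4.e) →
      m * F4.fr a = f * l * F4.fr a := by decide
    exact this m f l a r1

/-- `P` acts trivially modulo `V` -/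
theorem P_conj {p : G} (hp : p ∈ P) {q : G} (hq : q ∈ P) : ∃ c, p * q * p⁻¹ = q * Z c := by
  obtain ⟨c, hc⟩ := F.Z_surj _ (D.sqcomm hp hq)
  refine ⟨c, ?_⟩
  have h1 := ZP D F c hq
  rw [← h1, hc]; group

theorem ActSw.mulP {τ p : G} {f l : F4} {σ : F4 → F4} (hτ : ActSw X Y Z τ f l σ) (hp : p ∈ P) :
    ActSw X Y Z (p * τ) f l σ where
  aut := hτ.aut
  f0 := hτ.f0
  l0 := hτ.l0
  onX := by
    intro a
    obtain ⟨c, h1⟩ := hτ.onX a
    obtain ⟨c', h2⟩ := P_conj D F hp (P.mul_mem (F.Y_mem (f * σ a)) (D.B_le (F.Z_mem c)))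
    exact ⟨c + c', by
      rw [show p * τ * X a * (p * τ)⁻¹ = p * (τ * X a * τ⁻¹) * p⁻¹ by group, h1, h2, mul_assoc, F.Z_add]⟩
  onY := by
    intro a
    obtain ⟨c, h1⟩ := hτ.onY a
    obtain ⟨c', h2⟩ := P_conj D F hp (P.mul_mem (D.R_le (F.X_mem (l * σ a))) (D.B_le (F.Z_mem c)))
    exact ⟨c + c', by
      rw [show p * τ * Y a * (p * τ)⁻¹ = p * (τ * Y a * τ⁻¹) * p⁻¹ by group, h1, h2, mul_assoc, F.Z_add]⟩
  onZ := by
    intro a
    rw [show p * τ * Z a * (p * τ)⁻¹ = p * (τ * Z a * τ⁻¹) * p⁻¹ by group, hτ.onZ, ← ZP D F _ hp]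
    group

omit D in
/-- conjugating a linear element by a swap -/
theorem Acts.sw {τ n : G} {f l x y z : F4} {σ : F4 → F4} (hn : Acts X Y Z n x y z)
    (hτ : ActSw X Y Z τ f l σ) : Acts X Y Z (τ * n * τ⁻¹) (σ y) (σ x) (σ z) where
  onX := by
    intro a
    obtain ⟨b, hb⟩ := hτ.aut.surj hτ.l0 a
    obtain ⟨c, h1⟩ := hτ.onY b
    obtain ⟨c1, h2⟩ := hn.onY b
    obtain ⟨c2, h3⟩ := hτ.onY (y * b)
    rw [hb] at h1
    have h4 : ∀ e, (τ * n * τ⁻¹) * Z e * (τ * n * τ⁻¹)⁻¹ ∈ Set.range Z := by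
      intro e
      obtain ⟨e', he'⟩ := hτ.aut.surj (f := f * l) (by
        have : ∀ f l : F4, f ≠ 0 → l ≠ 0 → f * l ≠ 0 := by decide
        exact this f l hτ.f0 hτ.l0) e
      refine ⟨f * l * σ (z * e'), ?_⟩
      rw [← he', ← hτ.onZ e', show (τ * n * τ⁻¹) * (τ * Z e' * τ⁻¹) * (τ * n * τ⁻¹)⁻¹ =
        τ * (n * Z e' * n⁻¹) * τ⁻¹ by group, hn.onZ, hτ.onZ]
    obtain ⟨c3, h5⟩ := h4 c
    have h6 : (τ * n * τ⁻¹) * (X a * Z c) * (τ * n * τ⁻¹)⁻¹ = X (σ y * a) * Z (c2 + f * l * σ c1) := by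
      rw [← h1, show (τ * n * τ⁻¹) * (τ * Y b * τ⁻¹) * (τ * n * τ⁻¹)⁻¹ =
        τ * (n * Y b * n⁻¹) * τ⁻¹ by group, h2, conj_mul', h3, hτ.onZ, mul_assoc, ← F.Z_add]
      congr 2
      rw [hτ.aut.mul, ← hb]; ring
    rw [conj_mul', ← h5] at h6
    refine ⟨c2 + f * l * σ c1 + c3, ?_⟩
    have h7 : Z c3 * Z c3 = 1 := by rw [← F.Z_add, F4.add_self, F.Z_zero]
    rw [F.Z_add, ← mul_assoc, ← h6, mul_assoc _ (Z c3), h7, mul_one]
  onY := by
    intro a
    obtain ⟨b, hb⟩ := hτ.aut.surj hτ.f0 a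
    obtain ⟨c, h1⟩ := hτ.onX b
    obtain ⟨c1, h2⟩ := hn.onX b
    obtain ⟨c2, h3⟩ := hτ.onX (x * b)
    rw [hb] at h1
    have h4 : ∀ e, (τ * n * τ⁻¹) * Z e * (τ * n * τ⁻¹)⁻¹ ∈ Set.range Z := by
      intro e
      obtain ⟨e', he'⟩ := hτ.aut.surj (f := f * l) (by
        have : ∀ f l : F4, f ≠ 0 → l ≠ 0 → f * l ≠ 0 := by decide
        exact this f l hτ.f0 hτ.l0) e
      refine ⟨f * l * σ (z * e'), ?_⟩
      rw [← he', ← hτ.onZ e', show (τ * n * τ⁻¹) * (τ * Z e' * τ⁻¹) * (τ * n * τ⁻¹)⁻¹ =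
        τ * (n * Z e' * n⁻¹) * τ⁻¹ by group, hn.onZ, hτ.onZ]
    obtain ⟨c3, h5⟩ := h4 c
    have h6 : (τ * n * τ⁻¹) * (Y a * Z c) * (τ * n * τ⁻¹)⁻¹ = Y (σ x * a) * Z (c2 + f * l * σ c1) := by
      rw [← h1, show (τ * n * τ⁻¹) * (τ * X b * τ⁻¹) * (τ * n * τ⁻¹)⁻¹ =
        τ * (n * X b * n⁻¹) * τ⁻¹ by group, h2, conj_mul', h3, hτ.onZ, mul_assoc, ← F.Z_add]
      congr 2
      rw [hτ.aut.mul, ← hb]; ring
    rw [conj_mul', ← h5] at h6
    refine ⟨c2 + f * l * σ c1 + c3, ?_⟩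
    have h7 : Z c3 * Z c3 = 1 := by rw [← F.Z_add, F4.add_self, F.Z_zero]
    rw [F.Z_add, ← mul_assoc, ← h6, mul_assoc _ (Z c3), h7, mul_one]
  onZ := by
    intro e
    obtain ⟨e', he'⟩ := hτ.aut.surj (f := f * l) (by
      have : ∀ f l : F4, f ≠ 0 → l ≠ 0 → f * l ≠ 0 := by decide
      exact this f l hτ.f0 hτ.l0) e
    rw [← he', ← hτ.onZ e', show (τ * n * τ⁻¹) * (τ * Z e' * τ⁻¹) * (τ * n * τ⁻¹)⁻¹ =
      τ * (n * Z e' * n⁻¹) * τ⁻¹ by group, hn.onZ, hτ.onZ]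
    congr 1
    rw [hτ.aut.mul]; ring

end

end Cfsg.Agent.StdAlt.Five.SwapC

private theorem dce_a2d5dea5b944 : _root_.True := by
  try have : _root_.True := by simp only [_root_.Cfsg.Agent.StdAlt.Five.SwapC.DD.eq_1]
  exact _root_.True.intro
end

-- part: StdAlt/Five/SwapD
section
set_option linter.all false
open scoped Cfsg.Agent.FastGrp

/-!
# S1766, n = 5, case (I): normal form of the swap, conclusion
-/

set_option autoImplicit false

namespace Cfsg.Agent.StdAlt.Five.SwapD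

open Subgroup Cfsg.Agent.StdAlt.Conj Cfsg.Agent.J2Sylow.Model Cfsg.Agent.StdAlt.Five
open Cfsg.Agent.StdAlt.Five.Sec4 Cfsg.Agent.StdAlt.Five.PGroup Cfsg.Agent.StdAlt.Five.PExists
open Cfsg.Agent.StdAlt.Five.PData Cfsg.Agent.StdAlt.Five.Coord Cfsg.Agent.StdAlt.Five.Moves
open Cfsg.Agent.StdAlt.Five.Mu Cfsg.Agent.StdAlt.Five.SylA Cfsg.Agent.StdAlt.Five.SwapA
open Cfsg.Agent.StdAlt.Five.SwapB Cfsg.Agent.StdAlt.Five.SwapC

variable {G : Type*} [Group G] {A R V P : Subgroup G} {ρ g s : G} {X Y Z : F4 → G}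

section

variable {h : OddE A R V ρ g} (hP : IsP h P) (F : Frame R V P ρ 0 X Y Z) {ρ₀ : G} (K : Kap3 A X Y ρ₀)

section
include h F K

theorem act_zt : Acts X Y Z (ρ⁻¹ * ρ₀) F4.w F4.w F4.u :=
  ((Acts.rho F).inv F (x' := 1) (y' := F4.u) (z' := F4.u) rfl rfl rfl).mul F (Acts.rho0 h F K)

theorem act_zt' : Acts X Y Z (ρ⁻¹ * ρ₀)⁻¹ F4.u F4.u F4.w :=
  (act_zt (h := h) F K).inv F rfl rfl rfl

theorem act_om : Acts X Y Z (ρ * ρ₀) F4.w 1 F4.w := (Acts.rho F).mul F (Acts.rho0 h F K)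

theorem act_om' : Acts X Y Z (ρ * ρ₀)⁻¹ F4.u 1 F4.u := (act_om (h := h) F K).inv F rfl rfl rfl

omit F in
theorem comm_rho : ρ * ρ₀ = ρ₀ * ρ := (comm_of_C K.mem h.ρ_mem).symm

end

include hP F K

/-- exact action of `ζ` -/
theorem zt_exact [Finite G] (b a c : F4) : (ρ⁻¹ * ρ₀) * (Y b * X a * Z c) * (ρ⁻¹ * ρ₀)⁻¹ =
    Y (F4.w * b) * X (F4.w * a) * Z (F4.u * c) := by
  have D := PData.data hP
  have h1 : ρ₀ * (Y b * X a * Z c) * ρ₀⁻¹ = Y (F4.u * b) * X (F4.w * a) * Z c := by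
    rw [conj_mul', conj_mul', K.conjY, K.conjX, Base.CA_V h K.mem (F.Z_mem c)]
  have h2 : ρ⁻¹ * X (F4.w * a) * ρ = X (F4.w * a) := by
    have := F.ρX (F4.w * a)
    calc ρ⁻¹ * X (F4.w * a) * ρ = ρ⁻¹ * (ρ * X (F4.w * a) * ρ⁻¹) * ρ := by rw [this]
      _ = _ := by group
  calc (ρ⁻¹ * ρ₀) * (Y b * X a * Z c) * (ρ⁻¹ * ρ₀)⁻¹ = ρ⁻¹ * (ρ₀ * (Y b * X a * Z c) * ρ₀⁻¹) * ρ := by group
    _ = (ρ⁻¹ * Y (F4.u * b) * ρ) * (ρ⁻¹ * X (F4.w * a) * ρ) * (ρ⁻¹ * Z c * ρ) := by rw [h1]; group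
    _ = _ := by
      rw [ρinvY D F, ρinvZ D F, h2, ← mul_assoc]
      rfl

/-- `ζ` has no fixed points on `P` -/
theorem zt_fpf [Finite G] {p : G} (hp : p ∈ P) (e : (ρ⁻¹ * ρ₀) * p * (ρ⁻¹ * ρ₀)⁻¹ = p) : p = 1 := by
  obtain ⟨b, a, c, rfl⟩ := F.P_surj p hp
  rw [zt_exact hP F K] at e
  obtain ⟨e1, e2, e3⟩ := F.inj _ _ _ _ _ _ e
  have key : ∀ b : F4, F4.w * b = b → b = 0 := by decide
  have key' : ∀ b : F4, F4.u * b = b → b = 0 := by decide
  rw [key b e1, key a e2, key' c e3, F.Y_zero, F.X_zero, F.Z_zero, one_mul, one_mul]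

theorem zt_NP [Finite G] : (ρ⁻¹ * ρ₀) ∈ N P := (act_zt (h := h) F K).NP (PData.data hP) F

theorem fix_one [Finite G] {t : G} (ht : t ∈ P) (hn : ρ⁻¹ * ρ₀ ∈ N P)
    (hc : Cg R V (t * (ρ⁻¹ * ρ₀) * t⁻¹) (ρ⁻¹ * ρ₀)) : t = 1 := by
  obtain ⟨d, hd, e⟩ := hc
  have h1 : d = t * ((ρ⁻¹ * ρ₀) * t⁻¹ * (ρ⁻¹ * ρ₀)⁻¹) := by
    calc d = (d * (ρ⁻¹ * ρ₀)) * (ρ⁻¹ * ρ₀)⁻¹ := by group
      _ = t * (ρ⁻¹ * ρ₀) * t⁻¹ * (ρ⁻¹ * ρ₀)⁻¹ := by rw [e]
      _ = _ := by group
  have h2 : d ∈ P := by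
    rw [h1]
    exact mul_mem ht (conj_mem hn (Subgroup.inv_mem _ ht))
  have h3 := DD_inf hP (PData.data hP) F hd h2
  rw [h3, one_mul] at e
  apply zt_fpf hP F K ht
  calc (ρ⁻¹ * ρ₀) * t * (ρ⁻¹ * ρ₀)⁻¹ = (t * (ρ⁻¹ * ρ₀) * t⁻¹) * t * (ρ⁻¹ * ρ₀)⁻¹ := by rw [e]
    _ = t := by group

/-- surjectivity of `q ↦ q⁻¹ ζ₁(q)` -/
theorem exists_q [Finite G] {z : G} (hz : z = ρ⁻¹ * ρ₀ ∨ z = (ρ⁻¹ * ρ₀)⁻¹) {p : G} (hp : p ∈ P) :
    ∃ q ∈ P, q⁻¹ * (z * q * z⁻¹) = p := by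
  have hzN : z ∈ N P := by
    rcases hz with e | e
    · rw [e]; exact zt_NP hP F K
    · rw [e]; exact Subgroup.inv_mem _ (zt_NP hP F K)
  have hfpf : ∀ p ∈ P, z * p * z⁻¹ = p → p = 1 := by
    intro p hp e
    rcases hz with rfl | rfl
    · exact zt_fpf hP F K hp e
    · apply zt_fpf hP F K hp
      nth_rewrite 1 [← e]
      group
  have hinj : Function.Injective (fun q : P => (⟨(q : G)⁻¹ * (z * q * z⁻¹),
      mul_mem (Subgroup.inv_mem _ q.2) (conj_mem hzN q.2)⟩ : P)) := by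
    rintro ⟨q, hq⟩ ⟨r, hr⟩ e
    have e1 : q⁻¹ * (z * q * z⁻¹) = r⁻¹ * (z * r * z⁻¹) := congrArg (fun t : P => (t : G)) e
    have e2 : z * (q * r⁻¹) * z⁻¹ = q * r⁻¹ := by
      calc z * (q * r⁻¹) * z⁻¹ = q * (q⁻¹ * (z * q * z⁻¹)) * (z * r * z⁻¹)⁻¹ := by group
        _ = q * (r⁻¹ * (z * r * z⁻¹)) * (z * r * z⁻¹)⁻¹ := by rw [e1]
        _ = q * r⁻¹ := by group
    have e3 := hfpf _ (mul_mem hq (Subgroup.inv_mem _ hr)) e2
    exact Subtype.ext (mul_inv_eq_one.1 e3)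
  have hs := Finite.surjective_of_injective hinj
  obtain ⟨⟨q, hq⟩, e⟩ := hs ⟨p, hp⟩
  exact ⟨q, hq, congrArg (fun t : P => (t : G)) e⟩

/-- adjusting the swap by `P` -/
theorem adjust [Finite G] {τ : G} {f l : F4} {σ : F4 → F4} (hτ : ActSw X Y Z τ f l σ) :
    ∃ q ∈ P, ∃ z, ((σ = id ∧ z = ρ⁻¹ * ρ₀) ∨ (σ = F4.fr ∧ z = (ρ⁻¹ * ρ₀)⁻¹)) ∧
      Cg R V ((q * τ) * (ρ⁻¹ * ρ₀) * (q * τ)⁻¹) z := by
  have hact := (act_zt (h := h) F K).sw F hτ
  obtain ⟨z, hz, p, hp, d, hd, e⟩ : ∃ z, ((σ = id ∧ z = ρ⁻¹ * ρ₀) ∨ (σ = F4.fr ∧ z = (ρ⁻¹ * ρ₀)⁻¹)) ∧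
      ∃ p ∈ P, ∃ d ∈ Od R V, τ * (ρ⁻¹ * ρ₀) * τ⁻¹ * z⁻¹ = p * d := by
    rcases hτ.aut.eq with rfl | rfl
    · exact ⟨_, Or.inl ⟨rfl, rfl⟩, (hact.mul F (act_zt' (h := h) F K)).fact hP F rfl rfl⟩
    · refine ⟨_, Or.inr ⟨rfl, rfl⟩, ?_⟩
      rw [inv_inv]
      exact (hact.mul F (act_zt (h := h) F K)).fact hP F rfl rfl
  have hz' : z = ρ⁻¹ * ρ₀ ∨ z = (ρ⁻¹ * ρ₀)⁻¹ := by
    rcases hz with ⟨-, e⟩ | ⟨-, e⟩
    · exact Or.inl e
    · exact Or.inr e
  have hzN : z ∈ N P := by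
    rcases hz' with e | e
    · rw [e]; exact zt_NP hP F K
    · rw [e]; exact Subgroup.inv_mem _ (zt_NP hP F K)
  obtain ⟨q, hq, hqp⟩ := exists_q hP F K hz' hp
  refine ⟨q, hq, z, hz, d, Od_DD hd, ?_⟩
  have h1 : z * q⁻¹ * z⁻¹ ∈ P := conj_mem hzN (Subgroup.inv_mem _ hq)
  have h2 := Od_P hP hd h1
  calc (q * τ) * (ρ⁻¹ * ρ₀) * (q * τ)⁻¹ = q * (τ * (ρ⁻¹ * ρ₀) * τ⁻¹ * z⁻¹) * (z * q⁻¹ * z⁻¹) * z := by group
    _ = q * p * (d * (z * q⁻¹ * z⁻¹)) * z := by rw [e]; group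
    _ = q * (q⁻¹ * (z * q * z⁻¹)) * (z * q⁻¹ * z⁻¹) * d * z := by rw [← h2, hqp]; group
    _ = d * z := by group

/-- **exact form of the swap** -/
theorem exact_form [Finite G] {τ : G} {f l : F4} {σ : F4 → F4} (hτ : ActSw X Y Z τ f l σ) (hτN : τ ∈ N P)
    {z : G} (hz : z = ρ⁻¹ * ρ₀ ∨ z = (ρ⁻¹ * ρ₀)⁻¹) (hcg : Cg R V (τ * (ρ⁻¹ * ρ₀) * τ⁻¹) z)
    (hττ : τ * τ ∈ P) : τ * τ = 1 ∧ l * σ f = 1 ∧ (∀ a, τ * X a * τ = Y (f * σ a)) ∧
      (∀ a, τ * Y a * τ = X (l * σ a)) ∧ ∀ a, τ * Z a * τ = Z (f * l * σ a) := by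
  have D := PData.data hP
  have hζN := zt_NP hP F K
  have hzN : z ∈ N P := by
    rcases hz with e | e
    · rw [e]; exact hζN
    · rw [e]; exact Subgroup.inv_mem _ hζN
  -- `τ z τ⁻¹ ~ ζ`
  have hz2 : Cg R V (τ * z * τ⁻¹) (ρ⁻¹ * ρ₀) := by
    rcases hz with e | e
    · rw [← e] at hcg; rw [← e]; exact hcg
    · have h1 := hcg.conj_inv hP hτN hzN
      rw [← e] at h1
      rw [show ρ⁻¹ * ρ₀ = z⁻¹ by rw [e, inv_inv]]
      exact h1
  have hττ1 : τ * τ = 1 := by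
    apply fix_one hP F K hττ hζN
    have h1 := (hcg.conj hP hτN).trans hz2
    rwa [show τ * (τ * (ρ⁻¹ * ρ₀) * τ⁻¹) * τ⁻¹ = τ * τ * (ρ⁻¹ * ρ₀) * (τ * τ)⁻¹ by group] at h1
  have hτi : τ⁻¹ = τ := inv_eq_of_mul_eq_one_left hττ1
  -- the element `ρ' = τ ρ τ⁻¹`
  have hρN : ρ ∈ N P := (Acts.rho F).NP D F
  obtain ⟨ω, hω, hωζ, hωa⟩ : ∃ ω, (∃ p ∈ P, ∃ d ∈ Od R V, τ * ρ * τ⁻¹ * ω⁻¹ = p * d) ∧
      ω * (ρ⁻¹ * ρ₀) = (ρ⁻¹ * ρ₀) * ω ∧ ω ∈ N P ∧ ∀ b c, ω * (Y b * Z c) * ω⁻¹ = Y b * Z c → c = 0 := by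
    have hact := (Acts.rho F).sw F hτ
    have hc := comm_rho (h := h) K
    have hcζ : (ρ * ρ₀) * (ρ⁻¹ * ρ₀) = (ρ⁻¹ * ρ₀) * (ρ * ρ₀) := by
      calc (ρ * ρ₀) * (ρ⁻¹ * ρ₀) = (ρ₀ * ρ) * (ρ⁻¹ * ρ₀) := by rw [hc]
        _ = ρ₀ * ρ₀ := by group
        _ = ρ⁻¹ * (ρ * ρ₀) * ρ₀ := by group
        _ = ρ⁻¹ * (ρ₀ * ρ) * ρ₀ := by rw [hc]
        _ = _ := by group
    have hex : ∀ b c, (ρ * ρ₀) * (Y b * Z c) * (ρ * ρ₀)⁻¹ = Y b * Z (F4.w * c) := by
      intro b c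
      rw [show (ρ * ρ₀) * (Y b * Z c) * (ρ * ρ₀)⁻¹ = ρ * (ρ₀ * (Y b * Z c) * ρ₀⁻¹) * ρ⁻¹ by group,
        conj_mul' ρ₀, K.conjY, Base.CA_V h K.mem (F.Z_mem c), ρE2 F, ← mul_assoc]
      congr 2
      exact one_mul b
    rcases hτ.aut.eq with rfl | rfl
    · refine ⟨ρ * ρ₀, (hact.mul F (act_om' (h := h) F K)).fact hP F rfl rfl, hcζ,
        (act_om (h := h) F K).NP D F, fun b c e => ?_⟩
      rw [hex] at e
      have e1 := (E2_inj D F e).2
      have : ∀ c : F4, F4.w * c = c → c = 0 := by decide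
      exact this c e1
    · refine ⟨(ρ * ρ₀)⁻¹, ?_, ?_, (act_om' (h := h) F K).NP D F, fun b c e => ?_⟩
      · rw [inv_inv]
        exact (hact.mul F (act_om (h := h) F K)).fact hP F rfl rfl
      · calc (ρ * ρ₀)⁻¹ * (ρ⁻¹ * ρ₀) = (ρ * ρ₀)⁻¹ * ((ρ⁻¹ * ρ₀) * (ρ * ρ₀)) * (ρ * ρ₀)⁻¹ := by group
          _ = _ := by rw [← hcζ]; group
      · have e1 : (ρ * ρ₀) * (Y b * Z c) * (ρ * ρ₀)⁻¹ = Y b * Z c := by
          nth_rewrite 1 [← e]
          group
        rw [hex] at e1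
        have e2 := (E2_inj D F e1).2
        have : ∀ c : F4, F4.w * c = c → c = 0 := by decide
        exact this c e2
  obtain ⟨p, hp, d, hd, e⟩ := hω
  -- `p = 1`
  have hd' := Od_DD hd
  have hp1 : p = 1 := by
    apply fix_one hP F K hp hζN
    have hpe : p = τ * ρ * τ⁻¹ * ω⁻¹ * d⁻¹ := by rw [e]; group
    have c1 : Cg R V (d⁻¹ * (ρ⁻¹ * ρ₀) * d⁻¹⁻¹) (ρ⁻¹ * ρ₀) :=
      ⟨d⁻¹ * ((ρ⁻¹ * ρ₀) * d * (ρ⁻¹ * ρ₀)⁻¹), mul_mem (Subgroup.inv_mem _ hd') (DD_conj hP hζN hd'),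
        by group⟩
    have c2 := c1.conj hP (Subgroup.inv_mem _ hωa.1)
    have e2 : ω⁻¹ * (ρ⁻¹ * ρ₀) * ω⁻¹⁻¹ = ρ⁻¹ * ρ₀ := by
      rw [inv_inv, mul_assoc, ← hωζ]; group
    rw [e2] at c2
    have c3 := c2.conj hP (Subgroup.inv_mem _ hτN)
    have c4 : Cg R V (τ⁻¹ * (ρ⁻¹ * ρ₀) * τ⁻¹⁻¹) z := by
      rw [hτi]
      rw [hτi] at hcg
      rw [hτi]; exact hcg
    have c5 := (c3.trans c4).conj hP hρN
    have e3 : ρ * z * ρ⁻¹ = z := by
      have hc := comm_rho (h := h) K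
      have e4 : ρ * (ρ⁻¹ * ρ₀) * ρ⁻¹ = ρ⁻¹ * ρ₀ := by
        calc ρ * (ρ⁻¹ * ρ₀) * ρ⁻¹ = ρ⁻¹ * (ρ * ρ₀) * ρ⁻¹ := by group
          _ = ρ⁻¹ * ρ₀ := by rw [hc]; group
      rcases hz with e | e
      · rw [e, e4]
      · rw [e]
        calc ρ * (ρ⁻¹ * ρ₀)⁻¹ * ρ⁻¹ = (ρ * (ρ⁻¹ * ρ₀) * ρ⁻¹)⁻¹ := by group
          _ = _ := by rw [e4]
    rw [e3] at c5
    have c6 := (c5.conj hP hτN).trans hz2
    rw [hpe]
    convert c6 using 1
    group
  rw [hp1, one_mul] at e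
  have hρ' : τ * ρ * τ⁻¹ = d * ω := by rw [← e]; group
  -- exactness on `X`
  have hX : ∀ a, τ * X a * τ⁻¹ = Y (f * σ a) := by
    intro a
    obtain ⟨c, hc⟩ := hτ.onX a
    have e1 : (d * ω) * (Y (f * σ a) * Z c) * (d * ω)⁻¹ = Y (f * σ a) * Z c := by
      rw [← hρ', ← hc, show (τ * ρ * τ⁻¹) * (τ * X a * τ⁻¹) * (τ * ρ * τ⁻¹)⁻¹ =
        τ * (ρ * X a * ρ⁻¹) * τ⁻¹ by group, F.ρX]
    have e2 : ω * (Y (f * σ a) * Z c) * ω⁻¹ = Y (f * σ a) * Z c := by
      have hm : ω * (Y (f * σ a) * Z c) * ω⁻¹ ∈ P :=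
        conj_mem hωa.1 (P.mul_mem (F.Y_mem _) (D.B_le (F.Z_mem _)))
      have e3 := DD_P hP hd' hm
      calc ω * (Y (f * σ a) * Z c) * ω⁻¹ = (ω * (Y (f * σ a) * Z c) * ω⁻¹) * d * d⁻¹ := by group
        _ = (d * ω) * (Y (f * σ a) * Z c) * (d * ω)⁻¹ := by rw [e3]; group
        _ = _ := e1
    rw [hc, hωa.2 _ _ e2, F.Z_zero, mul_one]
  have hback : ∀ a, τ * Y (f * σ a) * τ⁻¹ = X a := by
    intro a
    rw [← hX a, show τ * (τ * X a * τ⁻¹) * τ⁻¹ = (τ * τ) * X a * (τ * τ)⁻¹ by group, hττ1]; group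
  have hEinj : ∀ {a c a' c' : F4}, X a * Z c = X a' * Z c' → a = a' ∧ c = c' := by
    intro a c a' c' e
    have := F.inj a 0 c a' 0 c' (by rw [F.Y_zero, one_mul, one_mul]; exact e)
    exact ⟨this.2.1, this.2.2⟩
  have hlf : l * σ f = 1 := by
    obtain ⟨c, hc⟩ := hτ.onY (f * σ 1)
    rw [hback 1, hτ.aut.mul, hτ.aut.invol, mul_one] at hc
    have h1 : X 1 * Z 0 = X (l * σ f) * Z c := by rw [F.Z_zero, mul_one]; exact hc
    exact (hEinj h1).1.symm
  refine ⟨hττ1, hlf, fun a => ?_, fun a => ?_, fun a => ?_⟩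
  · rw [← hX a, hτi]
  · obtain ⟨b, hb⟩ := hτ.aut.surj hτ.f0 a
    rw [← hb]
    have h1 := hback b
    rw [hτi] at h1
    rw [h1, hτ.aut.mul, hτ.aut.invol, ← mul_assoc, hlf, one_mul]
  · rw [← hτ.onZ a, hτi]

end

end Cfsg.Agent.StdAlt.Five.SwapD
end

-- part: StdAlt/Five/SwapE
section
set_option linter.all false
open scoped Cfsg.Agent.FastGrp

/-!
# S1766, n = 5, case (I): the swap cases
-/

set_option autoImplicit false

namespace Cfsg.Agent.StdAlt.Five.SwapE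

open Subgroup Cfsg.Agent.StdAlt.Conj Cfsg.Agent.J2Sylow.Model Cfsg.Agent.StdAlt.Five
open Cfsg.Agent.StdAlt.Five.Sec4 Cfsg.Agent.StdAlt.Five.PGroup Cfsg.Agent.StdAlt.Five.PExists
open Cfsg.Agent.StdAlt.Five.PData Cfsg.Agent.StdAlt.Five.Coord Cfsg.Agent.StdAlt.Five.Moves
open Cfsg.Agent.StdAlt.Five.Mu Cfsg.Agent.StdAlt.Five.SylA Cfsg.Agent.StdAlt.Five.SwapA
open Cfsg.Agent.StdAlt.Five.SwapB Cfsg.Agent.StdAlt.Five.SwapC Cfsg.Agent.StdAlt.Five.SwapD

variable {G : Type*} [Group G] {A R V P : Subgroup G} {ρ g s : G} {X Y Z : F4 → G}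
variable {h : OddE A R V ρ g}

/-- elements of `P` normalize everything -/
theorem P_Nm [Finite G] (hP : IsP h P) (F : Frame R V P ρ 0 X Y Z) {p : G} (hp : p ∈ P) :
    Nm (PData.data hP) F p where
  onP := fun q hq => mul_mem (mul_mem hp hq) (Subgroup.inv_mem _ hp)
  onV := fun v hv => by rw [PData.cent hP hp hv]; simpa using hv
  onE := fun e he => conj_mem (P_N hP hp) he
  onE' := fun e he => by
    have D := PData.data hP
    have h3 : p * e * p⁻¹ * e⁻¹ ∈ V := D.sqcomm hp (E2_le D F he)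
    rw [show p * e * p⁻¹ = (p * e * p⁻¹ * e⁻¹) * e by group]
    exact mul_mem (V_le_E2 D F h3) he

/-- **swap, `μ = 1`** -/
theorem swap_one [Finite G] (hP : IsP h P) (F : Frame R V P ρ 0 X Y Z) {ρ₀ : G} (K : Kap3 A X Y ρ₀)
    (kt2 : ∀ b c, b ≠ 0 → KT A (Y b * Z c)) (h8 : ¬ 8 ∣ Nat.card A) (hmu : Mu1 A) :
    ∃ X' Y' Z' w, ∃ S : Sylow 2 G, Frame R V P ρ 0 X' Y' Z' ∧ Kap3 A X' Y' ρ₀ ∧
      (SwapLin A P X' Y' Z' w S ∨ SwapSemi A P X' Y' Z' w S) := by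
  have D := PData.data hP
  obtain ⟨Q, τ₀, hQ⟩ := exists_Q hP F kt2 h8 hP.two le_N (fun p hp => P_N hP hp) (max_one hP F h8 hmu)
  obtain ⟨S, hS⟩ := sylow_Q hP F le_rfl hQ (fun x hx => wcQ_one hP F hQ hx)
  obtain ⟨f, l, σ, hτ₀⟩ := actSw D F hQ.sw h
  obtain ⟨q, hq, z, hz, hcg⟩ := adjust hP F K hτ₀
  have hτ := hτ₀.mulP D F hq
  have hsw : Sw D F (q * τ₀) := Sw.Nm_mul (P_Nm hP F hq) hQ.sw
  have hτQ : q * τ₀ ∈ Q := mul_mem (hQ.le hq) hQ.mem
  obtain ⟨τ, hτe⟩ : ∃ τ, τ = q * τ₀ := ⟨_, rfl⟩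
  rw [← hτe] at hτ hsw hτQ hcg
  have hz' : z = ρ⁻¹ * ρ₀ ∨ z = (ρ⁻¹ * ρ₀)⁻¹ := by
    rcases hz with ⟨-, e⟩ | ⟨-, e⟩
    · exact Or.inl e
    · exact Or.inr e
  obtain ⟨h1, h2, h3, h4, h5⟩ := exact_form hP F K hτ (hQ.leN hτQ) hz' hcg
    (hQ.inf _ (mul_mem hτQ hτQ) (hsw.mul hsw).NE)
  have hmem : ∀ x, x ∈ (S : Subgroup G) ↔ x ∈ P ∨ x * τ ∈ P := by
    intro x
    rw [hS]
    constructor
    · intro hx
      rcases hQ.cases' x hx with h6 | h6
      · exact Or.inl h6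
      · exact Or.inr (hQ.inf _ (mul_mem hx hτQ) (h6.mul hsw).NE)
    · rintro (hx | hx)
      · exact hQ.le hx
      · rw [show x = (x * τ) * τ⁻¹ by group]
        exact mul_mem (hQ.le hx) (Subgroup.inv_mem _ hτQ)
  -- rescale
  have hf : f * F4.fr f = 1 := by
    have : ∀ f : F4, f ≠ 0 → f * F4.fr f = 1 := by decide
    exact this f hτ.f0
  refine ⟨X, _, _, τ, S, Moves.scale F hf, MuNorm.Kap3.scale K f, ?_⟩
  rcases hz with ⟨rfl, -⟩ | ⟨rfl, -⟩
  · left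
    have hlf : l * f = 1 := h2
    exact
      { mu1 := hmu
        sq := h1
        conjX := fun a => h3 a
        conjY := fun b => by
          rw [h4]
          congr 1
          calc l * id (f * b) = (l * f) * b := by simp only [id]; ring
            _ = b := by rw [hlf, one_mul]
        conjZ := fun c => by
          rw [h5]
          congr 1
          calc f * l * id (f * c) = (l * f) * (f * c) := by simp only [id]; ring
            _ = f * c := by rw [hlf, one_mul]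
        mem := hmem }
  · right
    exact
      { mu1 := hmu
        sq := h1
        conjX := fun a => h3 a
        conjY := fun b => by
          rw [h4]
          congr 1
          rw [F4.fr_mul, ← mul_assoc, h2, one_mul]
        conjZ := fun c => by
          rw [h5]
          congr 1
          rw [F4.fr_mul, mul_assoc, ← mul_assoc l, h2, one_mul]
        mem := hmem }

/-- **swap, `μ = 2`** -/
theorem swap_two [Finite G] (hP : IsP h P) (F : Frame R V P ρ 0 X Y Z) {ρ₀ : G} (K : Kap3 A X Y ρ₀)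
    (kt2 : ∀ b c, b ≠ 0 → KT A (Y b * Z c)) (h8 : ¬ 8 ∣ Nat.card A) (hmu : Mu2 A ρ X Y Z s)
    (hsρ : ∃ d ∈ Od R V, s * ρ₀ * s⁻¹ = ρ₀⁻¹ * d) : ∃ w, ∃ S : Sylow 2 G, SwapTwo A P ρ X Y Z s w S := by
  have D := PData.data hP
  have hsi : s⁻¹ = s := inv_eq_of_mul_eq_one_left hmu.sq
  have hsX : ∀ a, s * X a * s⁻¹ = X (F4.fr a) := by rw [hsi]; exact hmu.conjX
  have hsY : ∀ a, s * Y a * s⁻¹ = Y (F4.fr a) := by rw [hsi]; exact hmu.conjY
  have hsZ : ∀ a, s * Z a * s⁻¹ = Z (F4.fr a) := by rw [hsi]; exact hmu.conjZ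
  have hsP : ∀ p ∈ P, s * p * s⁻¹ ∈ P := by
    intro p hp
    obtain ⟨b, a, c, rfl⟩ := F.P_surj p hp
    rw [conj_mul', conj_mul', hsX, hsY, hsZ]
    exact mem_P F _ _ _ D
  have hsE : s ∈ N (R ⊔ V) := by
    refine Base.mem_NE h (fun r hr => ?_) (fun r hr => ?_)
    · obtain ⟨a, rfl⟩ := F.X_surj r hr
      rw [hsX]; exact F.X_mem _
    · obtain ⟨a, rfl⟩ := F.Z_surj r hr
      rw [hsZ]; exact F.Z_mem _
  have hsN : s ∈ N P := mem_N_of hsP
  have hsNm : Nm D F s := by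
    refine ⟨hsP, fun v hv => ?_, fun e he => conj_mem hsE he, ?_⟩
    · obtain ⟨c, rfl⟩ := F.Z_surj v hv
      rw [hsZ]; exact F.Z_mem _
    · rintro _ ⟨b, c, rfl⟩
      exact ⟨F4.fr b, F4.fr c, by rw [conj_mul', hsY, hsZ]⟩
  have hPle : P ≤ PS P s hsP hmu.sq := fun p hp => Or.inl hp
  have hsmem : s ∈ PS P s hsP hmu.sq := Or.inr (by rw [hmu.sq]; exact one_mem _)
  have hSN : PS P s hsP hmu.sq ≤ N P := by
    rintro x (hx | hx)
    · exact le_N hx
    · rw [show x = (x * s) * s⁻¹ by group]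
      exact mul_mem (le_N hx) (Subgroup.inv_mem _ hsN)
  have hSE : PS P s hsP hmu.sq ≤ N (R ⊔ V) := by
    rintro x (hx | hx)
    · exact P_N hP hx
    · rw [show x = (x * s) * s⁻¹ by group]
      exact mul_mem (P_N hP hx) (Subgroup.inv_mem _ hsE)
  obtain ⟨Q, τ₀, hQ⟩ := exists_Q hP F kt2 h8 (PS_two hP.two hsP hmu.sq) hSN hSE
    (fun Q hQ hSQ hQE => le_antisymm (fun q hq => max_two hP F hmu.mem hsE hsZ Q hQ (hPle.trans hSQ)
      (hSQ hsmem) hQE hq) hSQ)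
  obtain ⟨S, hS⟩ := sylow_Q hP F hPle hQ (fun x hx => wcQ_two hP F hsP hmu.sq hsX hsY hsZ hQ hx)
  have hsQ : s ∈ Q := hQ.le hsmem
  -- a linear swap
  obtain ⟨τ₁, f, l, hτ₁Q, hτ₁S, hτ₁⟩ : ∃ τ₁ f l, τ₁ ∈ Q ∧ Sw D F τ₁ ∧ ActSw X Y Z τ₁ f l id := by
    obtain ⟨f, l, σ, hτ₀⟩ := actSw D F hQ.sw h
    rcases hτ₀.aut.eq with rfl | rfl
    · exact ⟨τ₀, f, l, hQ.mem, hQ.sw, hτ₀⟩
    · refine ⟨s * τ₀, F4.fr f, F4.fr l, mul_mem hsQ hQ.mem, Sw.Nm_mul hsNm hQ.sw, ?_⟩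
      have hne : ∀ x : F4, x ≠ 0 → F4.fr x ≠ 0 := by decide
      refine ⟨⟨Or.inl rfl⟩, hne f hτ₀.f0, hne l hτ₀.l0, fun a => ?_, fun a => ?_, fun a => ?_⟩
      · obtain ⟨c, hc⟩ := hτ₀.onX a
        refine ⟨F4.fr c, ?_⟩
        rw [show s * τ₀ * X a * (s * τ₀)⁻¹ = s * (τ₀ * X a * τ₀⁻¹) * s⁻¹ by group, hc, conj_mul', hsY, hsZ,
          F4.fr_mul, F4.fr_fr]
        rfl
      · obtain ⟨c, hc⟩ := hτ₀.onY a
        refine ⟨F4.fr c, ?_⟩
        rw [show s * τ₀ * Y a * (s * τ₀)⁻¹ = s * (τ₀ * Y a * τ₀⁻¹) * s⁻¹ by group, hc, conj_mul', hsX, hsZ,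
          F4.fr_mul, F4.fr_fr]
        rfl
      · rw [show s * τ₀ * Z a * (s * τ₀)⁻¹ = s * (τ₀ * Z a * τ₀⁻¹) * s⁻¹ by group, hτ₀.onZ, hsZ,
          F4.fr_mul, F4.fr_mul, F4.fr_fr]
        rfl
  obtain ⟨q, hq, z, hz, hcg⟩ := adjust hP F K hτ₁
  have hz1 : z = ρ⁻¹ * ρ₀ := by
    rcases hz with ⟨-, e⟩ | ⟨e, -⟩
    · exact e
    · exact absurd (congrFun e F4.w) (by decide)
  subst hz1
  have hτ := hτ₁.mulP D F hq
  have hsw : Sw D F (q * τ₁) := Sw.Nm_mul (P_Nm hP F hq) hτ₁S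
  have hτQ : q * τ₁ ∈ Q := mul_mem (hQ.le (hPle hq)) hτ₁Q
  obtain ⟨τ, hτe⟩ : ∃ τ, τ = q * τ₁ := ⟨_, rfl⟩
  rw [← hτe] at hτ hsw hτQ hcg
  have hfl0 : f * l ≠ 0 := by
    have : ∀ f l : F4, f ≠ 0 → l ≠ 0 → f * l ≠ 0 := by decide
    exact this f l hτ.f0 hτ.l0
  -- `x s ∈ P` implies that `x` acts semilinearly
  have hsemi : ∀ x, x * s ∈ P → ∀ c, x * Z c * x⁻¹ = Z (F4.fr c) := by
    intro x hx c
    have h1 := D.cent _ hx _ (F.Z_mem (F4.fr c))
    have h2 := hsZ (F4.fr c)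
    rw [F4.fr_fr] at h2
    calc x * Z c * x⁻¹ = x * (s * Z (F4.fr c) * s⁻¹) * x⁻¹ := by rw [h2]
      _ = (x * s) * Z (F4.fr c) * (x * s)⁻¹ := by group
      _ = _ := by rw [h1]; group
  have hττ : τ * τ ∈ P := by
    have h1 := hQ.inf _ (mul_mem hτQ hτQ) (hsw.mul hsw).NE
    rcases mem_PS.1 h1 with h2 | h2
    · exact h2
    · exfalso
      have h3 := hsemi _ h2 F4.e
      have h4 := hsemi _ h2 F4.w
      rw [show τ * τ * Z F4.e * (τ * τ)⁻¹ = τ * (τ * Z F4.e * τ⁻¹) * τ⁻¹ by group, hτ.onZ, hτ.onZ] at h3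
      rw [show τ * τ * Z F4.w * (τ * τ)⁻¹ = τ * (τ * Z F4.w * τ⁻¹) * τ⁻¹ by group, hτ.onZ, hτ.onZ] at h4
      have h5 := F.Z_inj h3
      have h6 := F.Z_inj h4
      have : ∀ m : F4, m * id (m * id F4.e) = F4.fr F4.e → m * id (m * id F4.w) = F4.fr F4.w → False := by
        decide
      exact this _ h5 h6
  obtain ⟨h1, h2, h3, h4, h5⟩ := exact_form hP F K hτ (hQ.leN hτQ) (Or.inl rfl) hcg hττ
  have hτi : τ⁻¹ = τ := inv_eq_of_mul_eq_one_left h1
  have hζN := zt_NP hP F K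
  -- `s ζ s⁻¹ ~ ζ⁻¹`
  have hsζ : Cg R V (s * (ρ⁻¹ * ρ₀) * s⁻¹) (ρ⁻¹ * ρ₀)⁻¹ := by
    obtain ⟨d, hd, e⟩ := hsρ
    have e1 : s * ρ * s⁻¹ = ρ⁻¹ := by rw [hsi]; exact hmu.conjρ
    have hc := comm_rho (h := h) K
    have e2 : ρ * ρ₀⁻¹ = (ρ⁻¹ * ρ₀)⁻¹ := by
      calc ρ * ρ₀⁻¹ = ρ₀⁻¹ * (ρ₀ * ρ) * ρ₀⁻¹ := by group
        _ = (ρ⁻¹ * ρ₀)⁻¹ := by rw [← hc]; group
    refine ⟨(ρ⁻¹ * ρ₀)⁻¹ * d * (ρ⁻¹ * ρ₀)⁻¹⁻¹, DD_conj hP (Subgroup.inv_mem _ hζN) (Od_DD hd), ?_⟩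
    calc s * (ρ⁻¹ * ρ₀) * s⁻¹ = (s * ρ * s⁻¹)⁻¹ * (s * ρ₀ * s⁻¹) := by group
      _ = ρ * ρ₀⁻¹ * d := by rw [e, e1]; group
      _ = (ρ⁻¹ * ρ₀)⁻¹ * d := by rw [e2]
      _ = _ := by group
  -- `s` and `τ` commute
  have hcomm : s * τ = τ * s := by
    have hst : Sw D F (s * τ) := Sw.Nm_mul hsNm hsw
    have hstQ : s * τ ∈ Q := mul_mem hsQ hτQ
    have hcP : s * τ * (s * τ) ∈ P := by
      have h6 := hQ.inf _ (mul_mem hstQ hstQ) (hst.mul hst).NE
      rcases mem_PS.1 h6 with h7 | h7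
      · exact h7
      · exfalso
        have hact : ∀ c, (s * τ) * Z c * (s * τ)⁻¹ = Z (F4.fr (f * l * id c)) := by
          intro c
          rw [show (s * τ) * Z c * (s * τ)⁻¹ = s * (τ * Z c * τ⁻¹) * s⁻¹ by group, hτ.onZ, hsZ]
        have h8 := hsemi _ h7 F4.e
        have h9 := hsemi _ h7 F4.w
        rw [show s * τ * (s * τ) * Z F4.e * (s * τ * (s * τ))⁻¹ =
          (s * τ) * ((s * τ) * Z F4.e * (s * τ)⁻¹) * (s * τ)⁻¹ by group, hact, hact] at h8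
        rw [show s * τ * (s * τ) * Z F4.w * (s * τ * (s * τ))⁻¹ =
          (s * τ) * ((s * τ) * Z F4.w * (s * τ)⁻¹) * (s * τ)⁻¹ by group, hact, hact] at h9
        have h10 := F.Z_inj h8
        have h11 := F.Z_inj h9
        have : ∀ m : F4, F4.fr (m * id (F4.fr (m * id F4.e))) = F4.fr F4.e →
            F4.fr (m * id (F4.fr (m * id F4.w))) = F4.fr F4.w → False := by decide
        exact this _ h10 h11
    have hstN : s * τ ∈ N P := hQ.leN hstQ
    have c1 : Cg R V ((s * τ) * (ρ⁻¹ * ρ₀) * (s * τ)⁻¹) (ρ⁻¹ * ρ₀)⁻¹ := by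
      have := (hcg.conj hP hsN).trans hsζ
      rwa [show s * (τ * (ρ⁻¹ * ρ₀) * τ⁻¹) * s⁻¹ = (s * τ) * (ρ⁻¹ * ρ₀) * (s * τ)⁻¹ by group] at this
    have c2 := c1.conj_inv hP hstN (Subgroup.inv_mem _ hζN)
    rw [inv_inv] at c2
    have c3 := (c1.conj hP hstN).trans c2
    rw [show (s * τ) * ((s * τ) * (ρ⁻¹ * ρ₀) * (s * τ)⁻¹) * (s * τ)⁻¹ =
      (s * τ * (s * τ)) * (ρ⁻¹ * ρ₀) * (s * τ * (s * τ))⁻¹ by group] at c3
    have c4 := fix_one hP F K hcP hζN c3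
    calc s * τ = (s * τ * (s * τ)) * (τ⁻¹ * s⁻¹) := by group
      _ = τ * s := by rw [c4, hτi, hsi, one_mul]
  -- `f = l = 1`
  have hf1 : f = 1 := by
    have h6 := h3 1
    have h7 : s * (τ * X 1 * τ) * s⁻¹ = τ * X 1 * τ := by
      have e1 : s * X 1 * s⁻¹ = X 1 := hsX 1
      calc s * (τ * X 1 * τ) * s⁻¹ = (s * τ) * X 1 * (τ * s) := by rw [hsi]; group
        _ = (τ * s) * X 1 * (s * τ) := by rw [hcomm]
        _ = τ * (s * X 1 * s⁻¹) * (s * s) * τ := by group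
        _ = τ * X 1 * τ := by rw [e1, hmu.sq]; group
    rw [h6, hsY] at h7
    have h8 : Y (F4.fr (f * id 1)) * Z 0 = Y (f * id 1) * Z 0 := by rw [h7]
    have h9 := (E2_inj D F h8).1
    have : ∀ f : F4, f ≠ 0 → F4.fr (f * id 1) = f * id 1 → f = 1 := by decide
    exact this f hτ.f0 h9
  have hl1 : l = 1 := by
    rw [hf1] at h2
    exact (mul_one l).symm.trans h2
  subst hf1 hl1
  refine ⟨τ, S, { mu2 := hmu, sq := h1, comm := hcomm, conjX := fun a => ?_, conjY := fun a => ?_,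
                  conjZ := fun a => ?_, mem := fun x => ?_ }⟩
  · rw [h3, one_mul]; rfl
  · rw [h4, one_mul]; rfl
  · rw [h5, one_mul, one_mul]; rfl
  · rw [hS]
    constructor
    · intro hx
      rcases hQ.cases' x hx with h6 | h6
      · rcases mem_PS.1 h6 with h7 | h7
        · exact Or.inl h7
        · exact Or.inr (Or.inl h7)
      · have h7 := hQ.inf _ (mul_mem hx hτQ) (h6.mul hsw).NE
        rcases mem_PS.1 h7 with h8 | h8
        · exact Or.inr (Or.inr (Or.inl h8))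
        · right; right; right
          rw [hcomm, ← mul_assoc]
          exact h8
    · rintro (hx | hx | hx | hx)
      · exact hQ.le (hPle hx)
      · rw [show x = (x * s) * s⁻¹ by group]
        exact mul_mem (hQ.le (hPle hx)) (Subgroup.inv_mem _ hsQ)
      · rw [show x = (x * τ) * τ⁻¹ by group]
        exact mul_mem (hQ.le (hPle hx)) (Subgroup.inv_mem _ hτQ)
      · rw [show x = (x * (s * τ)) * (s * τ)⁻¹ by group]
        exact mul_mem (hQ.le (hPle hx)) (Subgroup.inv_mem _ (mul_mem hsQ hτQ))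

end Cfsg.Agent.StdAlt.Five.SwapE
end

-- part: StdAlt/Five/Sec4Main
section
set_option linter.all false
open scoped Cfsg.Agent.FastGrp

/-!
# S1766, n = 5, case (I): sections 3 and 4, conclusion
-/

set_option autoImplicit false

namespace Cfsg.Agent.StdAlt.Five.Sec4Main

open Subgroup Cfsg.Agent.StdAlt.Conj Cfsg.Agent.J2Sylow.Model Cfsg.Agent.StdAlt.Five
open Cfsg.Agent.StdAlt.Five.Sec4 Cfsg.Agent.StdAlt.Five.PExists
open Cfsg.Agent.StdAlt.Five.PData Cfsg.Agent.StdAlt.Five.Coord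

variable {G : Type*} [Group G] {A R V P : Subgroup G} {ρ g s : G} {ε : F4} {X Y Z : F4 → G}

/-- `|N A : A * C A| ≤ 2` -/
theorem index_le [Finite G] (B : Base A R V P ρ ε X Y Z) (h8 : ¬ 8 ∣ Nat.card A) (hmu : Mu2 A ρ X Y Z s) :
    ∀ m ∈ N A, (∃ a ∈ A, ∃ k ∈ C A, m = a * k) ∨ ∃ a ∈ A, ∃ k ∈ C A, m * s = a * k := by
  intro m hm
  obtain ⟨g, h⟩ := B.odd
  have hsi : s⁻¹ = s := inv_eq_of_mul_eq_one_left hmu.sq
  have hsZ : ∀ a, s * Z a * s⁻¹ = Z (F4.fr a) := by rw [hsi]; exact hmu.conjZ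
  exact SylA.index_two h B.frame h8 hmu.mem hsZ hm

/-- the configurations with `κ = 1` -/
structure One (A R V P : Subgroup G) (ρ : G) (ε : F4) (X Y Z : F4 → G) (S : Sylow 2 G) : Prop where
  base : Base A R V P ρ ε X Y Z
  kap : Kap1 A R
  mu : WC1 A R V P Y Z S ∨ ∃ s, WC2 A R V P ρ X Y Z s S

/-- the configurations with `κ = 3` -/
structure Three (A R V P : Subgroup G) (ρ : G) (X Y Z : F4 → G) (ρ₀ : G) (S : Sylow 2 G) : Prop where
  base : Base A R V P ρ 0 X Y Z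
  kap : Kap3 A X Y ρ₀
  odd : Odd (orderOf ρ₀)
  mu : WC1 A R V P Y Z S ∨ (∃ s, WC2 A R V P ρ X Y Z s S) ∨
    (∃ w, SwapLin A P X Y Z w S) ∨ (∃ w, SwapSemi A P X Y Z w S) ∨ ∃ s w, SwapTwo A P ρ X Y Z s w S

/-- **sections 3 and 4 of the blueprint** -/
theorem main [Finite G] (h : OddE A R V ρ g) (h8 : ¬ 8 ∣ Nat.card A) :
    ∃ (P : Subgroup G) (S : Sylow 2 G) (X Y Z : F4 → G),
      (∃ ε, One A R V P ρ ε X Y Z S) ∨ ∃ ρ₀, Three A R V P ρ X Y Z ρ₀ S := by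
  obtain ⟨P, hP⟩ := Base.exists_isP h
  have D := PData.data hP
  obtain ⟨ε, X, Y, Z, hε, F⟩ := D.exists_frame
  by_cases hk : Kap1 A R
  · -- `κ = 1`
    have nkt : ∀ {X Y Z : F4 → G} (_ : Frame R V P ρ ε X Y Z), ∀ b c, b ≠ 0 → ¬ KT A (Y b * Z c) := by
      intro X Y Z F b c hb hKT
      rcases hε with rfl | rfl
      · obtain ⟨x, hx⟩ := SwapB.exists_swap hP F (SwapB.all_kt D F hb hKT) h8
        exact SwapB.not_kap1 hP F hx hk
      · exact SylA.nkt_Q hP F hb hKT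
    by_cases hmu : Mu1 A
    · obtain ⟨S, hS⟩ := SylA.wc_one hP hε F (nkt F) h8 hmu
      exact ⟨P, S, X, Y, Z, Or.inl ⟨ε, Base.mk hP hε F, hk, Or.inl hS⟩⟩
    · obtain ⟨X', Y', Z', s, F', hmu'⟩ := MuNorm.norm_one hP hε F h8 hmu
      obtain ⟨S, hS⟩ := SylA.wc_two hP hε F' (nkt F') hmu'
      exact ⟨P, S, X', Y', Z', Or.inl ⟨ε, Base.mk hP hε F', hk, Or.inr ⟨s, hS⟩⟩⟩
  · -- `κ = 3`
    obtain ⟨rfl, k, ρ₀, hρo, K⟩ := Base.kap hP hε F hk
    have F₁ := Moves.shift D F k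
    obtain ⟨Y₁, hY₁⟩ : ∃ Y₁ : F4 → G, Y₁ = fun b => Y b * Z (k * b) := ⟨_, rfl⟩
    rw [← hY₁] at F₁ K
    by_cases hmu : Mu1 A
    · by_cases hkt : ∃ b c, b ≠ 0 ∧ KT A (Y₁ b * Z c)
      · obtain ⟨b, c, hb, hKT⟩ := hkt
        obtain ⟨X', Y', Z', w, S, F', K', hS⟩ := SwapE.swap_one hP F₁ K (SwapB.all_kt D F₁ hb hKT) h8 hmu
        refine ⟨P, S, X', Y', Z', Or.inr ⟨ρ₀, Base.mk hP (Or.inl rfl) F', K', hρo, ?_⟩⟩
        rcases hS with hS | hS
        · exact Or.inr (Or.inr (Or.inl ⟨w, hS⟩))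
        · exact Or.inr (Or.inr (Or.inr (Or.inl ⟨w, hS⟩)))
      · push_neg at hkt
        obtain ⟨S, hS⟩ := SylA.wc_one hP (Or.inl rfl) F₁ hkt h8 hmu
        exact ⟨P, S, X, Y₁, Z, Or.inr ⟨ρ₀, Base.mk hP (Or.inl rfl) F₁, K, hρo, Or.inl hS⟩⟩
    · obtain ⟨X', Y', Z', s, F', K', hmu', hsρ⟩ := MuNorm.norm_three hP F₁ K h8 hmu
      by_cases hkt : ∃ b c, b ≠ 0 ∧ KT A (Y' b * Z' c)
      · obtain ⟨b, c, hb, hKT⟩ := hkt
        obtain ⟨w, S, hS⟩ := SwapE.swap_two hP F' K' (SwapB.all_kt D F' hb hKT) h8 hmu' hsρ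
        exact ⟨P, S, X', Y', Z', Or.inr ⟨ρ₀, Base.mk hP (Or.inl rfl) F', K', hρo,
          Or.inr (Or.inr (Or.inr (Or.inr ⟨s, w, hS⟩)))⟩⟩
      · push_neg at hkt
        obtain ⟨S, hS⟩ := SylA.wc_two hP (Or.inl rfl) F' hkt hmu'
        exact ⟨P, S, X', Y', Z', Or.inr ⟨ρ₀, Base.mk hP (Or.inl rfl) F', K', hρo,
          Or.inr (Or.inl ⟨s, hS⟩)⟩⟩

end Cfsg.Agent.StdAlt.Five.Sec4Main
end

-- part: StdAlt/Five/Outcome
section
set_option linter.all false
open scoped Cfsg.Agent.FastGrp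

/-!
# S1766, n = 5, case (I): the list of outcomes of sections 3 and 4, and their simple consequences
-/

set_option autoImplicit false

namespace Cfsg.Agent.StdAlt.Five.Outcome

open Subgroup Equiv Cfsg.Agent.StdAlt Cfsg.Agent.StdAlt.Conj Cfsg.Agent.J2Sylow.Model Cfsg.Agent.StdAlt.Five
open Cfsg.Agent.StdAlt.Five.Sec4 Cfsg.Agent.StdAlt.Five.Mu

variable {G : Type*} [Group G]

/-- the outcomes of sections 3 and 4 -/
inductive Out [Finite G] (A R V : Subgroup G) (ρ : G) : Prop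
  | one1 (P : Subgroup G) (ε : F4) (X Y Z : F4 → G) (S : Sylow 2 G) (B : Base A R V P ρ ε X Y Z)
      (κ : Kap1 A R) (W : WC1 A R V P Y Z S) : Out A R V ρ
  | one2 (P : Subgroup G) (ε : F4) (X Y Z : F4 → G) (s : G) (S : Sylow 2 G)
      (B : Base A R V P ρ ε X Y Z) (κ : Kap1 A R) (W : WC2 A R V P ρ X Y Z s S) : Out A R V ρ
  | three1 (P : Subgroup G) (X Y Z : F4 → G) (ρ₀ : G) (S : Sylow 2 G) (B : Base A R V P ρ 0 X Y Z)
      (κ : Kap3 A X Y ρ₀) (W : WC1 A R V P Y Z S) : Out A R V ρ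
  | three2 (P : Subgroup G) (X Y Z : F4 → G) (ρ₀ s : G) (S : Sylow 2 G)
      (B : Base A R V P ρ 0 X Y Z) (κ : Kap3 A X Y ρ₀) (W : WC2 A R V P ρ X Y Z s S) : Out A R V ρ
  | lin (P : Subgroup G) (X Y Z : F4 → G) (ρ₀ w : G) (S : Sylow 2 G) (B : Base A R V P ρ 0 X Y Z)
      (κ : Kap3 A X Y ρ₀) (sw : SwapLin A P X Y Z w S) : Out A R V ρ
  | semi (P : Subgroup G) (X Y Z : F4 → G) (ρ₀ w : G) (S : Sylow 2 G) (B : Base A R V P ρ 0 X Y Z)
      (κ : Kap3 A X Y ρ₀) (sw : SwapSemi A P X Y Z w S) : Out A R V ρ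
  | two (P : Subgroup G) (X Y Z : F4 → G) (ρ₀ s w : G) (S : Sylow 2 G)
      (B : Base A R V P ρ 0 X Y Z) (κ : Kap3 A X Y ρ₀) (sw : SwapTwo A P ρ X Y Z s w S) : Out A R V ρ

theorem out_of [Finite G] {A R V : Subgroup G} {ρ g : G} (h : OddE A R V ρ g) (h8 : ¬ 8 ∣ Nat.card A) :
    Out A R V ρ := by
  obtain ⟨P, S, X, Y, Z, ⟨ε, B, κ, W | ⟨s, W⟩⟩ | ⟨ρ₀, B, κ, -, W | ⟨s, W⟩ | ⟨w, W⟩ | ⟨w, W⟩ | ⟨s, w, W⟩⟩⟩ :=
    Sec4Main.main h h8
  · exact Out.one1 P ε X Y Z S B κ W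
  · exact Out.one2 P ε X Y Z s S B κ W
  · exact Out.three1 P X Y Z ρ₀ S B κ W
  · exact Out.three2 P X Y Z ρ₀ s S B κ W
  · exact Out.lin P X Y Z ρ₀ w S B κ W
  · exact Out.semi P X Y Z ρ₀ w S B κ W
  · exact Out.two P X Y Z ρ₀ s w S B κ W

/-! ### `μ` -/

/-- `|N A : A C A| ≤ 2` -/
theorem index_AC {A : Subgroup G} (L : Lab A (Fin 5)) {s : G} (hs : s ∈ N A) (hs' : s ∉ AC A) :
    ∀ m ∈ N A, m ∈ AC A ∨ m * s ∈ AC A := by
  have key : ∀ x ∈ N A, L.φ x ∈ alternatingGroup (Fin 5) → x ∈ AC A := by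
    intro x hx hxe
    obtain ⟨a, ha, hax⟩ := L.lift _ hxe
    have h1 : a⁻¹ * x ∈ C A := by
      rw [← L.ker _ (mul_mem (inv_mem (le_N ha)) hx), L.mul _ _ (inv_mem (le_N ha)) hx, L.inv (le_N ha), hax,
        inv_mul_cancel]
    exact ⟨a, ha, a⁻¹ * x, h1, by group⟩
  intro m hm
  by_cases h : L.φ m ∈ alternatingGroup (Fin 5)
  · exact Or.inl (key m hm h)
  · right
    apply key _ (mul_mem hm hs)
    have h2 : L.φ s ∉ alternatingGroup (Fin 5) := fun h => hs' (key s hs h)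
    rw [L.mul _ _ hm hs]
    rw [Perm.mem_alternatingGroup] at h h2 ⊢
    rw [Perm.sign_mul]
    rcases Int.units_eq_one_or (Perm.sign (L.φ m)) with h3 | h3
    · exact absurd h3 h
    rcases Int.units_eq_one_or (Perm.sign (L.φ s)) with h4 | h4
    · exact absurd h4 h2
    rw [h3, h4]
    norm_num

/-! ### `κ = 3` -/

/-- in the case `κ = 3` the group is simple -/
theorem top_of_kap3 {A R L : Subgroup G} (hL : L.Normal) (hgen : ∀ g : G, ∃ l ∈ L, ∃ r ∈ R, g = l * r)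
    {X Y : F4 → G} {ρ₀ : G} (κ : Kap3 A X Y ρ₀) (hX : ∀ r ∈ R, ∃ a, X a = r)
    (hadd : ∀ a b, X (a + b) = X a * X b) : L = ⊤ := by
  have h0 : X 0 = 1 := by
    have h1 := hadd 0 0
    rw [add_zero] at h1
    exact (left_eq_mul.1 h1)
  have hself : ∀ a : F4, a + a = 0 := by decide
  have hinv : ∀ a, (X a)⁻¹ = X a := by
    intro a
    rw [inv_eq_iff_mul_eq_one, ← hadd, hself, h0]
  have hR : ∀ a, X a ∈ R → X a ∈ L := by
    intro a _
    obtain ⟨l, hl, r₁, hr₁, e⟩ := hgen ρ₀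
    obtain ⟨b, rfl⟩ := hX r₁ hr₁
    have h1 := κ.conjX (F4.w * a)
    have hw : ∀ a : F4, F4.w * (F4.w * a) + F4.w * a = a := by decide
    have h2 : X a = ρ₀ * X (F4.w * a) * ρ₀⁻¹ * (X (F4.w * a))⁻¹ := by
      rw [h1, hinv, ← hadd, hw]
    have h3 : X b * X (F4.w * a) * (X b)⁻¹ = X (F4.w * a) := by
      rw [hinv, ← hadd, ← hadd, add_comm b, add_assoc, hself, add_zero]
    rw [h2, e, show l * X b * X (F4.w * a) * (l * X b)⁻¹ * (X (F4.w * a))⁻¹ =
      l * ((X b * X (F4.w * a) * (X b)⁻¹) * l⁻¹ * (X (F4.w * a))⁻¹) by group, h3]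
    exact mul_mem hl (hL.conj_mem _ (inv_mem hl) _)
  rw [eq_top_iff]
  intro g _
  obtain ⟨l, hl, r, hr, rfl⟩ := hgen g
  obtain ⟨a, rfl⟩ := hX r hr
  exact mul_mem hl (hR a hr)

end Cfsg.Agent.StdAlt.Five.Outcome
end

-- part: StdAlt/Five/KillLink_mg
section
prune_inst 0x20000000000010000000000000000000000000000000000000000302020000000000000008200000000000000000004002180000000000000000000000000000000000000000a000000000000000000000000000000000000000000000000000000000000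
set_option linter.all false
open scoped Cfsg.Agent.FastGrp

-- part: StdAlt/Five/KillModel
section
/-!
# The groups `UT₃(4) : ⟨w⟩` (order 128) and `UT₃(4) : ⟨w, s⟩` (order 256)

`w` is the involution `x(a) ↔ y(a)`, `z(c)` fixed; `s` is the field automorphism.  Used in the case "kappa = 3,
K-type" of S1766, `n = 5` (blueprints/S1766-five.md, A3 and A5).
-/

set_option autoImplicit false

namespace Cfsg.Agent.StdAlt.Five.KillModel

open Cfsg.Agent.J2Sylow.Model Cfsg.Agent.J2Sylow.Model.F4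

/-- the element `y(b) x(a) z(c) w^i` -/
@[ext] structure K : Type where
  a : F4
  b : F4
  c : F4
  i : Bool
  deriving DecidableEq

namespace K

/-- product -/
def mul (x y : K) : K :=
  match x.i with
  | false => ⟨x.a + y.a, x.b + y.b, x.c + y.c + x.a * y.b, y.i⟩
  | true => ⟨x.a + y.b, x.b + y.a, x.c + y.c + (x.a + y.b) * y.a, !y.i⟩

/-- inverse -/
def inv (x : K) : K :=
  match x.i with
  | false => ⟨x.a, x.b, x.c + x.a * x.b, false⟩
  | true => ⟨x.b, x.a, x.c + (x.a + x.a) * x.b, true⟩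

/-- identity -/
def one : K := ⟨o, o, o, false⟩

instance : Mul K := ⟨mul⟩
instance : Inv K := ⟨inv⟩
instance : One K := ⟨one⟩

instance decForall (p : K → Prop) [DecidablePred p] : Decidable (∀ x, p x) :=
  decidable_of_iff (∀ a b c : F4, p ⟨a, b, c, false⟩ ∧ p ⟨a, b, c, true⟩)
    ⟨fun h x => by
      obtain ⟨a, b, c, s⟩ := x
      cases s
      · exact (h a b c).1
      · exact (h a b c).2, fun h a b c => ⟨h _, h _⟩⟩

instance decExists (p : K → Prop) [DecidablePred p] : Decidable (∃ x, p x) :=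
  decidable_of_iff (∃ a b c : F4, p ⟨a, b, c, false⟩ ∨ p ⟨a, b, c, true⟩)
    ⟨fun ⟨a, b, c, h⟩ => by rcases h with h | h <;> exact ⟨_, h⟩,
     fun ⟨⟨a, b, c, s⟩, h⟩ => ⟨a, b, c, by cases s <;> simp_all only [_root_.true_or, _root_.or_true]⟩⟩

theorem mul_false (xa xb xc : F4) (y : K) :
    (⟨xa, xb, xc, false⟩ : K) * y = ⟨xa + y.a, xb + y.b, xc + y.c + xa * y.b, y.i⟩ := rfl

theorem mul_true (xa xb xc : F4) (y : K) :
    (⟨xa, xb, xc, true⟩ : K) * y = ⟨xa + y.b, xb + y.a, xc + y.c + (xa + y.b) * y.a, !y.i⟩ := rfl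

theorem inv_mul_cancel' : ∀ x : K, x⁻¹ * x = 1 := by decide +kernel

theorem one_mul' : ∀ x : K, 1 * x = x := by decide +kernel

theorem mul_one' : ∀ x : K, x * 1 = x := by decide +kernel

protected theorem mul_assoc (x y z : K) : x * y * z = x * (y * z) := by
  obtain ⟨xa, xb, xc, xs⟩ := x
  obtain ⟨ya, yb, yc, ys⟩ := y
  obtain ⟨za, zb, zc, zs⟩ := z
  cases xs <;> cases ys <;> simp only [mul_false, mul_true, K.mk.injEq,
    Bool.not_not, and_true, Bool.not_true, Bool.not_false] <;> refine ⟨?_, ?_, ?_⟩ <;> try ring1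
  · linear_combination (-(ya * zb)) * two_eq
  · linear_combination (-(za * (ya + zb))) * two_eq

instance : Group K where
  mul_assoc := K.mul_assoc
  one_mul := one_mul'
  mul_one := mul_one'
  inv_mul_cancel := inv_mul_cancel'

/-- the field automorphism -/
def frK (x : K) : K := ⟨fr x.a, fr x.b, fr x.c, x.i⟩

theorem frK_mul (x y : K) : frK (x * y) = frK x * frK y := by
  obtain ⟨xa, xb, xc, xs⟩ := x
  obtain ⟨ya, yb, yc, ys⟩ := y
  cases xs <;> simp only [mul_false, mul_true, frK, fr_add, fr_mul]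

theorem frK_frK (x : K) : frK (frK x) = x := by
  obtain ⟨xa, xb, xc, xs⟩ := x
  simp only [frK, fr_fr]

end K

/-- the group of order 256; `⟨k, j⟩ = k s^j` -/
@[ext] structure L : Type where
  k : K
  j : Bool
  deriving DecidableEq

namespace L

/-- product -/
def mul (x y : L) : L :=
  match x.j with
  | false => ⟨x.k * y.k, y.j⟩
  | true => ⟨x.k * K.frK y.k, !y.j⟩

/-- inverse -/
def inv (x : L) : L :=
  match x.j with
  | false => ⟨x.k⁻¹, false⟩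
  | true => ⟨K.frK x.k⁻¹, true⟩

/-- identity -/
def one : L := ⟨1, false⟩

instance : Mul L := ⟨mul⟩
instance : Inv L := ⟨inv⟩
instance : One L := ⟨one⟩

instance decForall (p : L → Prop) [DecidablePred p] : Decidable (∀ x, p x) :=
  decidable_of_iff (∀ k : K, p ⟨k, false⟩ ∧ p ⟨k, true⟩)
    ⟨fun h x => by
      obtain ⟨a, s⟩ := x
      cases s
      · exact (h a).1
      · exact (h a).2, fun h a => ⟨h _, h _⟩⟩

instance decExists (p : L → Prop) [DecidablePred p] : Decidable (∃ x, p x) :=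
  decidable_of_iff (∃ k : K, p ⟨k, false⟩ ∨ p ⟨k, true⟩)
    ⟨fun ⟨a, h⟩ => by rcases h with h | h <;> exact ⟨_, h⟩,
     fun ⟨⟨a, s⟩, h⟩ => ⟨a, by cases s <;> simp_all⟩⟩

theorem mul_false (xk : K) (y : L) : (⟨xk, false⟩ : L) * y = ⟨xk * y.k, y.j⟩ := rfl

theorem mul_true (xk : K) (y : L) : (⟨xk, true⟩ : L) * y = ⟨xk * K.frK y.k, !y.j⟩ := rfl

theorem one_def : (1 : L) = ⟨1, false⟩ := rfl

theorem frK_one : K.frK 1 = 1 := rfl

instance : Group L where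
  mul_assoc := by
    rintro ⟨xk, xj⟩ ⟨yk, yj⟩ ⟨zk, zj⟩
    cases xj <;> cases yj <;> simp [mul_false, mul_true, K.frK_mul, K.frK_frK, mul_assoc]
  one_mul := by
    rintro ⟨xk, xj⟩
    rw [one_def, mul_false, one_mul]
  mul_one := by
    rintro ⟨xk, xj⟩
    cases xj
    · rw [one_def, mul_false]; simp
    · rw [one_def, mul_true, frK_one]; simp
  inv_mul_cancel := by
    rintro ⟨xk, xj⟩
    cases xj
    · change (⟨xk⁻¹ * xk, false⟩ : L) = 1
      rw [inv_mul_cancel]; rfl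
    · change (⟨K.frK xk⁻¹ * K.frK xk, false⟩ : L) = 1
      rw [← K.frK_mul, inv_mul_cancel]; rfl

end L

end Cfsg.Agent.StdAlt.Five.KillModel
end

-- part: StdAlt/Five/KillLift
section
/-!
# Homomorphisms from the groups of order 128 and 256
-/

set_option autoImplicit false

namespace Cfsg.Agent.StdAlt.Five.Kill

open Cfsg.Agent.J2Sylow.Model Cfsg.Agent.J2Sylow.Model.F4 KillModel

variable {G : Type*} [Group G]

/-- `UT₃(4)` with the linear swap `W` (`X a ↔ Y a`, `Z c` fixed) -/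
structure Lin (X Y Z : F4 → G) (W : G) : Prop where
  XX : ∀ a b, X a * X b = X (a + b)
  YY : ∀ a b, Y a * Y b = Y (a + b)
  ZZ : ∀ a b, Z a * Z b = Z (a + b)
  XY : ∀ a b, X a * Y b = Y b * (X a * Z (a * b))
  ZX : ∀ a b, Z a * X b = X b * Z a
  ZY : ∀ a b, Z a * Y b = Y b * Z a
  WX : ∀ a, W * X a = Y a * W
  WY : ∀ a, W * Y a = X a * W
  WZ : ∀ a, W * Z a = Z a * W
  WW : W * W = 1
  inj : ∀ a b c, Y b * (X a * Z c) = 1 → a = 0 ∧ b = 0 ∧ c = 0
  out : ∀ a b c, Y b * (X a * Z c) ≠ W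

/-- normal form -/
def kFun (X Y Z : F4 → G) (W : G) (x : K) : G :=
  Y x.b * (X x.a * (Z x.c * (if x.i then W else 1)))

theorem aux_false : ∀ a b' c c' : F4, a * b' + (c + c') = c + c' + a * b' := by decide +kernel

theorem aux_true : ∀ a a' b' c c' : F4, a * a' + (c + (b' * a' + c')) =
    c + c' + (a + b') * a' := by decide +kernel

theorem kFun_mul {X Y Z : F4 → G} {W : G} (h : Lin X Y Z W) (x y : K) :
    kFun X Y Z W (x * y) = kFun X Y Z W x * kFun X Y Z W y := by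
  have hXX : ∀ a b (r : G), X a * (X b * r) = X (a + b) * r := fun a b r => by
    rw [← mul_assoc, h.XX]
  have hYY : ∀ a b (r : G), Y a * (Y b * r) = Y (a + b) * r := fun a b r => by
    rw [← mul_assoc, h.YY]
  have hZZ : ∀ a b (r : G), Z a * (Z b * r) = Z (a + b) * r := fun a b r => by
    rw [← mul_assoc, h.ZZ]
  have hXY : ∀ a b (r : G), X a * (Y b * r) = Y b * (X a * (Z (a * b) * r)) := fun a b r => by
    rw [← mul_assoc, h.XY]; simp only [mul_assoc]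
  have hZX : ∀ a b (r : G), Z a * (X b * r) = X b * (Z a * r) := fun a b r => by
    rw [← mul_assoc, h.ZX, mul_assoc]
  have hZY : ∀ a b (r : G), Z a * (Y b * r) = Y b * (Z a * r) := fun a b r => by
    rw [← mul_assoc, h.ZY, mul_assoc]
  have hTX : ∀ a (r : G), W * (X a * r) = Y a * (W * r) := fun a r => by
    rw [← mul_assoc, h.WX, mul_assoc]
  have hTY : ∀ a (r : G), W * (Y a * r) = X a * (W * r) := fun a r => by
    rw [← mul_assoc, h.WY, mul_assoc]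
  have hTZ : ∀ a (r : G), W * (Z a * r) = Z a * (W * r) := fun a r => by
    rw [← mul_assoc, h.WZ, mul_assoc]
  obtain ⟨a, b, c, s⟩ := x
  obtain ⟨a', b', c', s'⟩ := y
  cases s
  · rw [K.mul_false]
    simp only [kFun, mul_assoc, Bool.false_eq_true, if_false, one_mul, hZY, hZX, hXY, hYY, hXX,
      hZZ, aux_false]
  · rw [K.mul_true]
    have hS : W * (if s' = true then W else 1) = if (!s') = true then W else 1 := by
      cases s' <;> simp [h.WW]
    simp only [kFun, mul_assoc, if_true, hTX, hTY, hTZ, hS, hZY, hZX, hXY, hYY, hXX, hZZ,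
      aux_true]

namespace Lin

variable {X Y Z : F4 → G} {W : G}

/-- the homomorphism given by the relations -/
def hom (h : Lin X Y Z W) : K →* G := MonoidHom.mk' (kFun X Y Z W) (kFun_mul h)

theorem hom_apply (h : Lin X Y Z W) (x : K) :
    h.hom x = Y x.b * (X x.a * (Z x.c * (if x.i then W else 1))) := rfl

theorem X0 (h : Lin X Y Z W) : X 0 = 1 := by
  have := h.XX 0 0
  rw [add_zero] at this
  exact mul_eq_left.mp this

theorem Y0 (h : Lin X Y Z W) : Y 0 = 1 := by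
  have := h.YY 0 0
  rw [add_zero] at this
  exact mul_eq_left.mp this

theorem Z0 (h : Lin X Y Z W) : Z 0 = 1 := by
  have := h.ZZ 0 0
  rw [add_zero] at this
  exact mul_eq_left.mp this

theorem hom_X (h : Lin X Y Z W) (a : F4) : h.hom ⟨a, 0, 0, false⟩ = X a := by
  simp [hom_apply, h.Y0, h.Z0]

theorem hom_Z (h : Lin X Y Z W) (a : F4) : h.hom ⟨0, 0, a, false⟩ = Z a := by
  simp [hom_apply, h.X0, h.Y0]

theorem hom_W (h : Lin X Y Z W) : h.hom ⟨0, 0, 0, true⟩ = W := by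
  simp [hom_apply, h.X0, h.Y0, h.Z0]

theorem hom_inj (h : Lin X Y Z W) : Function.Injective h.hom := by
  rw [injective_iff_map_eq_one]
  rintro ⟨a, b, c, i⟩ hx
  rw [hom_apply] at hx
  cases i
  · simp only [Bool.false_eq_true, if_false, mul_one] at hx
    obtain ⟨rfl, rfl, rfl⟩ := h.inj a b c hx
    rfl
  · exfalso
    simp only [if_true] at hx
    have h1 : Y b * (X a * Z c) = W := by
      have h2 : Y b * (X a * Z c) * W = 1 := by
        rw [← hx]; simp only [mul_assoc]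
      calc Y b * (X a * Z c) = Y b * (X a * Z c) * (W * W) := by rw [h.WW, mul_one]
        _ = (Y b * (X a * Z c) * W) * W := by simp only [mul_assoc]
        _ = W := by rw [h2, one_mul]
    exact h.out a b c h1

end Lin

/-- `Lin` with the commuting field automorphism `s` -/
structure LinS (X Y Z : F4 → G) (W s : G) : Prop extends Lin X Y Z W where
  sX : ∀ a, s * X a = X (fr a) * s
  sY : ∀ a, s * Y a = Y (fr a) * s
  sZ : ∀ a, s * Z a = Z (fr a) * s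
  sW : s * W = W * s
  ss : s * s = 1
  out2 : ∀ x : K, kFun X Y Z W x ≠ s

namespace LinS

variable {X Y Z : F4 → G} {W s : G}

theorem s_hom (h : LinS X Y Z W s) (k : K) : s * h.hom k = h.hom (K.frK k) * s := by
  have hTX : ∀ a (r : G), s * (X a * r) = X (fr a) * (s * r) := fun a r => by
    rw [← mul_assoc, h.sX, mul_assoc]
  have hTY : ∀ a (r : G), s * (Y a * r) = Y (fr a) * (s * r) := fun a r => by
    rw [← mul_assoc, h.sY, mul_assoc]
  have hTZ : ∀ a (r : G), s * (Z a * r) = Z (fr a) * (s * r) := fun a r => by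
    rw [← mul_assoc, h.sZ, mul_assoc]
  obtain ⟨a, b, c, i⟩ := k
  simp only [Lin.hom_apply, K.frK, mul_assoc, hTX, hTY, hTZ]
  cases i
  · simp
  · simp [h.sW]

/-- the homomorphism given by the relations -/
def hom2 (h : LinS X Y Z W s) : L →* G :=
  MonoidHom.mk' (fun x => h.hom x.k * (if x.j then s else 1)) (by
    rintro ⟨k, j⟩ ⟨k', j'⟩
    cases j
    · rw [L.mul_false]
      simp only [map_mul, Bool.false_eq_true, if_false, mul_one, mul_assoc]
    · rw [L.mul_true]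
      have hS : s * (if j' = true then s else 1) = if (!j') = true then s else 1 := by
        cases j' <;> simp [h.ss]
      simp only [map_mul, if_true]
      rw [← hS, mul_assoc, mul_assoc, ← mul_assoc _ s, ← h.s_hom]
      simp only [mul_assoc])

theorem hom2_apply (h : LinS X Y Z W s) (x : L) :
    h.hom2 x = h.hom x.k * (if x.j then s else 1) := rfl

theorem hom2_k (h : LinS X Y Z W s) (k : K) : h.hom2 ⟨k, false⟩ = h.hom k := by
  simp [hom2_apply]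

theorem hom2_s (h : LinS X Y Z W s) : h.hom2 ⟨1, true⟩ = s := by
  simp [hom2_apply]

theorem hom2_inj (h : LinS X Y Z W s) : Function.Injective h.hom2 := by
  rw [injective_iff_map_eq_one]
  rintro ⟨k, j⟩ hx
  rw [hom2_apply] at hx
  cases j
  · simp only [Bool.false_eq_true, if_false, mul_one] at hx
    have h1 : k = 1 := h.hom_inj (by rw [hx, map_one])
    rw [h1]; rfl
  · exfalso
    simp only [if_true] at hx
    apply h.out2 k
    change h.hom k = s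
    calc h.hom k = h.hom k * (s * s) := by rw [h.ss, mul_one]
      _ = (h.hom k * s) * s := by rw [mul_assoc]
      _ = s := by rw [hx, one_mul]

end LinS

end Cfsg.Agent.StdAlt.Five.Kill
end

-- part: StdAlt/Five/KillFacts
section
/-!
# Facts about the groups `K` (order 128) and `L` (order 256), by computation
-/

set_option autoImplicit false

namespace Cfsg.Agent.StdAlt.Five.KillModel

open Cfsg.Agent.J2Sylow.Model Cfsg.Agent.J2Sylow.Model.F4

namespace K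

/-- `z(c)` -/
def IsV (x : K) : Bool := decide (x.a = 0) && decide (x.b = 0) && !x.i

/-- listing -/
def equivProd : K ≃ F4 × F4 × F4 × Bool where
  toFun x := (x.a, x.b, x.c, x.i)
  invFun y := ⟨y.1, y.2.1, y.2.2.1, y.2.2.2⟩
  left_inv _ := rfl
  right_inv _ := rfl

instance : Fintype K := Fintype.ofEquiv _ equivProd.symm

/-- the swap -/
def W : K := ⟨0, 0, 0, true⟩

theorem isV_iff (x : K) : IsV x = true ↔ x = ⟨0, 0, x.c, false⟩ := by
  revert x; decide +kernel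

private noncomputable def _root_.Cfsg.Agent.KOa3adfcc.k0 : type_of% @Decidable.decide := @(fun x0 x1 => @Decidable.rec.{1} _ @(fun x2 => @Bool) @(fun x2 => @Bool.false) @(fun x2 => @Bool.true) @x1)
private theorem _root_.Cfsg.Agent.KOa3adfcc.e0 : @Decidable.decide = @_root_.Cfsg.Agent.KOa3adfcc.k0 := by delta _root_.Cfsg.Agent.KOa3adfcc.k0; rfl'
private noncomputable def _root_.Cfsg.Agent.KOa3adfcc.k2 : type_of% @forall_prop_decidable := @(fun x0 x1 x2 x3 => @Decidable.rec.{1} _ @(fun x4 => @Decidable ((x5 : @x0) → @x1 @x5)) @(fun x4 => @Decidable.isTrue _ (@forall_prop_decidable._proof_2 _ @x1 @x4)) @(fun x4 => @Decidable.rec.{1} _ @(fun x5 => @Decidable ((x6 : @x0) → @x1 @x6)) @(fun x5 => @Decidable.isFalse _ (@decidable_of_decidable_of_iff._proof_1 _ _ (@forall_prop_decidable._proof_1 _ @x1 @x4) @x5)) @(fun x5 => @Decidable.isTrue _ (@Iff.mp _ _ (@forall_prop_decidable._proof_1 _ @x1 @x4) @x5))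 (@x3 @x4)) @x2)
private theorem _root_.Cfsg.Agent.KOa3adfcc.e2 : @forall_prop_decidable = @_root_.Cfsg.Agent.KOa3adfcc.k2 := by delta _root_.Cfsg.Agent.KOa3adfcc.k2; rfl'
private noncomputable def _root_.Cfsg.Agent.KOa3adfcc.k3 : type_of% @Bool.decEq := @(fun x0 x1 => @Bool.rec.{1} @(fun x2 => @Decidable (@Eq.{1} _ @x2 @x1)) (@Bool.rec.{1} @(fun x2 => @Decidable (@Eq.{1} _ @Bool.false @x2)) (@Decidable.isTrue _ (@rfl.{1} _ _)) (@Decidable.isFalse _ @(fun x2 => @Bool.noConfusion.{0} _ _ _ @x2)) @x1) (@Bool.rec.{1} @(fun x2 => @Decidable (@Eq.{1} _ @Bool.true @x2)) (@Decidable.isFalse _ @(fun x2 => @Bool.noConfusion.{0} _ _ _ @x2)) (@Decidable.isTrue _ (@rfl.{1} _ _)) @x1) @x0)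
private theorem _root_.Cfsg.Agent.KOa3adfcc.e3 : @Bool.decEq = @_root_.Cfsg.Agent.KOa3adfcc.k3 := by delta _root_.Cfsg.Agent.KOa3adfcc.k3; rfl'
private noncomputable def _root_.Cfsg.Agent.KOa3adfcc.k5 : type_of% @instDecidableEqBool := @Cfsg.Agent.KOa3adfcc.k3
private theorem _root_.Cfsg.Agent.KOa3adfcc.e5 : @instDecidableEqBool = @_root_.Cfsg.Agent.KOa3adfcc.k5 := by delta _root_.Cfsg.Agent.KOa3adfcc.k5; rewrite [← Cfsg.Agent.KOa3adfcc.e3]; rfl'
private noncomputable def _root_.Cfsg.Agent.KOa3adfcc.k6 : (by first | exact type_of% @Cfsg.Agent.StdAlt.Five.KillModel.K.IsV | exact Unit : Sort _) := by first | (refine @Subtype.val _ (fun g => @Cfsg.Agent.StdAlt.Five.KillModel.K.IsV = @g) (@Subtype.mk _ _ (@(fun x0 => @Bool.rec.{1} @(fun x1 => @Bool) @Bool.false (@Bool.rec.{1} @(fun x1 => @Bool) @Bool.true @Bool.false (@Cfsg.Agent.StdAlt.Five.KillModel.K.i @x0)) (@Bool.rec.{1} @(fun x1 => @Bool) @Bool.false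 (@Decidable.rec.{1} _ @(fun x1 => @Bool) @(fun x1 => @Bool.false) @(fun x1 => @Bool.true) (@Cfsg.Agent.J2Sylow.Model.instDecidableEqF4 (@Cfsg.Agent.StdAlt.Five.KillModel.K.b @x0) @Cfsg.Agent.J2Sylow.Model.F4.o)) (@Decidable.rec.{1} _ @(fun x1 => @Bool) @(fun x1 => @Bool.false) @(fun x1 => @Bool.true) (@Cfsg.Agent.J2Sylow.Model.instDecidableEqF4 (@Cfsg.Agent.StdAlt.Five.KillModel.K.a @x0) @Cfsg.Agent.J2Sylow.Model.F4.o))))) ?_); rfl') | exact @Cfsg.Agent.StdAlt.Five.KillModel.K.IsV | exact ()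
private theorem _root_.Cfsg.Agent.KOa3adfcc.e6 : (by first | exact @Cfsg.Agent.StdAlt.Five.KillModel.K.IsV = @_root_.Cfsg.Agent.KOa3adfcc.k6 | exact True : Prop) := by first | (delta _root_.Cfsg.Agent.KOa3adfcc.k6; exact @Subtype.property _ (fun g => @Cfsg.Agent.StdAlt.Five.KillModel.K.IsV = @g) _) | rfl | trivial
private noncomputable def _root_.Cfsg.Agent.KOa3adfcc.k7 : type_of% @Nat.decLe := @(fun x0 x1 => @Decidable.rec.{1} _ @(fun x2 => @Decidable (@LE.le.{0} _ _ @x0 @x1)) @(fun x2 => @Decidable.isFalse _ (@Nat.not_le_of_not_ble_eq_true _ _ @x2)) @(fun x2 => @Decidable.isTrue _ (@Nat.le_of_ble_eq_true _ _ @x2)) (@Cfsg.Agent.KOa3adfcc.k3 (@Nat.ble @x0 @x1) @Bool.true))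
private theorem _root_.Cfsg.Agent.KOa3adfcc.e7 : @Nat.decLe = @_root_.Cfsg.Agent.KOa3adfcc.k7 := by delta _root_.Cfsg.Agent.KOa3adfcc.k7; rewrite [← Cfsg.Agent.KOa3adfcc.e3]; rfl'
private noncomputable def _root_.Cfsg.Agent.KOa3adfcc.k10.{ku0} : type_of% @Finset.card.{ku0} := @(fun x0 x1 => @Quot.lift.{(ku0+1), 1} _ _ _ (@List.length.{ku0} _) @(fun x2 x3 => @List.Perm.length_eq.{ku0} _ _ _) (@Finset.val.{ku0} _ @x1))
private theorem _root_.Cfsg.Agent.KOa3adfcc.e10.{ku0} : @Finset.card.{ku0} = @_root_.Cfsg.Agent.KOa3adfcc.k10.{ku0} := by delta _root_.Cfsg.Agent.KOa3adfcc.k10; rfl'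
private noncomputable def _root_.Cfsg.Agent.KOa3adfcc.k12.{ku0} : type_of% @Finset.filter.{ku0} := @(fun x0 x1 x2 x3 => @Finset.mk.{ku0} _ (@Quot.lift.{(ku0+1), (ku0+1)} _ _ _ @(fun x4 => @Quot.mk.{(ku0+1)} _ (@Setoid.r.{(ku0+1)} _ _) (@List.filter.{ku0} _ @(fun x5 => @Decidable.rec.{1} _ @(fun x6 => @Bool) @(fun x6 => @Bool.false) @(fun x6 => @Bool.true) (@x2 @x5)) @x4)) (@Multiset.filter._proof_1.{ku0} _ @x1 _) (@Finset.val.{ku0} _ @x3)) (@Finset.filter._proof_1.{ku0} _ @x1 _ @x3))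
private theorem _root_.Cfsg.Agent.KOa3adfcc.e12.{ku0} : @Finset.filter.{ku0} = @_root_.Cfsg.Agent.KOa3adfcc.k12.{ku0} := by delta _root_.Cfsg.Agent.KOa3adfcc.k12; rfl'

set_option maxRecDepth 100000 in
theorem card_comm : ∀ t : K, t * t = 1 → IsV t = false →
    (Finset.univ.filter (fun x : K => IsV (x * t * x⁻¹ * t⁻¹) = true)).card ≤ 64 := by
  (first | (refine of_decide_eq_true ?_; rewrite [Cfsg.Agent.KOa3adfcc.e0, Cfsg.Agent.KOa3adfcc.e2, Cfsg.Agent.KOa3adfcc.e5, Cfsg.Agent.KOa3adfcc.e6, Cfsg.Agent.KOa3adfcc.e7, Cfsg.Agent.KOa3adfcc.e10.{0}, Cfsg.Agent.KOa3adfcc.e12.{0}]; decide +kernel) | decide +kernel)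

theorem conj_W : ∀ x : K, x * x = 1 → x.i = true → ∃ a b : F4,
    (⟨a, b, 0, false⟩ : K) * x * (⟨a, b, 0, false⟩ : K)⁻¹ = W := by
  decide +kernel

theorem comm_W : ∀ x : K, x * W = W * x → x.a = 0 ∧ x.b = 0 := by
  decide +kernel

theorem of_comm_W : ∀ x : K, x.a = 0 → x.b = 0 → x * W = W * x := by
  decide +kernel

/-- normalizer of `F8` -/
theorem norm_F : ∀ x : K, (x * W * x⁻¹).a = 0 → (x * W * x⁻¹).b = 0 → IsV (x * x) = true := by
  decide +kernel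

theorem comm_F2 : ∀ x : K, x.a = x.b → IsV (x * W * x⁻¹ * W⁻¹) = true := by
  decide +kernel

theorem comm_X1 : ∀ x : K, x.i = false →
    IsV (x * ⟨1, 0, 0, false⟩ * x⁻¹ * (⟨1, 0, 0, false⟩ : K)⁻¹) = true := by
  decide +kernel

theorem conj_V : ∀ (x : K) (c : F4), x * ⟨0, 0, c, false⟩ * x⁻¹ = ⟨0, 0, c, false⟩ := by
  intro x
  revert x; decide +kernel

theorem key1 : ∀ v a b c a' b' c' : F4, a * b ≠ 0 → a' * b' ≠ 0 → (a + a') * (b + b') ≠ 0 →
    (1 + a) * b = 0 → (1 + a') * b' = 0 → False := by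
  intro v a b c a' b' c' h1 h2 h3 h4 h5
  revert a b a' b'; decide +kernel

theorem trans_W : ∀ a c : F4, (⟨a, a, 0, false⟩ : K) * ⟨0, 0, c, true⟩ * (⟨a, a, 0, false⟩ : K)⁻¹ =
    ⟨0, 0, c + a * a, true⟩ := by
  decide +kernel

theorem trans_W0 : ∀ a : F4, (⟨a, a, 0, false⟩ : K) * W * (⟨a, a, 0, false⟩ : K)⁻¹ =
    W * ⟨0, 0, a * a, false⟩ := by
  decide +kernel

theorem mul_z : ∀ b c : F4, (⟨0, 0, c + b, true⟩ : K) = ⟨0, 0, c, true⟩ * ⟨0, 0, b, false⟩ := by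
  decide +kernel

theorem wne : ∀ ε : F4, ε ≠ 0 → F4.w * ε ≠ 0 := by decide

theorem wne2 : ∀ ε : F4, ε ≠ 0 → F4.w * ε + ε ≠ 0 := by decide

theorem fr_sq : ∀ a : F4, fr a * fr a = a := by decide

theorem sq_false (a b c : F4) : (⟨a, b, c, false⟩ : K) * ⟨a, b, c, false⟩ =
    ⟨0, 0, a * b, false⟩ := by
  revert a b c; decide +kernel

end K

end Cfsg.Agent.StdAlt.Five.KillModel
end

-- part: StdAlt/Five/KillTools
section
/-!
# Conjugation into Sylow subgroups, elementwise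
-/

set_option autoImplicit false

namespace Cfsg.Agent.StdAlt.Five.Kill

variable {G : Type*} [Group G]

/-- a 2-subgroup that is maximal among the 2-subgroups of `D` is a Sylow 2-subgroup of `D` -/
theorem conj_into_max [Finite G] {D R Q : Subgroup G} (hRD : R ≤ D) (hR : IsPGroup 2 R)
    (hmax : ∀ R' : Subgroup G, R' ≤ D → IsPGroup 2 R' → R ≤ R' → R' ≤ R)
    (hQ : IsPGroup 2 Q) (hQD : Q ≤ D) : ∃ d ∈ D, ∀ q ∈ Q, d * q * d⁻¹ ∈ R := by
  have hQ' : IsPGroup 2 (Q.subgroupOf D) :=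
    hQ.comap_of_injective D.subtype (Subgroup.subtype_injective D)
  have hR' : IsPGroup 2 (R.subgroupOf D) :=
    hR.comap_of_injective D.subtype (Subgroup.subtype_injective D)
  obtain ⟨P, hP⟩ := hQ'.exists_le_sylow
  obtain ⟨T, hT⟩ := hR'.exists_le_sylow
  have hTR : (T : Subgroup D).map D.subtype ≤ R := by
    apply hmax
    · rintro _ ⟨x, -, rfl⟩; exact x.2
    · exact T.2.map _
    · intro r hr
      exact ⟨⟨r, hRD hr⟩, hT (Subgroup.mem_subgroupOf.mpr hr), rfl⟩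
  obtain ⟨g, hg⟩ := MulAction.exists_smul_eq D P T
  refine ⟨g, g.2, fun q hq => ?_⟩
  have h1 : (⟨q, hQD hq⟩ : D) ∈ (P : Subgroup D) := hP (Subgroup.mem_subgroupOf.mpr hq)
  have h2 : g * ⟨q, hQD hq⟩ * g⁻¹ ∈ ((g • P : Sylow 2 D) : Subgroup D) := by
    rw [Sylow.coe_subgroup_smul, ← MulAut.conj_apply]
    exact Subgroup.smul_mem_pointwise_smul _ _ _ h1
  rw [hg] at h2
  exact hTR ⟨_, h2, rfl⟩

/-- conjugation into a Sylow subgroup -/
theorem conj_into [Finite G] (S : Sylow 2 G) {H Q : Subgroup G} (hSH : (S : Subgroup G) ≤ H)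
    (hQ : IsPGroup 2 Q) (hQH : Q ≤ H) : ∃ h ∈ H, ∀ q ∈ Q, h * q * h⁻¹ ∈ (S : Subgroup G) := by
  apply conj_into_max hSH S.2 _ hQ hQH
  intro R' _ hR' hSR
  exact (S.3 hR' hSR).le

/-- the elements of `N(V)` commuting with `t` modulo `V` -/
def modCent (V : Subgroup G) (t : G) : Subgroup G where
  carrier := {d | d ∈ Subgroup.normalizer (V : Set G) ∧ d * t * d⁻¹ * t⁻¹ ∈ V}
  one_mem' := ⟨Subgroup.one_mem _, by
    have : (1 : G) * t * 1⁻¹ * t⁻¹ = 1 := by group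
    rw [this]; exact V.one_mem⟩
  mul_mem' := by
    rintro d e ⟨h1, h2⟩ ⟨h3, h4⟩
    refine ⟨Subgroup.mul_mem _ h1 h3, ?_⟩
    have : d * e * t * (d * e)⁻¹ * t⁻¹ = (d * (e * t * e⁻¹ * t⁻¹) * d⁻¹) * (d * t * d⁻¹ * t⁻¹) := by
      group
    rw [this]
    exact V.mul_mem ((Subgroup.mem_normalizer_iff.mp h1 _).mp h4) h2
  inv_mem' := by
    rintro d ⟨h1, h2⟩
    refine ⟨Subgroup.inv_mem _ h1, ?_⟩
    have : d⁻¹ * t * d⁻¹⁻¹ * t⁻¹ = d⁻¹ * (d * t * d⁻¹ * t⁻¹)⁻¹ * d⁻¹⁻¹ := by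
      group
    rw [this]
    exact (Subgroup.mem_normalizer_iff.mp (Subgroup.inv_mem _ h1) _).mp (V.inv_mem h2)

theorem mem_modCent {V : Subgroup G} {t d : G} : d ∈ modCent V t ↔
    d ∈ Subgroup.normalizer (V : Set G) ∧ d * t * d⁻¹ * t⁻¹ ∈ V := Iff.rfl

end Cfsg.Agent.StdAlt.Five.Kill
end

-- part: StdAlt/Five/KillA3
section
/-!
# S1766, `n = 5`, kill A3: the Sylow 2-subgroup `UT₃(4) : ⟨w⟩`, `w` linear

`HypA3.kill`: there is no such configuration in a group without normal subgroup of index 2.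
-/

set_option autoImplicit false

namespace Cfsg.Agent.StdAlt.Five.Kill

open Cfsg.Agent.J2Sylow.Model Cfsg.Agent.J2Sylow.Model.F4 KillModel

variable {G : Type*} [Group G]

theorem mz : ∀ a b : F4, a * b = 0 → a = 0 ∨ b = 0 := by decide

theorem isV_z : ∀ c : F4, K.IsV ⟨0, 0, c, false⟩ = true := by decide

/-- conjugate of a homomorphism -/
def cjh {A : Type*} [Group A] (φ : A →* G) (g : G) : A →* G := (MulAut.conj g).toMonoidHom.comp φ

theorem cjh_apply {A : Type*} [Group A] (φ : A →* G) (g : G) (x : A) :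
    cjh φ g x = g * φ x * g⁻¹ := rfl

/-- `V` in the model -/
def VK : Subgroup K where
  carrier := {x | K.IsV x = true}
  one_mem' := by decide
  mul_mem' := by
    intro x y (hx : K.IsV x = true) (hy : K.IsV y = true)
    change K.IsV (x * y) = true
    rw [K.isV_iff] at hx hy
    rw [hx, hy]
    generalize x.c = c
    generalize y.c = d
    revert c d; decide +kernel
  inv_mem' := by
    intro x (hx : K.IsV x = true)
    change K.IsV x⁻¹ = true
    rw [K.isV_iff] at hx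
    rw [hx]
    generalize x.c = c
    revert c; decide +kernel

/-- `P₁` in the model -/
def PK : Subgroup K where
  carrier := {x | x.i = false}
  one_mem' := rfl
  mul_mem' := by
    rintro ⟨a, b, c, i⟩ ⟨a', b', c', i'⟩ (hx : i = false) (hy : i' = false)
    subst hx; subst hy; rfl
  inv_mem' := by
    rintro ⟨a, b, c, i⟩ (hx : i = false)
    subst hx; rfl

/-- `F8` in the model -/
def FK : Subgroup K where
  carrier := {x | x.a = 0 ∧ x.b = 0}
  one_mem' := ⟨rfl, rfl⟩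
  mul_mem' := by
    rintro ⟨a, b, c, i⟩ ⟨a', b', c', i'⟩ ⟨h1, h2⟩ ⟨h3, h4⟩
    simp only at h1 h2 h3 h4
    subst h1 h2 h3 h4
    revert c c' i i'; decide +kernel
  inv_mem' := by
    rintro ⟨a, b, c, i⟩ ⟨h1, h2⟩
    simp only at h1 h2
    subst h1 h2
    revert c i; decide +kernel

/-- the centralizer of `W` modulo `V` -/
def DK : Subgroup K where
  carrier := {x | x.a = x.b}
  one_mem' := rfl
  mul_mem' := by
    rintro ⟨a, b, c, i⟩ ⟨a', b', c', i'⟩ (h1 : a = b) (h2 : a' = b')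
    subst h1 h2
    cases i
    · rfl
    · rfl
  inv_mem' := by
    rintro ⟨a, b, c, i⟩ (h1 : a = b)
    subst h1
    cases i <;> rfl

theorem card_PK : Nat.card PK = 64 := by
  rw [Nat.card_congr (show PK ≃ {x : K // x.i = false} from Equiv.subtypeEquivRight (fun _ => Iff.rfl)),
    Nat.card_eq_fintype_card, Fintype.card_subtype]
  decide +kernel

theorem card_FK : Nat.card FK = 8 := by
  rw [Nat.card_congr (show FK ≃ {x : K // x.a = 0 ∧ x.b = 0} from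
    Equiv.subtypeEquivRight (fun _ => Iff.rfl)), Nat.card_eq_fintype_card, Fintype.card_subtype]
  decide +kernel

theorem card_VK : Nat.card VK = 4 := by
  rw [Nat.card_congr (show VK ≃ {x : K // K.IsV x = true} from
    Equiv.subtypeEquivRight (fun _ => Iff.rfl)), Nat.card_eq_fintype_card, Fintype.card_subtype]
  decide +kernel

theorem card_K : Nat.card K = 128 := by
  rw [Nat.card_eq_fintype_card]
  decide +kernel

theorem pgroup_K : IsPGroup 2 K := IsPGroup.of_card (n := 7) (by rw [card_K]; norm_num)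

/-- the hypotheses of A3 -/
structure HypA3 [Finite G] (S : Sylow 2 G) (X Y Z : F4 → G) (W : G) : Prop where
  lin : Lin X Y Z W
  mem : ∀ g, g ∈ (S : Subgroup G) ↔ ∃ x, kFun X Y Z W x = g
  cX : ∀ a c, a ≠ 0 → IsConj (X 1) (X a * Z c)
  nZ : ∀ c, c ≠ 0 → ¬ IsConj (X 1) (Z c)
  cent : ∀ Q : Subgroup G, IsPGroup 2 Q → (∀ q ∈ Q, q * X 1 = X 1 * q) →
    ∃ k : G, k * X 1 = X 1 * k ∧ ∀ q ∈ Q, ∃ a c, k * q * k⁻¹ = X a * Z c

namespace HypA3

variable [Finite G] {S : Sylow 2 G} {X Y Z : F4 → G} {W : G}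

theorem S_mem (h : HypA3 S X Y Z W) (x : K) : h.lin.hom x ∈ (S : Subgroup G) := (h.mem _).mpr ⟨x, rfl⟩

theorem S_ex (h : HypA3 S X Y Z W) {g : G} (hg : g ∈ (S : Subgroup G)) : ∃ x, h.lin.hom x = g :=
  (h.mem _).mp hg

theorem map_pgroup (h : HypA3 S X Y Z W) (A : Subgroup K) (g : G) :
    IsPGroup 2 (A.map (cjh h.lin.hom g)) := (pgroup_K.to_subgroup A).map _

theorem memV (h : HypA3 S X Y Z W) {y : G} : y ∈ VK.map h.lin.hom ↔ ∃ c, Z c = y := by
  constructor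
  · rintro ⟨x, hx, rfl⟩
    refine ⟨x.c, ?_⟩
    rw [(K.isV_iff x).mp hx, h.lin.hom_Z]
  · rintro ⟨c, rfl⟩
    exact ⟨⟨0, 0, c, false⟩, by change K.IsV _ = true; revert c; decide, h.lin.hom_Z c⟩

theorem norm_V (h : HypA3 S X Y Z W) {g : G} (hg : ∀ c, ∃ c', g * Z c * g⁻¹ = Z c') :
    g ∈ Subgroup.normalizer ((VK.map h.lin.hom : Subgroup G) : Set G) := by
  have : Finite ((VK.map h.lin.hom : Subgroup G) : Set G) := Set.toFinite _
  apply Subgroup.mem_normalizer_fintype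
  intro n hn
  obtain ⟨c, rfl⟩ := h.memV.mp hn
  obtain ⟨c', hc'⟩ := hg c
  exact h.memV.mpr ⟨c', hc'.symm⟩

theorem S_norm (h : HypA3 S X Y Z W) (x : K) :
    h.lin.hom x ∈ Subgroup.normalizer ((VK.map h.lin.hom : Subgroup G) : Set G) := by
  apply h.norm_V
  intro c
  refine ⟨c, ?_⟩
  rw [← h.lin.hom_Z c, ← map_inv, ← map_mul, ← map_mul, K.conj_V]

/-- `W` is not conjugate to `X 1` -/
theorem W_nX (h : HypA3 S X Y Z W) : ¬ IsConj (X 1) W := by
  intro hc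
  have hc' := hc.symm
  rw [isConj_iff] at hc'
  obtain ⟨g, hg⟩ := hc'
  have hW : h.lin.hom K.W = W := h.lin.hom_W
  have hX : h.lin.hom ⟨1, 0, 0, false⟩ = X 1 := h.lin.hom_X 1
  obtain ⟨k, hk, hkQ⟩ := h.cent (FK.map (cjh h.lin.hom g)) (h.map_pgroup _ _) (by
    rintro _ ⟨x, hx, rfl⟩
    have h1 : x * K.W = K.W * x := K.of_comm_W x hx.1 hx.2
    have h2 : h.lin.hom x * W = W * h.lin.hom x := by
      have h3 := congrArg h.lin.hom h1
      rwa [map_mul, map_mul, hW] at h3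
    rw [cjh_apply, ← hg]
    calc g * h.lin.hom x * g⁻¹ * (g * W * g⁻¹) = g * (h.lin.hom x * W) * g⁻¹ := by group
      _ = g * (W * h.lin.hom x) * g⁻¹ := by rw [h2]
      _ = _ := by group)
  set g1 := k * g with hg1d
  have hg1 : g1 * W * g1⁻¹ = X 1 := by
    calc g1 * W * g1⁻¹ = k * (g * W * g⁻¹) * k⁻¹ := by rw [hg1d]; group
      _ = k * X 1 * k⁻¹ := by rw [hg]
      _ = X 1 := by rw [hk]; group
  have hV1 : ∀ c, ∃ c', g1 * Z c * g1⁻¹ = Z c' := by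
    intro c
    by_cases hc0 : c = 0
    · exact ⟨0, by rw [hc0, h.lin.Z0]; group⟩
    obtain ⟨a, c', e⟩ := hkQ (g * Z c * g⁻¹) ⟨⟨0, 0, c, false⟩, ⟨rfl, rfl⟩, by
      rw [cjh_apply, h.lin.hom_Z]⟩
    have e' : g1 * Z c * g1⁻¹ = X a * Z c' := by rw [← e, hg1d]; group
    by_cases ha : a = 0
    · exact ⟨c', by rw [e', ha, h.lin.X0, one_mul]⟩
    · exfalso
      apply h.nZ c hc0
      refine (h.cX a c' ha).trans (IsConj.symm ?_)
      rw [isConj_iff]
      exact ⟨g1, e'⟩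
  set V : Subgroup G := VK.map h.lin.hom with hVd
  have hg1N := h.norm_V hV1
  have hSN : (S : Subgroup G) ≤ Subgroup.normalizer (V : Set G) := by
    intro s hs
    obtain ⟨x, rfl⟩ := h.S_ex hs
    exact h.S_norm x
  -- `P₁`
  set P : Subgroup G := PK.map h.lin.hom with hPd
  have hPD : P ≤ modCent V (X 1) := by
    rintro _ ⟨x, hx, rfl⟩
    refine ⟨h.S_norm x, ⟨_, K.comm_X1 x hx, ?_⟩⟩
    simp only [map_mul, map_inv, hX]
  have hmax : ∀ R' : Subgroup G, R' ≤ modCent V (X 1) → IsPGroup 2 R' → P ≤ R' → R' ≤ P := by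
    intro R' hR' hpR' hPR'
    obtain ⟨n, hn, hnS⟩ := conj_into S hSN hpR' (fun r hr => (hR' hr).1)
    have hXP : X 1 ∈ P := ⟨_, show (⟨1, 0, 0, false⟩ : K) ∈ PK from rfl, hX⟩
    obtain ⟨τ, hτ⟩ := h.S_ex (hnS _ (hPR' hXP))
    have hX2 : X 1 * X 1 = 1 := by
      rw [h.lin.XX, F4.add_self, h.lin.X0]
    have hττ : τ * τ = 1 := by
      apply h.lin.hom_inj
      rw [map_mul, hτ, map_one]
      calc n * X 1 * n⁻¹ * (n * X 1 * n⁻¹) = n * (X 1 * X 1) * n⁻¹ := by group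
        _ = 1 := by rw [hX2]; group
    have hτV : K.IsV τ = false := by
      rw [Bool.eq_false_iff]
      intro hv
      have e1 : h.lin.hom τ = Z τ.c := by
        rw [(K.isV_iff τ).mp hv, h.lin.hom_Z]
      by_cases h0 : τ.c = 0
      · rw [h0, h.lin.Z0, hτ] at e1
        have e2 : X 1 = 1 := by
          have : X 1 = n⁻¹ * (n * X 1 * n⁻¹) * n := by group
          rw [this, e1]; group
        rw [← hX] at e2
        have e3 : (⟨1, 0, 0, false⟩ : K) = 1 := h.lin.hom_inj (by rw [e2, map_one])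
        revert e3; decide
      · apply h.nZ τ.c h0
        rw [← e1, hτ, isConj_iff]
        exact ⟨n, rfl⟩
    have hcard : Nat.card R' ≤ 64 := by
      have hf : ∀ r : R', ∃ x : K, h.lin.hom x = n * r * n⁻¹ := fun r => h.S_ex (hnS _ r.2)
      choose f hf using hf
      have hfV : ∀ r, f r ∈ Finset.univ.filter (fun x : K => K.IsV (x * τ * x⁻¹ * τ⁻¹) = true) := by
        intro r
        rw [Finset.mem_filter]
        refine ⟨Finset.mem_univ _, ?_⟩
        obtain ⟨_, hr2⟩ := hR' r.2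
        have h3 := (Subgroup.mem_normalizer_iff.mp hn _).mp hr2
        obtain ⟨y, hy, hy2⟩ := h3
        have : f r * τ * (f r)⁻¹ * τ⁻¹ = y := by
          apply h.lin.hom_inj
          rw [hy2]
          simp only [map_mul, map_inv, hf, hτ]
          group
        rw [this]
        exact hy
      have hinj : Function.Injective (fun r : R' => (⟨f r, hfV r⟩ :
          {x // x ∈ Finset.univ.filter (fun x : K => K.IsV (x * τ * x⁻¹ * τ⁻¹) = true)})) := by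
        intro r r' hrr
        have h1 : f r = f r' := congrArg Subtype.val hrr
        have h2 : n * (r : G) * n⁻¹ = n * (r' : G) * n⁻¹ := by rw [← hf, ← hf, h1]
        apply Subtype.ext
        have h3 := mul_right_cancel h2
        exact mul_left_cancel h3
      have hle := Nat.card_le_card_of_injective _ hinj
      refine hle.trans ?_
      rw [Nat.card_eq_fintype_card, Fintype.card_coe]
      exact K.card_comm τ hττ hτV
    have hPc : Nat.card P = 64 := by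
      rw [hPd, Subgroup.card_map_of_injective h.lin.hom_inj, card_PK]
    exact (Subgroup.eq_of_le_of_card_ge hPR' (by rw [hPc]; exact hcard)).ge
  have hDle : DK.map (cjh h.lin.hom g1) ≤ modCent V (X 1) := by
    rintro _ ⟨x, hx, rfl⟩
    rw [mem_modCent, cjh_apply]
    refine ⟨Subgroup.mul_mem _ (Subgroup.mul_mem _ hg1N (h.S_norm x)) (Subgroup.inv_mem _ hg1N), ?_⟩
    have h1 : K.IsV (x * K.W * x⁻¹ * K.W⁻¹) = true := K.comm_F2 x hx
    have h2 : h.lin.hom (x * K.W * x⁻¹ * K.W⁻¹) ∈ V := ⟨_, h1, rfl⟩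
    have h3 := (Subgroup.mem_normalizer_iff.mp hg1N _).mp h2
    simp only [map_mul, map_inv, hW] at h3
    rw [← hg1]
    have e : g1 * h.lin.hom x * g1⁻¹ * (g1 * W * g1⁻¹) * (g1 * h.lin.hom x * g1⁻¹)⁻¹ *
        (g1 * W * g1⁻¹)⁻¹ = g1 * (h.lin.hom x * W * (h.lin.hom x)⁻¹ * W⁻¹) * g1⁻¹ := by group
    rw [e]; exact h3
  obtain ⟨d, hd, hdP⟩ := conj_into_max hPD
    ((pgroup_K.to_subgroup PK).map _) hmax (h.map_pgroup DK g1) hDle
  obtain ⟨hdN, hdX⟩ := hd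
  obtain ⟨v, hv⟩ := h.memV.mp hdX
  set g2 := d * g1 with hg2d
  have hW2 : g2 * W * g2⁻¹ = h.lin.hom ⟨1, 0, v, false⟩ := by
    have e1 : g2 * W * g2⁻¹ = d * X 1 * d⁻¹ := by rw [← hg1, hg2d]; group
    have e2 : d * X 1 * d⁻¹ = Z v * X 1 := by rw [hv]; group
    have e3 : h.lin.hom ⟨1, 0, v, false⟩ = X 1 * Z v := by
      simp [Lin.hom_apply, h.lin.Y0]
    rw [e1, e2, e3, h.lin.ZX]
  have hconj : ∀ x : K, x ∈ DK → ∃ y ∈ PK, h.lin.hom y = g2 * h.lin.hom x * g2⁻¹ := by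
    intro x hx
    obtain ⟨y, hy, hy2⟩ := hdP (g1 * h.lin.hom x * g1⁻¹) ⟨x, hx, rfl⟩
    exact ⟨y, hy, by rw [hy2, hg2d]; group⟩
  have hrel : ∀ x y : K, h.lin.hom y = g2 * h.lin.hom x * g2⁻¹ → (x * x = 1 ↔ y * y = 1) := by
    intro x y hxy
    constructor
    · intro hx
      apply h.lin.hom_inj
      rw [map_mul, hxy, map_one]
      calc g2 * h.lin.hom x * g2⁻¹ * (g2 * h.lin.hom x * g2⁻¹) =
          g2 * (h.lin.hom x * h.lin.hom x) * g2⁻¹ := by group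
        _ = 1 := by rw [← map_mul, hx, map_one]; group
    · intro hy
      apply h.lin.hom_inj
      rw [map_mul, map_one]
      calc h.lin.hom x * h.lin.hom x = g2⁻¹ * ((g2 * h.lin.hom x * g2⁻¹) *
          (g2 * h.lin.hom x * g2⁻¹)) * g2 := by group
        _ = 1 := by rw [← hxy, ← map_mul, hy, map_one]; group
  obtain ⟨⟨a, b, c, i⟩, hπ, hπ2⟩ := hconj ⟨1, 1, 0, false⟩ rfl
  obtain ⟨⟨a', b', c', i'⟩, hκ, hκ2⟩ := hconj ⟨F4.w, F4.w, 0, false⟩ rfl
  change i = false at hπ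
  change i' = false at hκ
  subst hπ hκ
  have e1 : ¬ ((⟨a, b, c, false⟩ : K) * ⟨a, b, c, false⟩ = 1) := by
    rw [← hrel _ _ hπ2]; decide
  have e2 : ¬ ((⟨a', b', c', false⟩ : K) * ⟨a', b', c', false⟩ = 1) := by
    rw [← hrel _ _ hκ2]; decide
  have hπκ : h.lin.hom ((⟨a, b, c, false⟩ : K) * ⟨a', b', c', false⟩) =
      g2 * h.lin.hom ((⟨1, 1, 0, false⟩ : K) * ⟨F4.w, F4.w, 0, false⟩) * g2⁻¹ := by
    rw [map_mul, hπ2, hκ2, map_mul]; group
  have e3 : ¬ (((⟨a, b, c, false⟩ : K) * ⟨a', b', c', false⟩) *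
      ((⟨a, b, c, false⟩ : K) * ⟨a', b', c', false⟩) = 1) := by
    rw [← hrel _ _ hπκ]; decide
  have hWπ : h.lin.hom ((⟨1, 0, v, false⟩ : K) * ⟨a, b, c, false⟩) =
      g2 * h.lin.hom (K.W * ⟨1, 1, 0, false⟩) * g2⁻¹ := by
    rw [map_mul, ← hW2, hπ2, map_mul, hW]; group
  have hWκ : h.lin.hom ((⟨1, 0, v, false⟩ : K) * ⟨a', b', c', false⟩) =
      g2 * h.lin.hom (K.W * ⟨F4.w, F4.w, 0, false⟩) * g2⁻¹ := by
    rw [map_mul, ← hW2, hκ2, map_mul, hW]; group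
  have e4 := (hrel _ _ hWπ).mp (by decide)
  have e5 := (hrel _ _ hWκ).mp (by decide)
  rw [K.mul_false] at e3 e4 e5
  simp only at e3 e4 e5
  rw [K.sq_false] at e1 e2 e3 e4 e5
  have hz : ∀ t : F4, (⟨0, 0, t, false⟩ : K) = 1 ↔ t = 0 := by decide
  rw [hz] at e1 e2 e3 e4 e5
  rw [zero_add] at e4 e5
  exact K.key1 v a b c a' b' c' e1 e2 e3 e4 e5

theorem Y_conj (h : HypA3 S X Y Z W) (b c : F4) (hb : b ≠ 0) : IsConj (X 1) (Y b * Z c) := by
  refine (h.cX b c hb).trans ?_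
  rw [isConj_iff]
  refine ⟨W, ?_⟩
  have h1 : W * (X b * Z c) = Y b * Z c * W := by
    rw [← mul_assoc, h.lin.WX, mul_assoc, h.lin.WZ, mul_assoc]
  rw [h1]; group

theorem sq_lift (h : HypA3 S X Y Z W) {ξ : K} : h.lin.hom ξ * h.lin.hom ξ = 1 ↔ ξ * ξ = 1 := by
  rw [← map_mul]
  constructor
  · intro hx; apply h.lin.hom_inj; rw [hx, map_one]
  · intro hx; rw [hx, map_one]

theorem P_nonpure (h : HypA3 S X Y Z W) {ξ : K} (hi : ξ.i = false) (h2 : ξ * ξ = 1)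
    (hn : ¬ IsConj (X 1) (h.lin.hom ξ)) : K.IsV ξ = true := by
  obtain ⟨a, b, c, i⟩ := ξ
  change i = false at hi
  subst hi
  rw [K.sq_false] at h2
  have h3 : a * b = 0 := congrArg K.c h2
  have h4 : a = 0 ∨ b = 0 := mz a b h3
  by_cases ha : a = 0
  · by_cases hb : b = 0
    · subst ha hb
      exact isV_z c
    · exfalso
      apply hn
      have : h.lin.hom ⟨a, b, c, false⟩ = Y b * Z c := by
        simp [Lin.hom_apply, ha, h.lin.X0]
      rw [this]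
      exact h.Y_conj b c hb
  · exfalso
    have hb : b = 0 := h4.resolve_left ha
    apply hn
    have : h.lin.hom ⟨a, b, c, false⟩ = X a * Z c := by
      simp [Lin.hom_apply, hb, h.lin.Y0]
    rw [this]
    exact h.cX a c ha

/-- elementary abelian subgroups of order 8 without conjugates of `X 1` -/
theorem pure (h : HypA3 S X Y Z W) {A : Subgroup G} (hAS : A ≤ (S : Subgroup G))
    (h8 : Nat.card A = 8) (hel : ∀ x ∈ A, x * x = 1) (hp : ∀ x ∈ A, ¬ IsConj (X 1) x) :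
    ∃ p ∈ PK, ∀ x, x ∈ A ↔ h.lin.hom p * x * (h.lin.hom p)⁻¹ ∈ FK.map h.lin.hom := by
  have hcomm : ∀ x ∈ A, ∀ y ∈ A, x * y = y * x := by
    intro x hx y hy
    have h1 := hel _ (A.mul_mem hx hy)
    have h2 := hel _ hx
    have h3 := hel _ hy
    calc x * y = x * (x * y * (x * y)) * y := by rw [h1, mul_one]
      _ = (x * x) * y * x * (y * y) := by simp only [mul_assoc]
      _ = y * x := by rw [h2, h3, one_mul, mul_one]
  by_cases hall : ∀ x ∈ A, ∃ ξ ∈ PK, h.lin.hom ξ = x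
  · exfalso
    have hle : A ≤ VK.map h.lin.hom := by
      intro x hx
      obtain ⟨ξ, hξ, rfl⟩ := hall x hx
      exact ⟨ξ, h.P_nonpure hξ (h.sq_lift.mp (hel _ hx)) (hp _ hx), rfl⟩
    have h1 := Subgroup.card_le_of_le hle
    rw [h8, Subgroup.card_map_of_injective h.lin.hom_inj, card_VK] at h1
    omega
  · push Not at hall
    obtain ⟨x, hx, hx2⟩ := hall
    obtain ⟨ξ, rfl⟩ := h.S_ex (hAS hx)
    have hi : ξ.i = true := by
      cases hi : ξ.i
      · exact absurd rfl (hx2 ξ hi)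
      · rfl
    obtain ⟨a, b, hab⟩ := K.conj_W ξ (h.sq_lift.mp (hel _ hx)) hi
    refine ⟨⟨a, b, 0, false⟩, rfl, ?_⟩
    set p : K := ⟨a, b, 0, false⟩ with hpd
    have hle : A.map (MulAut.conj (h.lin.hom p)).toMonoidHom ≤ FK.map h.lin.hom := by
      rintro _ ⟨y, hy, rfl⟩
      obtain ⟨η, rfl⟩ := h.S_ex (hAS hy)
      refine ⟨p * η * p⁻¹, ?_, by simp only [_root_.map_mul, _root_.map_inv, _root_.MulEquiv.toMonoidHom_eq_coe, _root_.MonoidHom.coe_coe, _root_.MulAut.conj_apply]⟩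
      apply K.comm_W
      have h1 : η * ξ = ξ * η := by
        apply h.lin.hom_inj
        rw [map_mul, map_mul]
        exact hcomm _ hy _ hx
      rw [← hab]
      calc p * η * p⁻¹ * (p * ξ * p⁻¹) = p * (η * ξ) * p⁻¹ := by group
        _ = p * (ξ * η) * p⁻¹ := by rw [h1]
        _ = _ := by group
    have heq : A.map (MulAut.conj (h.lin.hom p)).toMonoidHom = FK.map h.lin.hom := by
      apply Subgroup.eq_of_le_of_card_ge hle
      rw [Subgroup.card_map_of_injective h.lin.hom_inj, card_FK,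
        Subgroup.card_map_of_injective (MulAut.conj (h.lin.hom p)).injective, h8]
    intro y
    rw [← heq]
    constructor
    · intro hy; exact ⟨y, hy, rfl⟩
    · rintro ⟨z, hz, hz2⟩
      have h3 : h.lin.hom p * z * (h.lin.hom p)⁻¹ = h.lin.hom p * y * (h.lin.hom p)⁻¹ := hz2
      have h4 := mul_left_cancel (mul_right_cancel h3)
      rw [← h4]; exact hz

/-- the elements of `F8` have square one -/
theorem F_sq (h : HypA3 S X Y Z W) {x : G} (hx : x ∈ FK.map h.lin.hom) : x * x = 1 := by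
  obtain ⟨ξ, ⟨h1, h2⟩, rfl⟩ := hx
  rw [h.sq_lift]
  obtain ⟨a, b, c, i⟩ := ξ
  simp only at h1 h2
  subst h1 h2
  revert c i; decide +kernel

/-- `F8` contains no conjugate of `X 1` -/
theorem F_pure (h : HypA3 S X Y Z W) {x : G} (hx : x ∈ FK.map h.lin.hom) : ¬ IsConj (X 1) x := by
  have hx2 := h.F_sq hx
  obtain ⟨ξ, ⟨h1, h2⟩, rfl⟩ := hx
  intro hc
  cases hi : ξ.i
  · have e : h.lin.hom ξ = Z ξ.c := by
      rw [Lin.hom_apply, h1, h2, hi]
      simp [h.lin.X0, h.lin.Y0]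
    by_cases h0 : ξ.c = 0
    · rw [e, h0, h.lin.Z0, isConj_one_left] at hc
      rw [← h.lin.hom_X 1] at hc
      have e3 : (⟨1, 0, 0, false⟩ : K) = 1 := h.lin.hom_inj (by rw [hc, map_one])
      revert e3; decide
    · exact h.nZ _ h0 (e ▸ hc)
  · obtain ⟨a, b, hab⟩ := K.conj_W ξ (h.sq_lift.mp hx2) hi
    apply h.W_nX
    refine hc.trans ?_
    rw [isConj_iff]
    refine ⟨h.lin.hom ⟨a, b, 0, false⟩, ?_⟩
    rw [← map_inv, ← map_mul, ← map_mul, hab]
    exact h.lin.hom_W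

/-- conjugates of `F8` in `S` -/
theorem F_conj (h : HypA3 S X Y Z W) (g : G)
    (hg : ∀ x ∈ FK.map h.lin.hom, g * x * g⁻¹ ∈ (S : Subgroup G)) :
    ∃ p ∈ PK, h.lin.hom p * g ∈ Subgroup.normalizer ((FK.map h.lin.hom : Subgroup G) : Set G) := by
  set A : Subgroup G := (FK.map h.lin.hom).map (MulAut.conj g).toMonoidHom with hA
  obtain ⟨p, hp, hp2⟩ := h.pure (A := A) (by
      rintro _ ⟨x, hx, rfl⟩; exact hg x hx) (by
      rw [hA, Subgroup.card_map_of_injective (MulAut.conj g).injective,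
        Subgroup.card_map_of_injective h.lin.hom_inj, card_FK]) (by
      rintro _ ⟨x, hx, rfl⟩
      change g * x * g⁻¹ * (g * x * g⁻¹) = 1
      calc g * x * g⁻¹ * (g * x * g⁻¹) = g * (x * x) * g⁻¹ := by group
        _ = 1 := by rw [h.F_sq hx]; group) (by
      rintro _ ⟨x, hx, rfl⟩ hc
      apply h.F_pure hx
      refine hc.trans (IsConj.symm ?_)
      rw [isConj_iff]
      exact ⟨g, rfl⟩)
  refine ⟨p, hp, ?_⟩
  rw [Subgroup.mem_normalizer_iff]
  intro x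
  have e : h.lin.hom p * g * x * (h.lin.hom p * g)⁻¹ =
      h.lin.hom p * (g * x * g⁻¹) * (h.lin.hom p)⁻¹ := by group
  rw [e, ← hp2]
  constructor
  · intro hx; exact ⟨x, hx, rfl⟩
  · rintro ⟨z, hz, hz2⟩
    have h3 : g * z * g⁻¹ = g * x * g⁻¹ := hz2
    have h4 := mul_left_cancel (mul_right_cancel h3)
    rw [← h4]; exact hz

/-- squares of 2-elements normalizing `F8` centralize `F8` -/
theorem sq_comm (h : HypA3 S X Y Z W) {x : G}
    (hx : x ∈ Subgroup.normalizer ((FK.map h.lin.hom : Subgroup G) : Set G)) {k : ℕ}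
    (h2 : x ^ 2 ^ k = 1) {y : G} (hy : y ∈ FK.map h.lin.hom) : Commute (x * x) y := by
  set F : Subgroup G := FK.map h.lin.hom with hF
  have hz : IsPGroup 2 (Subgroup.zpowers x) := by
    rintro ⟨z, hz⟩
    obtain ⟨i, rfl⟩ := Subgroup.mem_zpowers_iff.mp hz
    refine ⟨k, ?_⟩
    apply Subtype.ext
    change (x ^ i) ^ 2 ^ k = 1
    rw [← zpow_natCast, ← zpow_mul, mul_comm, zpow_mul, zpow_natCast, h2, one_zpow]
  have hQ := hz.to_sup_of_normal_right' ((pgroup_K.to_subgroup FK).map h.lin.hom)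
    (by rw [Subgroup.zpowers_le]; exact hx)
  obtain ⟨n, -, hn⟩ := conj_into S (H := ⊤) le_top hQ le_top
  obtain ⟨p, hp, hpn⟩ := h.F_conj n (fun z hz => hn z (Subgroup.mem_sup_right hz))
  set m := h.lin.hom p * n with hm
  have hxS : m * x * m⁻¹ ∈ (S : Subgroup G) := by
    have e : m * x * m⁻¹ = h.lin.hom p * (n * x * n⁻¹) * (h.lin.hom p)⁻¹ := by rw [hm]; group
    rw [e]
    exact (S : Subgroup G).mul_mem ((S : Subgroup G).mul_mem (h.S_mem p)
      (hn x (Subgroup.mem_sup_left (Subgroup.mem_zpowers x)))) ((S : Subgroup G).inv_mem (h.S_mem p))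
  obtain ⟨ξ, hξ⟩ := h.S_ex hxS
  have hξN : m * x * m⁻¹ ∈ Subgroup.normalizer (F : Set G) :=
    Subgroup.mul_mem _ (Subgroup.mul_mem _ hpn hx) (Subgroup.inv_mem _ hpn)
  have hWF : h.lin.hom K.W ∈ F := ⟨K.W, ⟨rfl, rfl⟩, rfl⟩
  have h3 := (Subgroup.mem_normalizer_iff.mp hξN _).mp hWF
  rw [← hξ, ← map_inv, ← map_mul, ← map_mul] at h3
  obtain ⟨η, ⟨hη1, hη2⟩, hη⟩ := h3
  have h4 := h.lin.hom_inj hη
  rw [h4] at hη1 hη2
  have h5 := K.norm_F ξ hη1 hη2
  have h6 := (Subgroup.mem_normalizer_iff.mp hpn y).mp hy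
  obtain ⟨ζ, -, hζ⟩ := h6
  have h7 : Commute (h.lin.hom (ξ * ξ)) (h.lin.hom ζ) := by
    change _ * _ = _ * _
    have h8 := K.conj_V ζ (ξ * ξ).c
    rw [← (K.isV_iff _).mp h5, mul_inv_eq_iff_eq_mul] at h8
    rw [← map_mul, ← map_mul, ← h8]
  rw [map_mul, hξ, hζ] at h7
  have h9 : m * x * m⁻¹ * (m * x * m⁻¹) = m * (x * x) * m⁻¹ := by group
  rw [h9] at h7
  exact (Commute.conj_iff m).mp h7

/-- `W` is not conjugate to an element of `Z` -/
theorem W_nZ (h : HypA3 S X Y Z W) {b : F4} : ¬ IsConj W (Z b) := by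
  intro hc
  rw [isConj_iff] at hc
  obtain ⟨g, hg⟩ := hc
  set F : Subgroup G := FK.map h.lin.hom with hF
  have hW : h.lin.hom K.W = W := h.lin.hom_W
  have hZc : ∀ (p : K) (c : F4), h.lin.hom p * Z c = Z c * h.lin.hom p := by
    intro p c
    have h8 := K.conj_V p c
    rw [mul_inv_eq_iff_eq_mul] at h8
    have h9 := congrArg h.lin.hom h8
    rwa [map_mul, map_mul, h.lin.hom_Z] at h9
  obtain ⟨k, hk, hkS⟩ := conj_into S (H := Subgroup.centralizer {Z b})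
    (Q := F.map (MulAut.conj g).toMonoidHom) (by
      intro s hs
      obtain ⟨x, rfl⟩ := h.S_ex hs
      rw [Subgroup.mem_centralizer_singleton_iff]
      exact hZc x b) (((pgroup_K.to_subgroup FK).map _).map _) (by
      rintro _ ⟨_, ⟨x, hx, rfl⟩, rfl⟩
      rw [Subgroup.mem_centralizer_singleton_iff]
      change g * h.lin.hom x * g⁻¹ * Z b = Z b * (g * h.lin.hom x * g⁻¹)
      have h3 := congrArg h.lin.hom (K.of_comm_W x hx.1 hx.2)
      rw [map_mul, map_mul, hW] at h3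
      rw [← hg]
      calc g * h.lin.hom x * g⁻¹ * (g * W * g⁻¹) = g * (h.lin.hom x * W) * g⁻¹ := by group
        _ = g * (W * h.lin.hom x) * g⁻¹ := by rw [h3]
        _ = _ := by group)
  rw [Subgroup.mem_centralizer_singleton_iff] at hk
  obtain ⟨p, hp, hpn⟩ := h.F_conj (k * g) (fun x hx => by
    have := hkS (g * x * g⁻¹) ⟨x, hx, rfl⟩
    have e : k * g * x * (k * g)⁻¹ = k * (g * x * g⁻¹) * k⁻¹ := by group
    rw [e]; exact this)
  set m := h.lin.hom p * (k * g) with hm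
  have hmW : m * W * m⁻¹ = Z b := by
    calc m * W * m⁻¹ = h.lin.hom p * (k * (g * W * g⁻¹) * k⁻¹) * (h.lin.hom p)⁻¹ := by
          rw [hm]; group
      _ = h.lin.hom p * Z b * (h.lin.hom p)⁻¹ := by rw [hg, hk]; group
      _ = Z b := by rw [hZc]; group
  -- the images of the elements of `Z`
  have hf : ∀ c, ∃ x ∈ FK, h.lin.hom x = m * Z c * m⁻¹ := by
    intro c
    have h1 : Z c ∈ F := ⟨⟨0, 0, c, false⟩, ⟨rfl, rfl⟩, h.lin.hom_Z c⟩
    exact (Subgroup.mem_normalizer_iff.mp hpn _).mp h1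
  choose f hfF hf using hf
  have hfadd : ∀ c d, f (c + d) = f c * f d := by
    intro c d
    apply h.lin.hom_inj
    rw [map_mul, hf, hf, hf, ← h.lin.ZZ]; group
  have hf0 : f 0 = 1 := by
    apply h.lin.hom_inj
    rw [hf, h.lin.Z0, map_one]; group
  have hfi : ∀ c d, (f (c + d)).i = xor (f c).i (f d).i := by
    intro c d
    rw [hfadd]
    generalize f c = x
    generalize f d = y
    obtain ⟨a, b, c, i⟩ := x
    cases i
    · rw [K.mul_false]; simp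
    · rw [K.mul_true]; simp
  have hfz : ∀ c, (f c).i = false → m * Z c * m⁻¹ = Z (f c).c := by
    intro c hc
    rw [← hf, Lin.hom_apply, (hfF c).1, (hfF c).2, hc]
    simp [h.lin.X0, h.lin.Y0]
  have hfw : ∀ c, (f c).i = true → h.lin.hom ⟨0, 0, (f c).c, true⟩ = m * Z c * m⁻¹ := by
    intro c hc
    rw [← hf]
    congr 1
    ext
    · exact (hfF c).1.symm
    · exact (hfF c).2.symm
    · rfl
    · exact hc.symm
  obtain ⟨ε, hε⟩ : ∃ ε, (f ε).i = true := by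
    by_contra hcon
    push Not at hcon
    have h1 : ∀ c, (f c).i = false := fun c => by simpa using hcon c
    have hinj : Function.Injective (fun c => (f c).c) := by
      intro c d hcd
      have hcd' : (f c).c = (f d).c := hcd
      have h2 : m * Z c * m⁻¹ = m * Z d * m⁻¹ := by rw [hfz c (h1 c), hfz d (h1 d), hcd']
      have h3 := mul_left_cancel (mul_right_cancel h2)
      rw [← h.lin.hom_Z, ← h.lin.hom_Z] at h3
      exact congrArg K.c (h.lin.hom_inj h3)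
    obtain ⟨c, hc⟩ := (Finite.injective_iff_surjective.mp hinj) b
    have h2 : m * Z c * m⁻¹ = m * W * m⁻¹ := by
      rw [hfz c (h1 c), hmW]; exact congrArg Z hc
    have h3 := mul_left_cancel (mul_right_cancel h2)
    rw [← h.lin.hom_Z] at h3
    have h4 : false = true := congrArg K.i (h.lin.hom_inj (h3.trans hW.symm))
    exact Bool.false_ne_true h4
  have hε0 : ε ≠ 0 := by
    rintro rfl
    rw [hf0] at hε
    exact absurd hε (by decide)
  obtain ⟨γ, hγ0, hγ⟩ : ∃ γ, γ ≠ 0 ∧ (f γ).i = false := by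
    cases h1 : (f (F4.w * ε)).i
    · exact ⟨_, K.wne ε hε0, h1⟩
    · refine ⟨F4.w * ε + ε, K.wne2 ε hε0, ?_⟩
      rw [hfi, h1, hε]; rfl
  have hc0 := hfz γ hγ
  set γ' := (f γ).c with hγ'
  have hγ'0 : Z γ' ≠ 1 := by
    intro h1
    rw [h1] at hc0
    have h2 : Z γ = 1 := by
      have : Z γ = m⁻¹ * (m * Z γ * m⁻¹) * m := by group
      rw [this, hc0]; group
    rw [← h.lin.hom_Z] at h2
    have h3 : (⟨0, 0, γ, false⟩ : K) = 1 := h.lin.hom_inj (by rw [h2, map_one])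
    exact hγ0 (congrArg K.c h3)
  set e' := m * Z ε * m⁻¹ with he'
  have hew : h.lin.hom ⟨0, 0, (f ε).c, true⟩ = e' := hfw ε hε
  -- the transvections
  set u := h.lin.hom ⟨fr b, fr b, 0, false⟩ with hu
  set u' := m * h.lin.hom ⟨fr γ, fr γ, 0, false⟩ * m⁻¹ with hu'
  have hue : u * e' * u⁻¹ = e' * Z b := by
    rw [← hew, hu, ← map_inv, ← map_mul, ← map_mul, K.trans_W, K.fr_sq, ← h.lin.hom_Z b, ← map_mul, K.mul_z]
  have huZ : ∀ c, u * Z c * u⁻¹ = Z c := by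
    intro c; rw [hu, hZc]; group
  have hu'e : u' * e' * u'⁻¹ = e' := by
    have h1 := hZc ⟨fr γ, fr γ, 0, false⟩ ε
    calc u' * e' * u'⁻¹ = m * (h.lin.hom ⟨fr γ, fr γ, 0, false⟩ * Z ε) *
          (h.lin.hom ⟨fr γ, fr γ, 0, false⟩)⁻¹ * m⁻¹ := by rw [hu', he']; group
      _ = e' := by rw [h1, he']; group
  have hu'c : u' * Z γ' * u'⁻¹ = Z γ' := by
    rw [← hc0]
    have h1 := hZc ⟨fr γ, fr γ, 0, false⟩ γ
    calc u' * (m * Z γ * m⁻¹) * u'⁻¹ = m * (h.lin.hom ⟨fr γ, fr γ, 0, false⟩ * Z γ) *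
          (h.lin.hom ⟨fr γ, fr γ, 0, false⟩)⁻¹ * m⁻¹ := by rw [hu']; group
      _ = _ := by rw [h1]; group
  have hu'b : u' * Z b * u'⁻¹ = Z b * Z γ' := by
    have h1 : h.lin.hom ⟨fr γ, fr γ, 0, false⟩ * W * (h.lin.hom ⟨fr γ, fr γ, 0, false⟩)⁻¹ =
        W * Z γ := by
      have h2 := congrArg h.lin.hom (K.trans_W0 (fr γ))
      rwa [map_mul, map_mul, map_mul, map_inv, K.fr_sq, hW, h.lin.hom_Z] at h2
    rw [← hmW, ← hc0]
    calc u' * (m * W * m⁻¹) * u'⁻¹ = m * (h.lin.hom ⟨fr γ, fr γ, 0, false⟩ * W *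
          (h.lin.hom ⟨fr γ, fr γ, 0, false⟩)⁻¹) * m⁻¹ := by rw [hu']; group
      _ = m * (W * Z γ) * m⁻¹ := by rw [h1]
      _ = _ := by group
  have hnorm : ∀ a : F4, h.lin.hom ⟨a, a, 0, false⟩ ∈ Subgroup.normalizer (F : Set G) := by
    intro a
    have : Finite (F : Set G) := Set.toFinite _
    apply Subgroup.mem_normalizer_fintype
    rintro _ ⟨⟨x, y, c, i⟩, ⟨hx, hy⟩, rfl⟩
    simp only at hx hy
    subst hx hy
    refine ⟨(⟨a, a, 0, false⟩ : K) * ⟨0, 0, c, i⟩ * (⟨a, a, 0, false⟩ : K)⁻¹, ?_, by simp only [_root_.map_mul, _root_.map_inv]⟩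
    cases i
    · rw [K.conj_V]; exact ⟨rfl, rfl⟩
    · rw [K.trans_W]; exact ⟨rfl, rfl⟩
  set y := u * u' with hy
  have hyN : y ∈ Subgroup.normalizer (F : Set G) :=
    Subgroup.mul_mem _ (hnorm _) (Subgroup.mul_mem _ (Subgroup.mul_mem _ hpn (hnorm _))
      (Subgroup.inv_mem _ hpn))
  have cy : ∀ t, y * t * y⁻¹ = u * (u' * t * u'⁻¹) * u⁻¹ := by intro t; rw [hy]; group
  have y1 : y * e' * y⁻¹ = e' * Z b := by rw [cy, hu'e, hue]
  have y2 : y * Z γ' * y⁻¹ = Z γ' := by rw [cy, hu'c, huZ]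
  have y3 : y * Z b * y⁻¹ = Z b * Z γ' := by
    rw [cy, hu'b, h.lin.ZZ, huZ]
  have hbb : ∀ c, Z c * Z c = 1 := fun c => by rw [h.lin.ZZ, F4.add_self, h.lin.Z0]
  have y4 : y ^ 2 * e' * (y ^ 2)⁻¹ = e' * Z γ' := by
    calc y ^ 2 * e' * (y ^ 2)⁻¹ = y * (y * e' * y⁻¹) * y⁻¹ := by rw [pow_two]; group
      _ = y * (e' * Z b) * y⁻¹ := by rw [y1]
      _ = (y * e' * y⁻¹) * (y * Z b * y⁻¹) := by group
      _ = e' * Z b * (Z b * Z γ') := by rw [y1, y3]
      _ = e' * (Z b * Z b) * Z γ' := by group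
      _ = _ := by rw [hbb, mul_one]
  have y5 : y ^ 4 * e' * (y ^ 4)⁻¹ = e' := by
    have e4 : y ^ 4 = y ^ 2 * y ^ 2 := by rw [← pow_add]
    calc y ^ 4 * e' * (y ^ 4)⁻¹ = y ^ 2 * (y ^ 2 * e' * (y ^ 2)⁻¹) * (y ^ 2)⁻¹ := by
          rw [e4]; group
      _ = y ^ 2 * (e' * Z γ') * (y ^ 2)⁻¹ := by rw [y4]
      _ = (y ^ 2 * e' * (y ^ 2)⁻¹) * (y ^ 2 * Z γ' * (y ^ 2)⁻¹) := by group
      _ = (y ^ 2 * e' * (y ^ 2)⁻¹) * (y * (y * Z γ' * y⁻¹) * y⁻¹) := by rw [pow_two]; group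
      _ = e' * (Z γ' * Z γ') := by rw [y4, y2, y2, mul_assoc]
      _ = e' := by rw [hbb, mul_one]
  have c4 : Commute (y ^ 4) e' := mul_inv_eq_iff_eq_mul.mp y5
  obtain ⟨K0, M0, hodd, hord⟩ := Nat.exists_eq_two_pow_mul_odd (orderOf_pos y).ne'
  have hx2 : (y ^ M0) ^ 2 ^ K0 = 1 := by
    rw [← pow_mul, mul_comm, ← hord, pow_orderOf_eq_one]
  have heF : e' ∈ F := ⟨_, ⟨rfl, rfl⟩, hew⟩
  have hc := h.sq_comm (Subgroup.pow_mem _ hyN M0) hx2 heF
  obtain ⟨j, hj⟩ := hodd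
  have e1 : y ^ M0 * y ^ M0 = (y ^ 4) ^ j * y ^ 2 := by
    rw [← pow_add, ← pow_mul, ← pow_add]; congr 1; omega
  rw [e1] at hc
  have c2 : Commute (y ^ 2) e' := by
    have h1 := ((c4.pow_left j).inv_left).mul_left hc
    rwa [inv_mul_cancel_left] at h1
  apply hγ'0
  have h1 : y ^ 2 * e' * (y ^ 2)⁻¹ = e' := by rw [c2.eq]; group
  rw [y4] at h1
  exact mul_eq_left.mp h1

theorem S_eq (h : HypA3 S X Y Z W) : (S : Subgroup G) = (⊤ : Subgroup K).map h.lin.hom := by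
  ext g
  rw [h.mem]
  constructor
  · rintro ⟨x, hx⟩; exact ⟨x, trivial, hx⟩
  · rintro ⟨x, -, hx⟩; exact ⟨x, hx⟩

/-- **Kill A3** -/
theorem kill (h : HypA3 S X Y Z W) (hidx : ∀ M : Subgroup G, M.Normal → M.index ≠ 2) : False := by
  have hW : h.lin.hom K.W = W := h.lin.hom_W
  have hindex : PK.index = 2 := by
    have h1 := PK.card_mul_index
    rw [card_PK, card_K] at h1
    omega
  have hne : W ≠ 1 := by
    intro h1
    have h2 : K.W = 1 := h.lin.hom_inj (hW.trans (h1.trans (map_one _).symm))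
    exact absurd h2 (by decide)
  have hord : orderOf W = 2 := by
    rw [orderOf_eq_prime_iff]
    exact ⟨by rw [pow_two, h.lin.WW], hne⟩
  rcases Cfsg.Agent.S0111.result S (PK.map h.lin.hom) (by
      rintro _ ⟨x, -, rfl⟩; exact h.S_mem x) (by
      rw [h.S_eq, Subgroup.relIndex_map_map_of_injective _ _ h.lin.hom_inj,
        Subgroup.relIndex_top_right, hindex]) W hord (by rw [← hW]; exact h.S_mem _) (by
      rintro ⟨x, hx, hx2⟩
      have h3 := h.lin.hom_inj (hx2.trans hW.symm)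
      rw [h3] at hx
      exact Bool.false_ne_true hx.symm) with ⟨M, hM, hM2, -⟩ | ⟨g, ξ, hξ, hξ2⟩
  · exact hidx M hM hM2
  · have h2 : ξ * ξ = 1 := by
      rw [← h.sq_lift, hξ2]
      calc g * W * g⁻¹ * (g * W * g⁻¹) = g * (W * W) * g⁻¹ := by group
        _ = 1 := by rw [h.lin.WW]; group
    have hc : IsConj W (h.lin.hom ξ) := by
      rw [isConj_iff]; exact ⟨g, hξ2.symm⟩
    by_cases h3 : IsConj (X 1) (h.lin.hom ξ)
    · exact h.W_nX (h3.trans hc.symm)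
    · have h4 := h.P_nonpure hξ h2 h3
      rw [(K.isV_iff ξ).mp h4, h.lin.hom_Z] at hc
      exact h.W_nZ hc

end HypA3

end Cfsg.Agent.StdAlt.Five.Kill
end

-- part: StdAlt/Five/KillFactsL
section
/-!
# Facts about the group `L` of order 256, by computation
-/

set_option autoImplicit false

namespace Cfsg.Agent.StdAlt.Five.KillModel

open Cfsg.Agent.J2Sylow.Model Cfsg.Agent.J2Sylow.Model.F4

namespace L

/-- listing -/
def equivProd : L ≃ K × Bool where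
  toFun x := (x.k, x.j)
  invFun y := ⟨y.1, y.2⟩
  left_inv _ := rfl
  right_inv _ := rfl

instance : Fintype L := Fintype.ofEquiv _ equivProd.symm

/-- the field automorphism -/
def s : L := ⟨1, true⟩

/-- the product of the swap and the field automorphism -/
def v : L := ⟨K.W, true⟩

/-- `Z 1` -/
def z : L := ⟨⟨0, 0, 1, false⟩, false⟩

/-- an element of order 8 -/
def y8 : L := ⟨⟨1, 0, 0, true⟩, false⟩

/-- `V` -/
def IsV (x : L) : Bool := K.IsV x.k && !x.j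

/-- `E⟨s⟩` -/
def IsE (x : L) : Bool := decide (x.k.b = 0) && !x.k.i

theorem y8_s : y8 * s = s * y8 := by decide

theorem y8_pow : y8 * y8 * (y8 * y8) ≠ 1 := by decide

theorem E_pow : ∀ x : L, IsE x = true → x * x * (x * x) = 1 := by decide +kernel

theorem z_central : ∀ x : L, x * z = z * x := by decide +kernel

/-- the centralizer of `t` -/
def cS (t : L) : Finset L := Finset.univ.filter (fun x : L => x * t = t * x)

/-- the centralizer of `t` in `E⟨s⟩` -/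
def eS (t : L) : Finset L := Finset.univ.filter (fun x : L => IsE x = true ∧ x * t = t * x)

/-- the solutions of `x² = 1` in the centralizer of `t` -/
def iS (t : L) : Finset L := Finset.univ.filter (fun x : L => x * t = t * x ∧ x * x = 1)

theorem mem_cS {t x : L} : x ∈ cS t ↔ x * t = t * x := by simp only [cS, _root_.Finset.mem_filter, _root_.Finset.mem_univ, _root_.true_and]

theorem mem_eS {t x : L} : x ∈ eS t ↔ IsE x = true ∧ x * t = t * x := by simp only [eS, _root_.Finset.mem_filter, _root_.Finset.mem_univ, _root_.true_and]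

theorem mem_iS {t x : L} : x ∈ iS t ↔ x * t = t * x ∧ x * x = 1 := by simp only [iS, _root_.Finset.mem_filter, _root_.Finset.mem_univ, _root_.true_and]

/-- equality in `F4` -/
private def eq415 : F4 → F4 → Bool
  | .o, .o => true
  | .e, .e => true
  | .w, .w => true
  | .u, .u => true
  | _, _ => false

private theorem eq415_iff : ∀ x y : F4, eq415 x y = true ↔ x = y := by decide

private def s415 (f : F4 → ℕ) : ℕ := Nat.add (f .o) (Nat.add (f .e) (Nat.add (f .w) (f .u)))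

private theorem s415_eq (f : F4 → ℕ) : ∑ x, f x = s415 f := by
  show ∑ x ∈ ({F4.o, F4.e, F4.w, F4.u} : Finset F4), f x = _
  rw [Finset.sum_insert (by decide), Finset.sum_insert (by decide), Finset.sum_insert (by decide), Finset.sum_singleton]
  rfl

private def eqL15 (x y : L) : ℕ := Bool.rec 0 (Bool.rec 0 (Bool.rec 0 (Bool.rec 0 1 (x.k.i == y.k.i && x.j == y.j))
  (eq415 x.k.c y.k.c)) (eq415 x.k.b y.k.b)) (eq415 x.k.a y.k.a)

private theorem eqL15_eq (x y : L) : eqL15 x y = if x = y then 1 else 0 := by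
  have h : ∀ p q r s : Bool, (Bool.rec 0 (Bool.rec 0 (Bool.rec 0 (Bool.rec 0 1 s) r) q) p : ℕ) =
    if (p = true ∧ q = true ∧ r = true ∧ s = true) then 1 else 0 := by decide
  refine (h _ _ _ _).trans (if_congr ?_ rfl rfl)
  rw [eq415_iff, eq415_iff, eq415_iff, Bool.and_eq_true, beq_iff_eq, beq_iff_eq, L.ext_iff, K.ext_iff]
  tauto

private def cnt15 (t : L) : ℕ := s415 fun a => s415 fun b => s415 fun c =>
  Nat.add (Nat.add (eqL15 (L.mul ⟨⟨a, b, c, true⟩, true⟩ t) (L.mul t ⟨⟨a, b, c, true⟩, true⟩))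
    (eqL15 (L.mul ⟨⟨a, b, c, true⟩, false⟩ t) (L.mul t ⟨⟨a, b, c, true⟩, false⟩)))
    (Nat.add (eqL15 (L.mul ⟨⟨a, b, c, false⟩, true⟩ t) (L.mul t ⟨⟨a, b, c, false⟩, true⟩))
    (eqL15 (L.mul ⟨⟨a, b, c, false⟩, false⟩ t) (L.mul t ⟨⟨a, b, c, false⟩, false⟩)))

private theorem cnt15_eq (t : L) : (cS t).card = cnt15 t := by
  have h1 : ∀ f : L → ℕ, ∑ x, f x = ∑ a, ∑ b, ∑ c, ∑ i, ∑ j, f ⟨⟨a, b, c, i⟩, j⟩ := fun f => by
    rw [← equivProd.symm.sum_comp, Fintype.sum_prod_type, ← K.equivProd.symm.sum_comp]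
    simp only [Fintype.sum_prod_type]
    rfl
  delta cS
  rw [Finset.card_filter, h1]
  simp only [s415_eq, Fintype.sum_bool, ← eqL15_eq]
  rfl

private noncomputable def _root_.Cfsg.Agent.KOa3adfcc.k1 : type_of% @instDecidableAnd := @(fun x0 x1 x2 x3 => @Decidable.rec.{1} _ @(fun x4 => @Decidable (@And @x0 @x1)) @(fun x4 => @Decidable.isFalse _ (@instDecidableAnd._proof_2 _ _ @x4)) @(fun x4 => @Decidable.rec.{1} _ @(fun x5 => @Decidable (@And @x0 @x1)) @(fun x5 => @Decidable.isFalse _ (@instDecidableAnd._proof_1 _ _ @x5)) @(fun x5 => @Decidable.isTrue _ (@And.intro _ _ @x4 @x5)) @x3) @x2)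
private theorem _root_.Cfsg.Agent.KOa3adfcc.e1 : @instDecidableAnd = @_root_.Cfsg.Agent.KOa3adfcc.k1 := by delta _root_.Cfsg.Agent.KOa3adfcc.k1; rfl'
private noncomputable def _root_.Cfsg.Agent.KOa3adfcc.k13 : (by first | exact type_of% @Cfsg.Agent.StdAlt.Five.KillModel.L.eq415 | exact Unit : Sort _) := by first | (refine @Subtype.val _ (fun g => @Cfsg.Agent.StdAlt.Five.KillModel.L.eq415 = @g) (@Subtype.mk _ _ (@(fun x0 x1 => @Cfsg.Agent.J2Sylow.Model.F4.rec.{1} @(fun x2 => @Bool) (@Cfsg.Agent.J2Sylow.Model.F4.rec.{1} @(fun x2 => ((@Nat.hasNotBit (nat_lit 1) (@Cfsg.Agent.J2Sylow.Model.F4.ctorIdx @x2)) → @Bool) → @Bool) @(fun x2 => @Bool.true) @(fun x2 => @x2 (@Nat.ne_of_beq_eq_false _ _ (@Eq.refl.{1} _ @Bool.false))) @(fun x2 => @x2 (@Nat.ne_of_beq_eq_false _ _ (@Eq.refl.{1} _ @Bool.false))) @(fun x2 => @x2 (@Nat.ne_of_beq_eq_false _ _ (@Eq.refl.{1} _ @Bool.false))) @x1 @(fun x2 => @Bool.false)) (@Cfsg.Agent.J2Sylow.Model.F4.rec.{1}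 @(fun x2 => ((@Nat.hasNotBit (nat_lit 2) (@Cfsg.Agent.J2Sylow.Model.F4.ctorIdx @x2)) → @Bool) → @Bool) @(fun x2 => @x2 (@Nat.ne_of_beq_eq_false _ _ (@Eq.refl.{1} _ @Bool.false))) @(fun x2 => @Bool.true) @(fun x2 => @x2 (@Nat.ne_of_beq_eq_false _ _ (@Eq.refl.{1} _ @Bool.false))) @(fun x2 => @x2 (@Nat.ne_of_beq_eq_false _ _ (@Eq.refl.{1} _ @Bool.false))) @x1 @(fun x2 => @Bool.false)) (@Cfsg.Agent.J2Sylow.Model.F4.rec.{1} @(fun x2 => ((@Nat.hasNotBit (nat_lit 4) (@Cfsg.Agent.J2Sylow.Model.F4.ctorIdx @x2)) → @Bool) → @Bool) @(fun x2 => @x2 (@Nat.ne_of_beq_eq_false _ _ (@Eq.refl.{1} _ @Bool.false))) @(fun x2 => @x2 (@Nat.ne_of_beq_eq_false _ _ (@Eq.refl.{1} _ @Bool.false))) @(fun x2 => @Bool.true) @(fun x2 => @x2 (@Nat.ne_of_beq_eq_false _ _ (@Eq.refl.{1} _ @Bool.false))) @x1 @(fun x2 => @Bool.false)) (@Cfsg.Agent.J2Sylow.Model.F4.rec.{1} @(fun x2 => ((@Nat.hasNotBit (nat_lit 8) (@Cfsg.Agent.J2Sylow.Model.F4.ctorIdx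 @x2)) → @Bool) → @Bool) @(fun x2 => @x2 (@Nat.ne_of_beq_eq_false _ _ (@Eq.refl.{1} _ @Bool.false))) @(fun x2 => @x2 (@Nat.ne_of_beq_eq_false _ _ (@Eq.refl.{1} _ @Bool.false))) @(fun x2 => @x2 (@Nat.ne_of_beq_eq_false _ _ (@Eq.refl.{1} _ @Bool.false))) @(fun x2 => @Bool.true) @x1 @(fun x2 => @Bool.false)) @x0)) ?_); (try delta Cfsg.Agent.StdAlt.Five.KillModel.L.eq415); (try generalize @Cfsg.Agent.J2Sylow.Model.F4.ctorIdx = g0); rfl') | exact @Cfsg.Agent.StdAlt.Five.KillModel.L.eq415 | exact ()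
private theorem _root_.Cfsg.Agent.KOa3adfcc.e13 : (by first | exact @Cfsg.Agent.StdAlt.Five.KillModel.L.eq415 = @_root_.Cfsg.Agent.KOa3adfcc.k13 | exact True : Prop) := by first | (delta _root_.Cfsg.Agent.KOa3adfcc.k13; exact @Subtype.property _ (fun g => @Cfsg.Agent.StdAlt.Five.KillModel.L.eq415 = @g) _) | rfl | trivial
private noncomputable def _root_.Cfsg.Agent.KOa3adfcc.k14 : (by first | exact type_of% @Cfsg.Agent.StdAlt.Five.KillModel.L.eqL15 | exact Unit : Sort _) := by first | (refine @Subtype.val _ (fun g => @Cfsg.Agent.StdAlt.Five.KillModel.L.eqL15 = @g) (@Subtype.mk _ _ (@(fun x0 x1 => @Bool.rec.{1} @(fun x2 => ℕ) (nat_lit 0) (@Bool.rec.{1} @(fun x2 => ℕ) (nat_lit 0) (@Bool.rec.{1} @(fun x2 => ℕ) (nat_lit 0) (@Bool.rec.{1} @(fun x2 => ℕ) (nat_lit 0) (nat_lit 1) (@Bool.rec.{1} @(fun x2 => @Bool) @Bool.false (@Decidable.rec.{1} _ @(fun x2 => @Bool) @(fun x2 => @Bool.false) @(fun x2 => @Bool.true)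 (@Cfsg.Agent.KOa3adfcc.k3 (@Cfsg.Agent.StdAlt.Five.KillModel.L.j @x0) (@Cfsg.Agent.StdAlt.Five.KillModel.L.j @x1))) (@Decidable.rec.{1} _ @(fun x2 => @Bool) @(fun x2 => @Bool.false) @(fun x2 => @Bool.true) (@Cfsg.Agent.KOa3adfcc.k3 (@Cfsg.Agent.StdAlt.Five.KillModel.K.i (@Cfsg.Agent.StdAlt.Five.KillModel.L.k @x0)) (@Cfsg.Agent.StdAlt.Five.KillModel.K.i (@Cfsg.Agent.StdAlt.Five.KillModel.L.k @x1)))))) (@Cfsg.Agent.KOa3adfcc.k13 (@Cfsg.Agent.StdAlt.Five.KillModel.K.c (@Cfsg.Agent.StdAlt.Five.KillModel.L.k @x0)) (@Cfsg.Agent.StdAlt.Five.KillModel.K.c (@Cfsg.Agent.StdAlt.Five.KillModel.L.k @x1)))) (@Cfsg.Agent.KOa3adfcc.k13 (@Cfsg.Agent.StdAlt.Five.KillModel.K.b (@Cfsg.Agent.StdAlt.Five.KillModel.L.k @x0)) (@Cfsg.Agent.StdAlt.Five.KillModel.K.b (@Cfsg.Agent.StdAlt.Five.KillModel.L.k @x1)))) (@Cfsg.Agent.KOa3adfcc.k13 (@Cfsg.Agent.StdAlt.Five.KillModel.K.a (@Cfsg.Agent.StdAlt.Five.KillModel.L.k @x0)) (@Cfsg.Agent.StdAlt.Five.KillModel.K.a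 (@Cfsg.Agent.StdAlt.Five.KillModel.L.k @x1))))) ?_); rewrite [← Cfsg.Agent.KOa3adfcc.e13, ← Cfsg.Agent.KOa3adfcc.e3]; (try delta Cfsg.Agent.StdAlt.Five.KillModel.L.eqL15); (try generalize @Cfsg.Agent.StdAlt.Five.KillModel.L.eq415 = g0); rfl') | exact @Cfsg.Agent.StdAlt.Five.KillModel.L.eqL15 | exact ()
private theorem _root_.Cfsg.Agent.KOa3adfcc.e14 : (by first | exact @Cfsg.Agent.StdAlt.Five.KillModel.L.eqL15 = @_root_.Cfsg.Agent.KOa3adfcc.k14 | exact True : Prop) := by first | (delta _root_.Cfsg.Agent.KOa3adfcc.k14; exact @Subtype.property _ (fun g => @Cfsg.Agent.StdAlt.Five.KillModel.L.eqL15 = @g) _) | rfl | trivial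
private noncomputable def _root_.Cfsg.Agent.KOa3adfcc.k15 : (by first | exact type_of% @Cfsg.Agent.J2Sylow.Model.F4.add | exact Unit : Sort _) := by first | (refine @Subtype.val _ (fun g => @Cfsg.Agent.J2Sylow.Model.F4.add = @g) (@Subtype.mk _ _ (@(fun x0 x1 => @Cfsg.Agent.J2Sylow.Model.F4.rec.{1} @(fun x2 => @Cfsg.Agent.J2Sylow.Model.F4) @x1 (@Cfsg.Agent.J2Sylow.Model.F4.rec.{1} @(fun x2 => @Cfsg.Agent.J2Sylow.Model.F4) @Cfsg.Agent.J2Sylow.Model.F4.e @Cfsg.Agent.J2Sylow.Model.F4.o @Cfsg.Agent.J2Sylow.Model.F4.u @Cfsg.Agent.J2Sylow.Model.F4.w @x1) (@Cfsg.Agent.J2Sylow.Model.F4.rec.{1} @(fun x2 => @Cfsg.Agent.J2Sylow.Model.F4) @Cfsg.Agent.J2Sylow.Model.F4.w @Cfsg.Agent.J2Sylow.Model.F4.u @Cfsg.Agent.J2Sylow.Model.F4.o @Cfsg.Agent.J2Sylow.Model.F4.e @x1) (@Cfsg.Agent.J2Sylow.Model.F4.rec.{1} @(fun x2 => @Cfsg.Agent.J2Sylow.Model.F4) @Cfsg.Agent.J2Sylow.Model.F4.u @Cfsg.Agent.J2Sylow.Model.F4.w @Cfsg.Agent.J2Sylow.Model.F4.e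 @Cfsg.Agent.J2Sylow.Model.F4.o @x1) @x0)) ?_); rfl') | exact @Cfsg.Agent.J2Sylow.Model.F4.add | exact ()
private theorem _root_.Cfsg.Agent.KOa3adfcc.e15 : (by first | exact @Cfsg.Agent.J2Sylow.Model.F4.add = @_root_.Cfsg.Agent.KOa3adfcc.k15 | exact True : Prop) := by first | (delta _root_.Cfsg.Agent.KOa3adfcc.k15; exact @Subtype.property _ (fun g => @Cfsg.Agent.J2Sylow.Model.F4.add = @g) _) | rfl | trivial
private noncomputable def _root_.Cfsg.Agent.KOa3adfcc.k16 : (by first | exact type_of% @Cfsg.Agent.J2Sylow.Model.F4.mul | exact Unit : Sort _) := by first | (refine @Subtype.val _ (fun g => @Cfsg.Agent.J2Sylow.Model.F4.mul = @g) (@Subtype.mk _ _ (@(fun x0 x1 => @Cfsg.Agent.J2Sylow.Model.F4.rec.{1} @(fun x2 => @Cfsg.Agent.J2Sylow.Model.F4) @Cfsg.Agent.J2Sylow.Model.F4.o (@Cfsg.Agent.J2Sylow.Model.F4.rec.{1} @(fun x2 => ((@Nat.hasNotBit (nat_lit 3) (@Cfsg.Agent.J2Sylow.Model.F4.ctorIdx @x2)) → @Cfsg.Agent.J2Sylow.Model.F4)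 → @Cfsg.Agent.J2Sylow.Model.F4) @(fun x2 => @Cfsg.Agent.J2Sylow.Model.F4.o) @(fun x2 => @Cfsg.Agent.J2Sylow.Model.F4.e) @(fun x2 => @x2 (@Nat.ne_of_beq_eq_false _ _ (@Eq.refl.{1} _ @Bool.false))) @(fun x2 => @x2 (@Nat.ne_of_beq_eq_false _ _ (@Eq.refl.{1} _ @Bool.false))) @x1 @(fun x2 => @x1)) (@Cfsg.Agent.J2Sylow.Model.F4.rec.{1} @(fun x2 => @Cfsg.Agent.J2Sylow.Model.F4) @Cfsg.Agent.J2Sylow.Model.F4.o @Cfsg.Agent.J2Sylow.Model.F4.w @Cfsg.Agent.J2Sylow.Model.F4.u @Cfsg.Agent.J2Sylow.Model.F4.e @x1) (@Cfsg.Agent.J2Sylow.Model.F4.rec.{1} @(fun x2 => @Cfsg.Agent.J2Sylow.Model.F4) @Cfsg.Agent.J2Sylow.Model.F4.o @Cfsg.Agent.J2Sylow.Model.F4.u @Cfsg.Agent.J2Sylow.Model.F4.e @Cfsg.Agent.J2Sylow.Model.F4.w @x1) @x0)) ?_); (try delta Cfsg.Agent.J2Sylow.Model.F4.mul); (try generalize @Cfsg.Agent.J2Sylow.Model.F4.ctorIdx = g0); rfl') | exact @Cfsg.Agent.J2Sylow.Model.F4.mul | exact ()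
private theorem _root_.Cfsg.Agent.KOa3adfcc.e16 : (by first | exact @Cfsg.Agent.J2Sylow.Model.F4.mul = @_root_.Cfsg.Agent.KOa3adfcc.k16 | exact True : Prop) := by first | (delta _root_.Cfsg.Agent.KOa3adfcc.k16; exact @Subtype.property _ (fun g => @Cfsg.Agent.J2Sylow.Model.F4.mul = @g) _) | rfl | trivial
private noncomputable def _root_.Cfsg.Agent.KOa3adfcc.k18 : (by first | exact type_of% @Cfsg.Agent.StdAlt.Five.KillModel.K.mul | exact Unit : Sort _) := by first | (refine @Subtype.val _ (fun g => @Cfsg.Agent.StdAlt.Five.KillModel.K.mul = @g) (@Subtype.mk _ _ (@(fun x0 x1 => @Bool.rec.{1} @(fun x2 => @Cfsg.Agent.StdAlt.Five.KillModel.K) (@Cfsg.Agent.StdAlt.Five.KillModel.K.mk (@Cfsg.Agent.KOa3adfcc.k15 (@Cfsg.Agent.StdAlt.Five.KillModel.K.a @x0) (@Cfsg.Agent.StdAlt.Five.KillModel.K.a @x1)) (@Cfsg.Agent.KOa3adfcc.k15 (@Cfsg.Agent.StdAlt.Five.KillModel.K.b @x0) (@Cfsg.Agent.StdAlt.Five.KillModel.K.b @x1))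 (@Cfsg.Agent.KOa3adfcc.k15 (@Cfsg.Agent.KOa3adfcc.k15 (@Cfsg.Agent.StdAlt.Five.KillModel.K.c @x0) (@Cfsg.Agent.StdAlt.Five.KillModel.K.c @x1)) (@Cfsg.Agent.KOa3adfcc.k16 (@Cfsg.Agent.StdAlt.Five.KillModel.K.a @x0) (@Cfsg.Agent.StdAlt.Five.KillModel.K.b @x1))) (@Cfsg.Agent.StdAlt.Five.KillModel.K.i @x1)) (@Cfsg.Agent.StdAlt.Five.KillModel.K.mk (@Cfsg.Agent.KOa3adfcc.k15 (@Cfsg.Agent.StdAlt.Five.KillModel.K.a @x0) (@Cfsg.Agent.StdAlt.Five.KillModel.K.b @x1)) (@Cfsg.Agent.KOa3adfcc.k15 (@Cfsg.Agent.StdAlt.Five.KillModel.K.b @x0) (@Cfsg.Agent.StdAlt.Five.KillModel.K.a @x1)) (@Cfsg.Agent.KOa3adfcc.k15 (@Cfsg.Agent.KOa3adfcc.k15 (@Cfsg.Agent.StdAlt.Five.KillModel.K.c @x0) (@Cfsg.Agent.StdAlt.Five.KillModel.K.c @x1)) (@Cfsg.Agent.KOa3adfcc.k16 (@Cfsg.Agent.KOa3adfcc.k15 (@Cfsg.Agent.StdAlt.Five.KillModel.K.a @x0) (@Cfsg.Agent.StdAlt.Five.KillModel.K.b @x1)) (@Cfsg.Agent.StdAlt.Five.KillModel.K.a @x1))) (@Bool.rec.{1}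 @(fun x2 => @Bool) @Bool.true @Bool.false (@Cfsg.Agent.StdAlt.Five.KillModel.K.i @x1))) (@Cfsg.Agent.StdAlt.Five.KillModel.K.i @x0))) ?_); rewrite [← Cfsg.Agent.KOa3adfcc.e16, ← Cfsg.Agent.KOa3adfcc.e15]; rfl') | exact @Cfsg.Agent.StdAlt.Five.KillModel.K.mul | exact ()
private theorem _root_.Cfsg.Agent.KOa3adfcc.e18 : (by first | exact @Cfsg.Agent.StdAlt.Five.KillModel.K.mul = @_root_.Cfsg.Agent.KOa3adfcc.k18 | exact True : Prop) := by first | (delta _root_.Cfsg.Agent.KOa3adfcc.k18; exact @Subtype.property _ (fun g => @Cfsg.Agent.StdAlt.Five.KillModel.K.mul = @g) _) | rfl | trivial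
private noncomputable def _root_.Cfsg.Agent.KOa3adfcc.k19 : (by first | exact type_of% @Cfsg.Agent.StdAlt.Five.KillModel.K.frK | exact Unit : Sort _) := by first | (refine @Subtype.val _ (fun g => @Cfsg.Agent.StdAlt.Five.KillModel.K.frK = @g) (@Subtype.mk _ _ (@(fun x0 => @Cfsg.Agent.StdAlt.Five.KillModel.K.mk (@Cfsg.Agent.J2Sylow.Model.F4.rec.{1} @(fun x1 => @Cfsg.Agent.J2Sylow.Model.F4) @Cfsg.Agent.J2Sylow.Model.F4.o @Cfsg.Agent.J2Sylow.Model.F4.e @Cfsg.Agent.J2Sylow.Model.F4.u @Cfsg.Agent.J2Sylow.Model.F4.w (@Cfsg.Agent.StdAlt.Five.KillModel.K.a @x0)) (@Cfsg.Agent.J2Sylow.Model.F4.rec.{1} @(fun x1 => @Cfsg.Agent.J2Sylow.Model.F4) @Cfsg.Agent.J2Sylow.Model.F4.o @Cfsg.Agent.J2Sylow.Model.F4.e @Cfsg.Agent.J2Sylow.Model.F4.u @Cfsg.Agent.J2Sylow.Model.F4.w (@Cfsg.Agent.StdAlt.Five.KillModel.K.b @x0)) (@Cfsg.Agent.J2Sylow.Model.F4.rec.{1} @(fun x1 => @Cfsg.Agent.J2Sylow.Model.F4) @Cfsg.Agent.J2Sylow.Model.F4.o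 @Cfsg.Agent.J2Sylow.Model.F4.e @Cfsg.Agent.J2Sylow.Model.F4.u @Cfsg.Agent.J2Sylow.Model.F4.w (@Cfsg.Agent.StdAlt.Five.KillModel.K.c @x0)) (@Cfsg.Agent.StdAlt.Five.KillModel.K.i @x0))) ?_); rfl') | exact @Cfsg.Agent.StdAlt.Five.KillModel.K.frK | exact ()
private theorem _root_.Cfsg.Agent.KOa3adfcc.e19 : (by first | exact @Cfsg.Agent.StdAlt.Five.KillModel.K.frK = @_root_.Cfsg.Agent.KOa3adfcc.k19 | exact True : Prop) := by first | (delta _root_.Cfsg.Agent.KOa3adfcc.k19; exact @Subtype.property _ (fun g => @Cfsg.Agent.StdAlt.Five.KillModel.K.frK = @g) _) | rfl | trivial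
private noncomputable def _root_.Cfsg.Agent.KOa3adfcc.k21 : (by first | exact type_of% @Cfsg.Agent.StdAlt.Five.KillModel.L.mul | exact Unit : Sort _) := by first | (refine @Subtype.val _ (fun g => @Cfsg.Agent.StdAlt.Five.KillModel.L.mul = @g) (@Subtype.mk _ _ (@(fun x0 x1 => @Bool.rec.{1} @(fun x2 => @Cfsg.Agent.StdAlt.Five.KillModel.L) (@Cfsg.Agent.StdAlt.Five.KillModel.L.mk (@Cfsg.Agent.KOa3adfcc.k18 (@Cfsg.Agent.StdAlt.Five.KillModel.L.k @x0) (@Cfsg.Agent.StdAlt.Five.KillModel.L.k @x1)) (@Cfsg.Agent.StdAlt.Five.KillModel.L.j @x1)) (@Cfsg.Agent.StdAlt.Five.KillModel.L.mk (@Cfsg.Agent.KOa3adfcc.k18 (@Cfsg.Agent.StdAlt.Five.KillModel.L.k @x0) (@Cfsg.Agent.KOa3adfcc.k19 (@Cfsg.Agent.StdAlt.Five.KillModel.L.k @x1))) (@Bool.rec.{1} @(fun x2 => @Bool) @Bool.true @Bool.false (@Cfsg.Agent.StdAlt.Five.KillModel.L.j @x1))) (@Cfsg.Agent.StdAlt.Five.KillModel.L.j @x0))) ?_); rewrite [← Cfsg.Agent.KOa3adfcc.e19,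 ← Cfsg.Agent.KOa3adfcc.e18]; rfl') | exact @Cfsg.Agent.StdAlt.Five.KillModel.L.mul | exact ()
private theorem _root_.Cfsg.Agent.KOa3adfcc.e21 : (by first | exact @Cfsg.Agent.StdAlt.Five.KillModel.L.mul = @_root_.Cfsg.Agent.KOa3adfcc.k21 | exact True : Prop) := by first | (delta _root_.Cfsg.Agent.KOa3adfcc.k21; exact @Subtype.property _ (fun g => @Cfsg.Agent.StdAlt.Five.KillModel.L.mul = @g) _) | rfl | trivial
private noncomputable def _root_.Cfsg.Agent.KOa3adfcc.k22 : (by first | exact type_of% @Cfsg.Agent.StdAlt.Five.KillModel.L.cnt15 | exact Unit : Sort _) := by first | (refine @Subtype.val _ (fun g => @Cfsg.Agent.StdAlt.Five.KillModel.L.cnt15 = @g) (@Subtype.mk _ _ (@(fun x0 => @Cfsg.Agent.StdAlt.Five.KillModel.L.s415 @(fun x1 => @Cfsg.Agent.StdAlt.Five.KillModel.L.s415 @(fun x2 => @Cfsg.Agent.StdAlt.Five.KillModel.L.s415 @(fun x3 => @Nat.add (@Nat.add (@Cfsg.Agent.KOa3adfcc.k14 (@Cfsg.Agent.KOa3adfcc.k21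 (@Cfsg.Agent.StdAlt.Five.KillModel.L.mk (@Cfsg.Agent.StdAlt.Five.KillModel.K.mk @x1 @x2 @x3 @Bool.true) @Bool.true) @x0) (@Cfsg.Agent.KOa3adfcc.k21 @x0 (@Cfsg.Agent.StdAlt.Five.KillModel.L.mk (@Cfsg.Agent.StdAlt.Five.KillModel.K.mk @x1 @x2 @x3 @Bool.true) @Bool.true))) (@Cfsg.Agent.KOa3adfcc.k14 (@Cfsg.Agent.KOa3adfcc.k21 (@Cfsg.Agent.StdAlt.Five.KillModel.L.mk (@Cfsg.Agent.StdAlt.Five.KillModel.K.mk @x1 @x2 @x3 @Bool.true) @Bool.false) @x0) (@Cfsg.Agent.KOa3adfcc.k21 @x0 (@Cfsg.Agent.StdAlt.Five.KillModel.L.mk (@Cfsg.Agent.StdAlt.Five.KillModel.K.mk @x1 @x2 @x3 @Bool.true) @Bool.false)))) (@Nat.add (@Cfsg.Agent.KOa3adfcc.k14 (@Cfsg.Agent.KOa3adfcc.k21 (@Cfsg.Agent.StdAlt.Five.KillModel.L.mk (@Cfsg.Agent.StdAlt.Five.KillModel.K.mk @x1 @x2 @x3 @Bool.false) @Bool.true) @x0) (@Cfsg.Agent.KOa3adfcc.k21 @x0 (@Cfsg.Agent.StdAlt.Five.KillModel.L.mk (@Cfsg.Agent.StdAlt.Five.KillModel.K.mk @x1 @x2 @x3 @Bool.false)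 @Bool.true))) (@Cfsg.Agent.KOa3adfcc.k14 (@Cfsg.Agent.KOa3adfcc.k21 (@Cfsg.Agent.StdAlt.Five.KillModel.L.mk (@Cfsg.Agent.StdAlt.Five.KillModel.K.mk @x1 @x2 @x3 @Bool.false) @Bool.false) @x0) (@Cfsg.Agent.KOa3adfcc.k21 @x0 (@Cfsg.Agent.StdAlt.Five.KillModel.L.mk (@Cfsg.Agent.StdAlt.Five.KillModel.K.mk @x1 @x2 @x3 @Bool.false) @Bool.false))))))))) ?_); rewrite [← Cfsg.Agent.KOa3adfcc.e21, ← Cfsg.Agent.KOa3adfcc.e14]; (try delta Cfsg.Agent.StdAlt.Five.KillModel.L.cnt15); (try generalize @Cfsg.Agent.StdAlt.Five.KillModel.L.s415 = g0); (try generalize @Cfsg.Agent.StdAlt.Five.KillModel.L.eqL15 = g1); (try generalize @Cfsg.Agent.StdAlt.Five.KillModel.L.mul = g2); rfl') | exact @Cfsg.Agent.StdAlt.Five.KillModel.L.cnt15 | exact ()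
private theorem _root_.Cfsg.Agent.KOa3adfcc.e22 : (by first | exact @Cfsg.Agent.StdAlt.Five.KillModel.L.cnt15 = @_root_.Cfsg.Agent.KOa3adfcc.k22 | exact True : Prop) := by first | (delta _root_.Cfsg.Agent.KOa3adfcc.k22; exact @Subtype.property _ (fun g => @Cfsg.Agent.StdAlt.Five.KillModel.L.cnt15 = @g) _) | rfl | trivial
private noncomputable def _root_.Cfsg.Agent.KOa3adfcc.k23 : (by first | exact type_of% @Cfsg.Agent.StdAlt.Five.KillModel.L.IsV | exact Unit : Sort _) := by first | (refine @Subtype.val _ (fun g => @Cfsg.Agent.StdAlt.Five.KillModel.L.IsV = @g) (@Subtype.mk _ _ (@(fun x0 => @Bool.rec.{1} @(fun x1 => @Bool) @Bool.false (@Bool.rec.{1} @(fun x1 => @Bool) @Bool.true @Bool.false (@Cfsg.Agent.StdAlt.Five.KillModel.L.j @x0)) (@Cfsg.Agent.KOa3adfcc.k6 (@Cfsg.Agent.StdAlt.Five.KillModel.L.k @x0)))) ?_); rewrite [← Cfsg.Agent.KOa3adfcc.e6]; (try delta Cfsg.Agent.StdAlt.Five.KillModel.L.IsV); (try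 generalize @Cfsg.Agent.StdAlt.Five.KillModel.K.IsV = g0); rfl') | exact @Cfsg.Agent.StdAlt.Five.KillModel.L.IsV | exact ()
private theorem _root_.Cfsg.Agent.KOa3adfcc.e23 : (by first | exact @Cfsg.Agent.StdAlt.Five.KillModel.L.IsV = @_root_.Cfsg.Agent.KOa3adfcc.k23 | exact True : Prop) := by first | (delta _root_.Cfsg.Agent.KOa3adfcc.k23; exact @Subtype.property _ (fun g => @Cfsg.Agent.StdAlt.Five.KillModel.L.IsV = @g) _) | rfl | trivial

private theorem card_both15 : ∀ t : L, t * t = 1 → 16 ≤ cnt15 t ∧ (IsV t = false → cnt15 t ≤ 32) := by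
  (first | (refine of_decide_eq_true ?_; rewrite [Cfsg.Agent.KOa3adfcc.e0, Cfsg.Agent.KOa3adfcc.e2, Cfsg.Agent.KOa3adfcc.e1, Cfsg.Agent.KOa3adfcc.e7, Cfsg.Agent.KOa3adfcc.e22, Cfsg.Agent.KOa3adfcc.e5, Cfsg.Agent.KOa3adfcc.e23]; decide +kernel) | decide +kernel)

set_option maxRecDepth 100000 in
theorem card_ge : ∀ t : L, t * t = 1 → 16 ≤ (cS t).card := fun t h => cnt15_eq t ▸ (card_both15 t h).1

set_option maxRecDepth 100000 in
theorem card_le : ∀ t : L, t * t = 1 → IsV t = false → (cS t).card ≤ 32 := fun t h => cnt15_eq t ▸ (card_both15 t h).2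

set_option maxRecDepth 100000 in
theorem card_E : ∀ t : L, IsE t = true → t.j = true → (eS t).card ≤ 8 := by
  decide +kernel

theorem conj_v : ∀ t : L, t * t = 1 → t.k.i = true → t.j = true → ∃ a b c : F4,
    (⟨⟨a, b, c, false⟩, false⟩ : L) * t * (⟨⟨a, b, c, false⟩, false⟩ : L)⁻¹ = v := by
  decide +kernel

theorem card_s : (iS s).card = 20 := by
  decide +kernel

theorem card_v : (iS v).card = 12 := by
  decide +kernel

theorem card_v' : (cS v).card = 32 := by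
  decide +kernel

attribute [irreducible] cS eS iS

end L

end Cfsg.Agent.StdAlt.Five.KillModel
end

-- part: StdAlt/Five/KillA5
section
/-!
# S1766, `n = 5`, kill A5: the Sylow 2-subgroup `UT₃(4) : ⟨w, s⟩` of order 256
-/

set_option autoImplicit false

namespace Cfsg.Agent.StdAlt.Five.Kill

open Cfsg.Agent.J2Sylow.Model Cfsg.Agent.J2Sylow.Model.F4 KillModel

variable {G : Type*} [Group G]

theorem card_L : Nat.card L = 256 := by
  rw [Nat.card_eq_fintype_card]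
  decide +kernel

theorem pgroup_L : IsPGroup 2 L := IsPGroup.of_card (n := 8) (by rw [card_L]; norm_num)

/-- the centralizer of an element of `L` -/
def CL (t : L) : Subgroup L := Subgroup.centralizer {t}

theorem mem_CL {t x : L} : x ∈ CL t ↔ x * t = t * x := by
  rw [CL, Subgroup.mem_centralizer_singleton_iff]

theorem card_CL (t : L) : Nat.card (CL t) = (L.cS t).card := by
  rw [Nat.card_congr (show CL t ≃ {x : L // x ∈ L.cS t} from
    Equiv.subtypeEquivRight (fun _ => mem_CL.trans L.mem_cS.symm)), Nat.card_eq_fintype_card,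
    Fintype.card_coe]

theorem card_coe' (t : Finset L) : Nat.card {x // x ∈ t} = t.card := by
  rw [Nat.card_eq_fintype_card, Fintype.card_coe]

/-- the subgroup `P₁⟨v⟩` -/
def QL : Subgroup L where
  carrier := {x | x.k.i = x.j}
  one_mem' := rfl
  mul_mem' := by
    rintro ⟨⟨a, b, c, i⟩, j⟩ ⟨⟨a', b', c', i'⟩, j'⟩ (hx : i = j) (hy : i' = j')
    subst hx hy
    cases i <;> cases i' <;> rfl
  inv_mem' := by
    rintro ⟨⟨a, b, c, i⟩, j⟩ (hx : i = j)
    subst hx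
    cases i <;> rfl

theorem card_QL : Nat.card QL = 128 := by
  rw [Nat.card_congr (show QL ≃ {x : L // x.k.i = x.j} from Equiv.subtypeEquivRight (fun _ => Iff.rfl)),
    Nat.card_eq_fintype_card, Fintype.card_subtype]
  decide +kernel

theorem isV_eq : ∀ x : L, L.IsV x = true → x = ⟨⟨0, 0, x.k.c, false⟩, false⟩ := by
  decide +kernel

/-- the hypotheses of A5 -/
structure HypA5 [Finite G] (S : Sylow 2 G) (X Y Z : F4 → G) (W s : G) : Prop where
  lin : LinS X Y Z W s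
  mem : ∀ g, g ∈ (S : Subgroup G) ↔ ∃ x, lin.hom2 x = g
  cX : ∀ a c, a ≠ 0 → IsConj (X 1) (X a * Z c)
  cZ : ∀ c, c ≠ 0 → IsConj (Z 1) (Z c)
  cent : ∀ Q : Subgroup G, IsPGroup 2 Q → (∀ q ∈ Q, q * X 1 = X 1 * q) →
    ∃ k : G, k * X 1 = X 1 * k ∧ ∀ q ∈ Q, ∃ a c, ∃ j : Bool,
      k * q * k⁻¹ = X a * Z c * (if j then s else 1)
  out : ∀ k : G, k * X 1 = X 1 * k → ∀ a c, k * s * k⁻¹ ≠ X a * Z c

namespace HypA5

variable [Finite G] {S : Sylow 2 G} {X Y Z : F4 → G} {W s : G}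

theorem S_mem (h : HypA5 S X Y Z W s) (x : L) : h.lin.hom2 x ∈ (S : Subgroup G) :=
  (h.mem _).mpr ⟨x, rfl⟩

theorem S_ex (h : HypA5 S X Y Z W s) {g : G} (hg : g ∈ (S : Subgroup G)) : ∃ x, h.lin.hom2 x = g :=
  (h.mem _).mp hg

theorem hX (h : HypA5 S X Y Z W s) (a : F4) : h.lin.hom2 ⟨⟨a, 0, 0, false⟩, false⟩ = X a := by
  rw [h.lin.hom2_k, h.lin.hom_X]

theorem hZ (h : HypA5 S X Y Z W s) (a : F4) : h.lin.hom2 ⟨⟨0, 0, a, false⟩, false⟩ = Z a := by
  rw [h.lin.hom2_k, h.lin.hom_Z]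

theorem hs (h : HypA5 S X Y Z W s) : h.lin.hom2 L.s = s := h.lin.hom2_s

theorem hXZ (h : HypA5 S X Y Z W s) (a c : F4) (j : Bool) :
    h.lin.hom2 ⟨⟨a, 0, c, false⟩, j⟩ = X a * Z c * (if j then s else 1) := by
  rw [h.lin.hom2_apply, Lin.hom_apply]
  simp [h.lin.Y0]

theorem sq_lift (h : HypA5 S X Y Z W s) {ξ : L} :
    h.lin.hom2 ξ * h.lin.hom2 ξ = 1 ↔ ξ * ξ = 1 := by
  rw [← map_mul]
  constructor
  · intro hx; apply h.lin.hom2_inj; rw [hx, map_one]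
  · intro hx; rw [hx, map_one]

/-- a 2-group commuting with `X 1` is conjugate to a subgroup of `E⟨s⟩` -/
theorem cent' (h : HypA5 S X Y Z W s) (Q : Subgroup G) (hQ : IsPGroup 2 Q)
    (hQX : ∀ q ∈ Q, q * X 1 = X 1 * q) : ∃ k : G, k * X 1 = X 1 * k ∧ ∀ q ∈ Q, ∃ x : L,
      L.IsE x = true ∧ h.lin.hom2 x = k * q * k⁻¹ := by
  obtain ⟨k, hk, hkQ⟩ := h.cent Q hQ hQX
  refine ⟨k, hk, fun q hq => ?_⟩
  obtain ⟨a, c, j, e⟩ := hkQ q hq
  exact ⟨⟨⟨a, 0, c, false⟩, j⟩, rfl, by rw [h.hXZ, e]⟩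

/-- `s` is not conjugate to `X 1` -/
theorem s_nX (h : HypA5 S X Y Z W s) : ¬ IsConj (X 1) s := by
  intro hc
  have hc' := hc.symm
  rw [isConj_iff] at hc'
  obtain ⟨g, hg⟩ := hc'
  set y := h.lin.hom2 L.y8 with hy
  have hys : y * s = s * y := by
    have h1 := congrArg h.lin.hom2 L.y8_s
    rwa [map_mul, map_mul, h.hs] at h1
  have hgy : IsPGroup 2 (Subgroup.zpowers (g * y * g⁻¹)) := by
    obtain ⟨k, hk⟩ := pgroup_L L.y8
    have hk' : y ^ 2 ^ k = 1 := by rw [hy, ← map_pow, hk, map_one]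
    have hk2 : (g * y * g⁻¹) ^ 2 ^ k = 1 := by rw [conj_pow, hk']; group
    rintro ⟨z, hz⟩
    obtain ⟨i, rfl⟩ := Subgroup.mem_zpowers_iff.mp hz
    refine ⟨k, ?_⟩
    apply Subtype.ext
    change ((g * y * g⁻¹) ^ i) ^ 2 ^ k = 1
    rw [← zpow_natCast, ← zpow_mul, mul_comm, zpow_mul, zpow_natCast, hk2, one_zpow]
  obtain ⟨k, -, hkQ⟩ := h.cent' _ hgy (by
    intro q hq
    have hle : Subgroup.zpowers (g * y * g⁻¹) ≤ Subgroup.centralizer {X 1} := by
      rw [Subgroup.zpowers_le, Subgroup.mem_centralizer_singleton_iff, ← hg]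
      calc g * y * g⁻¹ * (g * s * g⁻¹) = g * (y * s) * g⁻¹ := by group
        _ = g * (s * y) * g⁻¹ := by rw [hys]
        _ = _ := by group
    exact Subgroup.mem_centralizer_singleton_iff.mp (hle hq))
  obtain ⟨x, hx, hx2⟩ := hkQ _ (Subgroup.mem_zpowers _)
  have h1 := congrArg h.lin.hom2 (L.E_pow x hx)
  rw [map_mul, map_mul, hx2, map_one] at h1
  apply L.y8_pow
  apply h.lin.hom2_inj
  rw [map_mul, map_mul, map_one, ← hy]
  have h2 : y * y * (y * y) = (k * g)⁻¹ * (k * (g * y * g⁻¹) * k⁻¹ * (k * (g * y * g⁻¹) * k⁻¹) *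
      (k * (g * y * g⁻¹) * k⁻¹ * (k * (g * y * g⁻¹) * k⁻¹))) * (k * g) := by group
  rw [h2, h1]; group

/-- `s` is not conjugate to an element of `Z` -/
theorem s_nZ (h : HypA5 S X Y Z W s) {c : F4} : ¬ IsConj s (Z c) := by
  intro hc
  have hs1 : s ≠ 1 := by
    intro h1
    have h2 : L.s = 1 := h.lin.hom2_inj (h.hs.trans (h1.trans (map_one _).symm))
    exact absurd h2 (by decide)
  have hc0 : c ≠ 0 := by
    rintro rfl
    rw [h.lin.Z0, isConj_one_left] at hc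
    exact hs1 hc
  have hc1 : IsConj s (Z 1) := hc.trans (h.cZ c hc0).symm
  rw [isConj_iff] at hc1
  obtain ⟨g, hg⟩ := hc1
  have hXs : X 1 * s = s * X 1 := by rw [h.lin.sX]; rfl
  have hX2 : X 1 * X 1 = 1 := by rw [h.lin.XX, F4.add_self, h.lin.X0]
  have hX1 : X 1 ≠ 1 := by
    intro h1
    rw [← h.hX] at h1
    have h2 : (⟨⟨1, 0, 0, false⟩, false⟩ : L) = 1 := h.lin.hom2_inj (h1.trans (map_one _).symm)
    exact absurd h2 (by decide)
  have hSZ : ∀ x : L, h.lin.hom2 x * Z 1 = Z 1 * h.lin.hom2 x := by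
    intro x
    have h1 := congrArg h.lin.hom2 (L.z_central x)
    rw [map_mul, map_mul] at h1
    change h.lin.hom2 x * h.lin.hom2 ⟨⟨0, 0, 1, false⟩, false⟩ =
      h.lin.hom2 ⟨⟨0, 0, 1, false⟩, false⟩ * h.lin.hom2 x at h1
    rwa [h.hZ] at h1
  -- move `g X1 g⁻¹` into `S`
  have hgp : IsPGroup 2 (Subgroup.zpowers (g * X 1 * g⁻¹)) := by
    have hk2 : (g * X 1 * g⁻¹) ^ 2 ^ 1 = 1 := by
      rw [pow_one, pow_two]
      calc g * X 1 * g⁻¹ * (g * X 1 * g⁻¹) = g * (X 1 * X 1) * g⁻¹ := by group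
        _ = 1 := by rw [hX2]; group
    rintro ⟨z, hz⟩
    obtain ⟨i, rfl⟩ := Subgroup.mem_zpowers_iff.mp hz
    refine ⟨1, ?_⟩
    apply Subtype.ext
    change ((g * X 1 * g⁻¹) ^ i) ^ 2 ^ 1 = 1
    rw [← zpow_natCast, ← zpow_mul, mul_comm, zpow_mul, zpow_natCast, hk2, one_zpow]
  obtain ⟨k, hk, hkS⟩ := conj_into S (H := Subgroup.centralizer {Z 1}) (by
      intro t ht
      obtain ⟨x, rfl⟩ := h.S_ex ht
      rw [Subgroup.mem_centralizer_singleton_iff]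
      exact hSZ x) hgp (by
      rw [Subgroup.zpowers_le, Subgroup.mem_centralizer_singleton_iff, ← hg]
      calc g * X 1 * g⁻¹ * (g * s * g⁻¹) = g * (X 1 * s) * g⁻¹ := by group
        _ = g * (s * X 1) * g⁻¹ := by rw [hXs]
        _ = _ := by group)
  rw [Subgroup.mem_centralizer_singleton_iff] at hk
  set g1 := k * g with hg1
  have hg1s : g1 * s * g1⁻¹ = Z 1 := by
    calc g1 * s * g1⁻¹ = k * (g * s * g⁻¹) * k⁻¹ := by rw [hg1]; group
      _ = Z 1 := by rw [hg, hk]; group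
  obtain ⟨τ, hτ⟩ := h.S_ex (hkS _ (Subgroup.mem_zpowers _))
  have hτ' : h.lin.hom2 τ = g1 * X 1 * g1⁻¹ := by rw [hτ, hg1]; group
  have hττ : τ * τ = 1 := by
    rw [← h.sq_lift, hτ']
    calc g1 * X 1 * g1⁻¹ * (g1 * X 1 * g1⁻¹) = g1 * (X 1 * X 1) * g1⁻¹ := by group
      _ = 1 := by rw [hX2]; group
  set Q : Subgroup G := (CL τ).map ((MulAut.conj g1⁻¹).toMonoidHom.comp h.lin.hom2) with hQ
  have hQmem : ∀ q, q ∈ Q ↔ ∃ x ∈ CL τ, g1⁻¹ * h.lin.hom2 x * g1⁻¹⁻¹ = q := fun q => Iff.rfl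
  have hQp : IsPGroup 2 Q := (pgroup_L.to_subgroup _).map _
  obtain ⟨k', hk', hkQ'⟩ := h.cent' Q hQp (by
    intro q hq
    obtain ⟨x, hx, rfl⟩ := (hQmem q).mp hq
    have h1 := congrArg h.lin.hom2 (mem_CL.mp hx)
    rw [map_mul, map_mul, hτ'] at h1
    calc g1⁻¹ * h.lin.hom2 x * g1⁻¹⁻¹ * X 1 = g1⁻¹ * (h.lin.hom2 x * (g1 * X 1 * g1⁻¹)) * g1 := by
          group
      _ = g1⁻¹ * ((g1 * X 1 * g1⁻¹) * h.lin.hom2 x) * g1 := by rw [h1]
      _ = _ := by group)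
  have hsQ : s ∈ Q := by
    rw [hQmem]
    refine ⟨⟨⟨0, 0, 1, false⟩, false⟩, ?_, ?_⟩
    · rw [mem_CL]; exact (L.z_central τ).symm
    · rw [h.hZ, ← hg1s]; group
  obtain ⟨e, he, he2⟩ := hkQ' s hsQ
  have hej : e.j = true := by
    by_contra hne
    have h1 : e.j = false := by simpa using hne
    obtain ⟨⟨a, b, c', i⟩, j⟩ := e
    change j = false at h1
    subst h1
    have h2 : decide (b = 0) && !i := he
    rw [Bool.and_eq_true, decide_eq_true_eq, Bool.not_eq_true'] at h2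
    obtain ⟨rfl, rfl⟩ := h2
    rw [h.hXZ] at he2
    apply h.out k' hk' a c'
    rw [← he2]; simp
  have hQs : ∀ q ∈ Q, q * s = s * q := by
    intro q hq
    obtain ⟨x, hx, rfl⟩ := (hQmem q).mp hq
    have h1 := hSZ x
    rw [← hg1s] at h1
    calc g1⁻¹ * h.lin.hom2 x * g1⁻¹⁻¹ * s = g1⁻¹ * (h.lin.hom2 x * (g1 * s * g1⁻¹)) * g1 := by
          group
      _ = g1⁻¹ * ((g1 * s * g1⁻¹) * h.lin.hom2 x) * g1 := by rw [h1]
      _ = _ := by group
  have hQ16 : 16 ≤ Nat.card Q := by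
    rw [hQ, Subgroup.card_map_of_injective, card_CL]
    · exact L.card_ge τ hττ
    · exact (MulAut.conj g1⁻¹).injective.comp h.lin.hom2_inj
  choose f hfE hf using fun q : Q => hkQ' q q.2
  have hfm : ∀ q, f q ∈ L.eS e := by
    intro q
    rw [L.mem_eS]
    refine ⟨hfE q, ?_⟩
    apply h.lin.hom2_inj
    rw [map_mul, map_mul, hf, he2]
    have h1 := hQs q q.2
    calc k' * q * k'⁻¹ * (k' * s * k'⁻¹) = k' * (q * s) * k'⁻¹ := by group
      _ = k' * (s * q) * k'⁻¹ := by rw [h1]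
      _ = _ := by group
  have hinj : Function.Injective (fun q : Q => (⟨f q, hfm q⟩ :
      {x // x ∈ L.eS e})) := by
    intro r r' hrr
    have h1 : f r = f r' := congrArg Subtype.val hrr
    have h2 : k' * (r : G) * k'⁻¹ = k' * (r' : G) * k'⁻¹ := by rw [← hf, ← hf, h1]
    apply Subtype.ext
    exact mul_left_cancel (mul_right_cancel h2)
  have hle := Nat.card_le_card_of_injective _ hinj
  rw [card_coe'] at hle
  have := L.card_E e he hej
  omega

theorem Y_conj (h : HypA5 S X Y Z W s) (b c : F4) (hb : b ≠ 0) : IsConj (X 1) (Y b * Z c) := by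
  refine (h.cX b c hb).trans ?_
  rw [isConj_iff]
  refine ⟨W, ?_⟩
  have h1 : W * (X b * Z c) = Y b * Z c * W := by
    rw [← mul_assoc, h.lin.WX, mul_assoc, h.lin.WZ, mul_assoc]
  rw [h1]; group

theorem S_eq (h : HypA5 S X Y Z W s) : (S : Subgroup G) = (⊤ : Subgroup L).map h.lin.hom2 := by
  ext g
  rw [h.mem]
  constructor
  · rintro ⟨x, hx⟩; exact ⟨x, trivial, hx⟩
  · rintro ⟨x, -, hx⟩; exact ⟨x, hx⟩

/-- `s` is conjugate to `v` -/
theorem s_v (h : HypA5 S X Y Z W s) (hidx : ∀ M : Subgroup G, M.Normal → M.index ≠ 2) :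
    IsConj s (h.lin.hom2 L.v) := by
  have hindex : QL.index = 2 := by
    have h1 := QL.card_mul_index
    rw [card_QL, card_L] at h1
    omega
  have hne : s ≠ 1 := by
    intro h1
    have h2 : L.s = 1 := h.lin.hom2_inj (h.hs.trans (h1.trans (map_one _).symm))
    exact absurd h2 (by decide)
  have hord : orderOf s = 2 := by
    rw [orderOf_eq_prime_iff]
    exact ⟨by rw [pow_two, h.lin.ss], hne⟩
  rcases Cfsg.Agent.S0111.result S (QL.map h.lin.hom2) (by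
      rintro _ ⟨x, -, rfl⟩; exact h.S_mem x) (by
      rw [h.S_eq, Subgroup.relIndex_map_map_of_injective _ _ h.lin.hom2_inj,
        Subgroup.relIndex_top_right, hindex]) s hord (by rw [← h.hs]; exact h.S_mem _) (by
      rintro ⟨x, hx, hx2⟩
      have h3 := h.lin.hom2_inj (hx2.trans h.hs.symm)
      rw [h3] at hx
      exact absurd (show (L.s).k.i = (L.s).j from hx) (by decide)) with
    ⟨M, hM, hM2, -⟩ | ⟨g, ξ, hξ, hξ2⟩
  · exact absurd hM2 (hidx M hM)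
  · have h2 : ξ * ξ = 1 := by
      rw [← h.sq_lift, hξ2]
      calc g * s * g⁻¹ * (g * s * g⁻¹) = g * (s * s) * g⁻¹ := by group
        _ = 1 := by rw [h.lin.ss]; group
    have hc : IsConj s (h.lin.hom2 ξ) := by
      rw [isConj_iff]; exact ⟨g, hξ2.symm⟩
    obtain ⟨⟨a, b, c, i⟩, j⟩ := ξ
    change i = j at hξ
    subst hξ
    cases i
    · exfalso
      have h3 := congrArg (fun x : L => x.k) h2
      change (⟨a, b, c, false⟩ : K) * ⟨a, b, c, false⟩ = 1 at h3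
      rw [K.sq_false] at h3
      have h4 : a * b = 0 := congrArg K.c h3
      have h5 : ∀ a b : F4, a * b = 0 → a = 0 ∨ b = 0 := by decide
      rw [h.lin.hom2_k, Lin.hom_apply] at hc
      simp only [Bool.false_eq_true, if_false, mul_one] at hc
      by_cases ha : a = 0
      · rw [ha, h.lin.X0, one_mul] at hc
        by_cases hb : b = 0
        · rw [hb, h.lin.Y0, one_mul] at hc
          exact h.s_nZ hc
        · exact h.s_nX ((h.Y_conj b c hb).trans hc.symm)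
      · have hb : b = 0 := (h5 a b h4).resolve_left ha
        rw [hb, h.lin.Y0, one_mul] at hc
        exact h.s_nX ((h.cX a c ha).trans hc.symm)
    · obtain ⟨a', b', c', e⟩ := L.conj_v _ h2 rfl rfl
      refine hc.trans ?_
      rw [isConj_iff]
      refine ⟨h.lin.hom2 ⟨⟨a', b', c', false⟩, false⟩, ?_⟩
      rw [← map_inv, ← map_mul, ← map_mul, e]

/-- **Kill A5** -/
theorem kill (h : HypA5 S X Y Z W s) (hidx : ∀ M : Subgroup G, M.Normal → M.index ≠ 2) : False := by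
  have hc := h.s_v hidx
  have hv := hc
  rw [isConj_iff] at hv
  obtain ⟨g, hg⟩ := hv
  set R : Subgroup G := (CL L.v).map h.lin.hom2 with hR
  set D : Subgroup G := Subgroup.centralizer {h.lin.hom2 L.v} with hD
  have hRD : R ≤ D := by
    rintro _ ⟨x, hx, rfl⟩
    rw [hD, Subgroup.mem_centralizer_singleton_iff, ← map_mul, mem_CL.mp hx, map_mul]
  have hRc : Nat.card R = 32 := by
    rw [hR, Subgroup.card_map_of_injective h.lin.hom2_inj, card_CL, L.card_v']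
  obtain ⟨d, hd, hdR⟩ := conj_into_max (Q := (CL L.s).map ((MulAut.conj g).toMonoidHom.comp h.lin.hom2))
    hRD ((pgroup_L.to_subgroup _).map _) (by
      intro R' hR'D hR'p hRR'
      obtain ⟨n, -, hn⟩ := conj_into S (H := ⊤) le_top hR'p le_top
      have hvR : h.lin.hom2 L.v ∈ R' := hRR' ⟨L.v, by rw [SetLike.mem_coe, mem_CL], rfl⟩
      obtain ⟨τ, hτ⟩ := h.S_ex (hn _ hvR)
      have hττ : τ * τ = 1 := by
        rw [← h.sq_lift, hτ]
        calc n * h.lin.hom2 L.v * n⁻¹ * (n * h.lin.hom2 L.v * n⁻¹) =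
            n * (h.lin.hom2 L.v * h.lin.hom2 L.v) * n⁻¹ := by group
          _ = 1 := by rw [h.sq_lift.mpr (show L.v * L.v = 1 by decide)]; group
      have hτV : L.IsV τ = false := by
        rw [Bool.eq_false_iff]
        intro hV
        have h1 : h.lin.hom2 τ = Z τ.k.c := by rw [isV_eq τ hV, h.hZ]
        apply h.s_nZ (c := τ.k.c)
        refine hc.trans ?_
        rw [isConj_iff, ← h1]
        exact ⟨n, hτ.symm⟩
      have hcard : Nat.card R' ≤ 32 := by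
        choose f hf using fun r : R' => h.S_ex (hn _ r.2)
        have hfm : ∀ r, f r ∈ L.cS τ := by
          intro r
          rw [L.mem_cS]
          apply h.lin.hom2_inj
          rw [map_mul, map_mul, hf, hτ]
          have h1 := Subgroup.mem_centralizer_singleton_iff.mp (hR'D r.2)
          calc n * (r : G) * n⁻¹ * (n * h.lin.hom2 L.v * n⁻¹) =
              n * ((r : G) * h.lin.hom2 L.v) * n⁻¹ := by group
            _ = n * (h.lin.hom2 L.v * r) * n⁻¹ := by rw [h1]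
            _ = _ := by group
        have hinj : Function.Injective (fun r : R' => (⟨f r, hfm r⟩ :
            {x // x ∈ L.cS τ})) := by
          intro r r' hrr
          have h1 : f r = f r' := congrArg Subtype.val hrr
          have h2 : n * (r : G) * n⁻¹ = n * (r' : G) * n⁻¹ := by rw [← hf, ← hf, h1]
          apply Subtype.ext
          exact mul_left_cancel (mul_right_cancel h2)
        have hle := Nat.card_le_card_of_injective _ hinj
        rw [card_coe'] at hle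
        exact hle.trans (L.card_le τ hττ hτV)
      exact (Subgroup.eq_of_le_of_card_ge hRR' (by rw [hRc]; exact hcard)).ge)
    ((pgroup_L.to_subgroup _).map _) (by
      rintro _ ⟨x, hx, rfl⟩
      rw [hD, Subgroup.mem_centralizer_singleton_iff, ← hg]
      change g * h.lin.hom2 x * g⁻¹ * (g * s * g⁻¹) = g * s * g⁻¹ * (g * h.lin.hom2 x * g⁻¹)
      have h1 := congrArg h.lin.hom2 (mem_CL.mp hx)
      rw [map_mul, map_mul, h.hs] at h1
      calc g * h.lin.hom2 x * g⁻¹ * (g * s * g⁻¹) = g * (h.lin.hom2 x * s) * g⁻¹ := by group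
        _ = g * (s * h.lin.hom2 x) * g⁻¹ := by rw [h1]
        _ = _ := by group)
  -- the involutions
  have hex : ∀ x : L, x * L.s = L.s * x → ∃ y ∈ CL L.v, h.lin.hom2 y =
      d * (g * h.lin.hom2 x * g⁻¹) * d⁻¹ := fun x hx =>
    hdR (g * h.lin.hom2 x * g⁻¹) ⟨x, mem_CL.mpr hx, rfl⟩
  have hle : (L.iS L.s).card ≤
      (L.iS L.v).card := by
    classical
    have hex' : ∀ x : L, ∃ y : L, x * L.s = L.s * x → (y ∈ CL L.v ∧ h.lin.hom2 y =
        d * (g * h.lin.hom2 x * g⁻¹) * d⁻¹) := by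
      intro x
      by_cases hx : x * L.s = L.s * x
      · obtain ⟨y, hy, hy2⟩ := hex x hx
        exact ⟨y, fun _ => ⟨hy, hy2⟩⟩
      · exact ⟨1, fun h1 => absurd h1 hx⟩
    choose f hf using hex'
    apply Finset.card_le_card_of_injOn f
    · intro x hx
      rw [Finset.mem_coe, L.mem_iS] at hx
      obtain ⟨hx1, hx2⟩ := hx
      obtain ⟨h1, h2⟩ := hf x hx1
      rw [Finset.mem_coe, L.mem_iS]
      refine ⟨mem_CL.mp h1, ?_⟩
      rw [← h.sq_lift, h2]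
      calc d * (g * h.lin.hom2 x * g⁻¹) * d⁻¹ * (d * (g * h.lin.hom2 x * g⁻¹) * d⁻¹) =
          d * g * (h.lin.hom2 x * h.lin.hom2 x) * (d * g)⁻¹ := by group
        _ = 1 := by rw [h.sq_lift.mpr hx2]; group
    · intro x hx y hy hxy
      rw [Finset.mem_coe, L.mem_iS] at hx hy
      have h1 := (hf x hx.1).2
      have h2 := (hf y hy.1).2
      rw [hxy, h2] at h1
      have h3 := mul_left_cancel (mul_right_cancel h1)
      have h4 := mul_left_cancel (mul_right_cancel h3)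
      exact (h.lin.hom2_inj h4).symm
  rw [L.card_s, L.card_v] at hle
  omega

end HypA5

end Cfsg.Agent.StdAlt.Five.Kill
end

-- part: StdAlt/Five/KillLink
section
/-!
# S1766, `n = 5`: the kills A3 and A5 from the structures of `Sec4`
-/

set_option autoImplicit false

namespace Cfsg.Agent.StdAlt.Five.Kill

open Subgroup Cfsg.Agent.StdAlt.Conj Cfsg.Agent.J2Sylow.Model Cfsg.Agent.J2Sylow.Model.F4
open Cfsg.Agent.StdAlt.Five Sec4 KillModel

variable {G : Type*} [Group G]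

section order

/-- a 2-group whose order is not divisible by `2^(k+1)` -/
theorem card_le_of_not_dvd [Finite G] {Q : Subgroup G} (hQ : IsPGroup 2 Q) {k : ℕ}
    (h : ¬ 2 ^ (k + 1) ∣ Nat.card Q) : Nat.card Q ≤ 2 ^ k := by
  obtain ⟨n, hn⟩ := IsPGroup.iff_card.mp hQ
  rw [hn] at h ⊢
  apply Nat.pow_le_pow_right (by norm_num)
  by_contra hlt
  exact h (pow_dvd_pow 2 (by omega))

/-- the product map -/
def mulHom (A : Subgroup G) : A × C A →* G where
  toFun x := x.1 * x.2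
  map_one' := by simp only [_root_.Prod.fst_one, _root_.OneMemClass.coe_one, _root_.Prod.snd_one, _root_.mul_one]
  map_mul' := by
    rintro ⟨a, k⟩ ⟨a', k'⟩
    change (a : G) * a' * (k * k') = a * k * (a' * k')
    have h1 := mem_C.mp k.2 _ a'.2
    calc (a : G) * a' * (k * k') = a * (a' * k) * k' := by group
      _ = a * (k * a') * k' := by rw [h1]
      _ = _ := by group

/-- the product of `A` and `C A` -/
def AC (A : Subgroup G) : Subgroup G := (mulHom A).range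

theorem mem_AC {A : Subgroup G} {x : G} : x ∈ AC A ↔ ∃ a ∈ A, ∃ k ∈ C A, x = a * k := by
  constructor
  · rintro ⟨⟨a, k⟩, rfl⟩
    exact ⟨a, a.2, k, k.2, rfl⟩
  · rintro ⟨a, ha, k, hk, rfl⟩
    exact ⟨(⟨a, ha⟩, ⟨k, hk⟩), rfl⟩

theorem not_dvd_AC [Finite G] {A : Subgroup G} (h1 : 4 ∣ Nat.card A) (h2 : 4 ∣ Nat.card (C A))
    (h3 : ¬ 8 ∣ Nat.card A) (h4 : ¬ 8 ∣ Nat.card (C A)) : ¬ 2 ^ 5 ∣ Nat.card (AC A) := by
  intro h5
  have h6 : 2 ^ 5 ∣ Nat.card A * Nat.card (C A) := by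
    rw [← Nat.card_prod]
    exact h5.trans (Subgroup.card_range_dvd (mulHom A))
  rcases succ_dvd_or_succ_dvd_of_succ_sum_dvd_mul (k := 2) (l := 2) Nat.prime_two.prime
    (by simpa only [_root_.Nat.reducePow] using h1) (by simpa only [_root_.Nat.reducePow] using h2) (by simpa only [_root_.Nat.reduceAdd, _root_.Nat.reducePow] using h6) with h | h
  · exact h3 (by simpa using h)
  · exact h4 (by simpa using h)

theorem card_le_AC [Finite G] {A : Subgroup G} (h1 : 4 ∣ Nat.card A) (h2 : 4 ∣ Nat.card (C A))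
    (h3 : ¬ 8 ∣ Nat.card A) (h4 : ¬ 8 ∣ Nat.card (C A)) {Q : Subgroup G} (hQ : IsPGroup 2 Q)
    (hQA : Q ≤ AC A) : Nat.card Q ≤ 16 := by
  apply card_le_of_not_dvd (k := 4) hQ
  intro h
  exact not_dvd_AC h1 h2 h3 h4 (h.trans (Subgroup.card_dvd_of_le hQA))

/-- a subgroup in two cosets -/
theorem card_le_two [Finite G] {Q H : Subgroup G} (h : ∀ x ∈ Q, ∀ y ∈ Q, x ∉ H → y ∉ H → x * y⁻¹ ∈ H) :
    Nat.card Q ≤ 2 * Nat.card (Q ⊓ H : Subgroup G) := by
  classical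
  by_cases hle : Q ≤ H
  · rw [inf_eq_left.mpr hle]; omega
  obtain ⟨y, hy, hyH⟩ := SetLike.not_le_iff_exists.mp hle
  let f : Q → (Q ⊓ H : Subgroup G) × Bool := fun x =>
    if hx : (x : G) ∈ H then (⟨x, x.2, hx⟩, false)
    else (⟨x * y⁻¹, Q.mul_mem x.2 (Q.inv_mem hy), h x x.2 y hy hx hyH⟩, true)
  have hf : Function.Injective f := by
    intro x x' hxx
    apply Subtype.ext
    by_cases hx : (x : G) ∈ H <;> by_cases hx' : (x' : G) ∈ H
    · simp only [f, hx, hx', dif_pos, Prod.mk.injEq, and_true] at hxx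
      exact congrArg (fun z : (Q ⊓ H : Subgroup G) => (z : G)) hxx
    · simp [f, hx, hx'] at hxx
    · simp [f, hx, hx'] at hxx
    · simp only [f, hx, hx', dif_neg, not_false_eq_true, Prod.mk.injEq, and_true] at hxx
      exact mul_right_cancel (congrArg Subtype.val hxx)
  have h1 := Nat.card_le_card_of_injective f hf
  rw [Nat.card_prod] at h1
  have h2 : Nat.card Bool = 2 := by simp
  rw [h2] at h1
  omega

end order

variable [Finite G] {A R V P : Subgroup G} {ρ ρ₀ w s : G} {X Y Z : F4 → G} {S : Sylow 2 G}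

omit [Finite G] in
theorem Z_zero (B : Base A R V P ρ 0 X Y Z) : Z 0 = 1 := by
  have := B.frame.Z_add 0 0
  rw [add_zero] at this
  exact left_eq_mul.mp this

omit [Finite G] in
theorem X_zero (B : Base A R V P ρ 0 X Y Z) : X 0 = 1 := by
  have := B.frame.X_add 0 0
  rw [add_zero] at this
  exact left_eq_mul.mp this

omit [Finite G] in
theorem YY (B : Base A R V P ρ 0 X Y Z) (a b : F4) : Y a * Y b = Y (a + b) := by
  rw [B.frame.Y_mul, zero_mul, Z_zero B, mul_one]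

omit [Finite G] in
theorem Y_zero (B : Base A R V P ρ 0 X Y Z) : Y 0 = 1 := by
  have := YY B 0 0
  rw [add_zero] at this
  exact mul_eq_left.mp this

omit [Finite G] in
theorem four_A (B : Base A R V P ρ 0 X Y Z) : 4 ∣ Nat.card A := by
  obtain ⟨g, h⟩ := B.odd
  rw [← h.cardV]
  exact Subgroup.card_dvd_of_le h.V_le

omit [Finite G] in
theorem four_C (B : Base A R V P ρ 0 X Y Z) : 4 ∣ Nat.card (C A) := by
  obtain ⟨g, h⟩ := B.odd
  rw [← h.cardR]
  exact Subgroup.card_dvd_of_le h.R_le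

omit [Finite G] in
/-- the linear structure -/
theorem lin_of (B : Base A R V P ρ 0 X Y Z) (sq : w * w = 1) (cX : ∀ a, w * X a * w = Y a)
    (cY : ∀ b, w * Y b * w = X b) (cZ : ∀ c, w * Z c * w = Z c) : Lin X Y Z w := by
  have F := B.frame
  have D := B.data
  have hc : ∀ x ∈ P, ∀ c, Z c * x = x * Z c := fun x hx c => (D.cent x hx _ (F.Z_mem c)).symm
  have hinv : w⁻¹ = w := by rw [inv_eq_iff_mul_eq_one]; exact sq
  refine
    { XX := fun a b => (F.X_add a b).symm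
      YY := YY B
      ZZ := fun a b => (F.Z_add a b).symm
      XY := fun a b => by rw [F.X_Y, mul_assoc]
      ZX := fun a b => hc _ (D.R_le (F.X_mem b)) a
      ZY := fun a b => hc _ (F.Y_mem b) a
      WX := fun a => by rw [← cX, mul_assoc, sq, mul_one]
      WY := fun a => by rw [← cY, mul_assoc, sq, mul_one]
      WZ := fun a => by
        calc w * Z a = w * Z a * w * w := by rw [mul_assoc _ w w, sq, mul_one]
          _ = Z a * w := by rw [cZ]
      WW := sq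
      inj := ?_
      out := ?_ }
  · intro a b c h
    have h1 : Y b * X a * Z c = Y 0 * X 0 * Z 0 := by
      rw [Y_zero B, X_zero B, Z_zero B, mul_assoc, h]; group
    obtain ⟨h2, h3, h4⟩ := F.inj _ _ _ _ _ _ h1
    exact ⟨h3, h2, h4⟩
  · intro a b c h
    have hwP : w ∈ P := by
      rw [← h]
      exact P.mul_mem (F.Y_mem b) (P.mul_mem (D.R_le (F.X_mem a)) (D.B_le (F.Z_mem c)))
    have h1 := D.comm_mem w hwP _ (F.X_mem 1)
    obtain ⟨c', hc'⟩ := F.Z_surj _ h1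
    have h2 : Y 1 = Z c' * X 1 := by
      rw [hc', ← cX 1, hinv]; group
    have h3 : Y 1 * X 0 * Z 0 = Y 0 * X 1 * Z c' := by
      rw [X_zero B, Z_zero B, Y_zero B, h2, hc _ (D.R_le (F.X_mem 1))]; group
    obtain ⟨h4, -, -⟩ := F.inj _ _ _ _ _ _ h3
    exact absurd h4 (by decide)

/-- elements of K-type are conjugate -/
theorem conj_of_KT (B : Base A R V P ρ 0 X Y Z) (κ : Kap3 A X Y ρ₀) {x : G} (hx : KT A x) :
    IsConj (X 1) x := by
  obtain ⟨g0, od⟩ := B.odd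
  have F := B.frame
  obtain ⟨hx1, hx2, g, hg⟩ := hx
  set k := g * x * g⁻¹ with hk
  have hk2 : k * k = 1 := by
    calc g * x * g⁻¹ * (g * x * g⁻¹) = g * (x * x) * g⁻¹ := by group
      _ = 1 := by rw [hx2]; group
  have hk1 : k ≠ 1 := by
    intro h1
    apply hx1
    have : x = g⁻¹ * k * g := by rw [hk]; group
    rw [this, h1]; group
  have hQ : IsPGroup 2 (zpowers k) := by
    rintro ⟨z, hz⟩
    obtain ⟨i, rfl⟩ := mem_zpowers_iff.mp hz
    refine ⟨1, ?_⟩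
    apply Subtype.ext
    change (k ^ i) ^ 2 ^ 1 = 1
    rw [← zpow_natCast, ← zpow_mul, mul_comm, zpow_mul, zpow_natCast, pow_one, pow_two, hk2,
      one_zpow]
  have hRp : IsPGroup 2 R := IsPGroup.of_card (n := 2) (by rw [od.cardR]; norm_num)
  obtain ⟨d, hd, hdR⟩ := conj_into_max od.R_le hRp (by
    intro R' h1 h2 h3
    have h4 : Nat.card R' ≤ 2 ^ 2 := card_le_of_not_dvd h2 (by
      intro h5
      exact od.card8 (by simpa only [_root_.Nat.reduceAdd, _root_.Nat.reducePow] using h5.trans (Subgroup.card_dvd_of_le h1)))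
    exact (Subgroup.eq_of_le_of_card_ge h3 (by rw [od.cardR]; simpa only [_root_.Nat.reducePow] using h4)).ge) hQ
    (by rw [zpowers_le]; exact hg)
  obtain ⟨a, ha⟩ := F.X_surj _ (hdR k (mem_zpowers k))
  have hc : IsConj (X a) x := by
    rw [isConj_iff]
    exact ⟨(d * g)⁻¹, by rw [ha, hk]; group⟩
  refine IsConj.trans ?_ hc
  have h1 : IsConj (X 1) (X F4.w) := by
    rw [isConj_iff]
    exact ⟨ρ₀, by rw [κ.conjX]; rfl⟩
  have h2 : IsConj (X F4.w) (X F4.u) := by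
    rw [isConj_iff]
    exact ⟨ρ₀, by rw [κ.conjX]; rfl⟩
  have ha0 : a ≠ 0 := by
    rintro rfl
    rw [X_zero B] at ha
    apply hk1
    have : k = d⁻¹ * (d * k * d⁻¹) * d := by group
    rw [this, ← ha]; group
  have h3 : ∀ a : F4, a ≠ 0 → a = 1 ∨ a = F4.w ∨ a = F4.u := by decide
  rcases h3 a ha0 with rfl | rfl | rfl
  · exact IsConj.refl _
  · exact h1
  · exact h1.trans h2

omit [Finite G] in
theorem kt_conj {A : Subgroup G} {x y : G} (h : KT A x) (hc : IsConj x y) : KT A y := by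
  rw [isConj_iff] at hc
  obtain ⟨g, rfl⟩ := hc
  obtain ⟨h1, h2, k, hk⟩ := h
  refine ⟨?_, ?_, k * g⁻¹, ?_⟩
  · intro h3
    apply h1
    have : x = g⁻¹ * (g * x * g⁻¹) * g := by group
    rw [this, h3]; group
  · calc g * x * g⁻¹ * (g * x * g⁻¹) = g * (x * x) * g⁻¹ := by group
      _ = 1 := by rw [h2]; group
  · have : k * g⁻¹ * (g * x * g⁻¹) * (k * g⁻¹)⁻¹ = k * x * k⁻¹ := by group
    rw [this]; exact hk

omit [Finite G] in
theorem nZ_of (B : Base A R V P ρ 0 X Y Z) (c : F4) : ¬ IsConj (X 1) (Z c) := by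
  intro hc
  have h1 : KT A (X 1 * Z 0) := (B.kt 1 0).mpr (by decide)
  rw [Z_zero B, mul_one] at h1
  have h2 := kt_conj h1 hc
  have h3 := (B.kt 0 c).mp (by rw [X_zero B, one_mul]; exact h2)
  exact h3 rfl

omit [Finite G] in
theorem cent_le (B : Base A R V P ρ 0 X Y Z) : centralizer {X 1} ≤ N A := by
  obtain ⟨g0, od⟩ := B.odd
  intro g hg
  rw [mem_centralizer_singleton_iff] at hg
  have h2 : X 1 * X 1 = 1 := od.sqR _ (B.frame.X_mem 1)
  apply od.te.nrm (od.R_le (B.frame.X_mem 1)) _ h2 hg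
  intro h1
  have h3 : Y 0 * X 1 * Z 0 = Y 0 * X 0 * Z 0 := by rw [h1, X_zero B]
  obtain ⟨-, h4, -⟩ := B.frame.inj _ _ _ _ _ _ h3
  exact absurd h4 (by decide)

/-- the hypotheses of A3 -/
theorem hypA3 (B : Base A R V P ρ 0 X Y Z) (κ : Kap3 A X Y ρ₀) (sw : SwapLin A P X Y Z w S)
    (hA : ¬ 8 ∣ Nat.card A) : HypA3 S X Y Z w := by
  obtain ⟨g0, od⟩ := B.odd
  have F := B.frame
  have D := B.data
  have hl := lin_of B sw.sq sw.conjX sw.conjY sw.conjZ
  refine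
    { lin := hl
      mem := ?_
      cX := fun a c ha => conj_of_KT B κ ((B.kt a c).mpr ha)
      nZ := fun c _ => nZ_of B c
      cent := ?_ }
  · intro g
    rw [sw.mem]
    constructor
    · rintro (hg | hg)
      · obtain ⟨b, a, c, rfl⟩ := F.P_surj _ hg
        exact ⟨⟨a, b, c, false⟩, by simp [kFun, mul_assoc]⟩
      · obtain ⟨b, a, c, h1⟩ := F.P_surj _ hg
        refine ⟨⟨a, b, c, true⟩, ?_⟩
        have h2 : g = Y b * X a * Z c * w := by rw [← h1, mul_assoc, sw.sq, mul_one]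
        rw [h2]; simp [kFun, mul_assoc]
    · rintro ⟨⟨a, b, c, i⟩, rfl⟩
      cases i
      · left
        simp only [kFun, Bool.false_eq_true, if_false, mul_one]
        exact P.mul_mem (F.Y_mem b) (P.mul_mem (D.R_le (F.X_mem a)) (D.B_le (F.Z_mem c)))
      · right
        have : kFun X Y Z w ⟨a, b, c, true⟩ * w = Y b * (X a * Z c) := by
          simp only [kFun, if_true, mul_assoc, sw.sq, mul_one]
        rw [this]
        exact P.mul_mem (F.Y_mem b) (P.mul_mem (D.R_le (F.X_mem a)) (D.B_le (F.Z_mem c)))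
  · intro Q hQ hQX
    -- `E`
    let EK : Subgroup K :=
      { carrier := {x | x.b = 0 ∧ x.i = false}
        one_mem' := ⟨rfl, rfl⟩
        mul_mem' := by
          rintro ⟨a, b, c, i⟩ ⟨a', b', c', i'⟩ ⟨h1, h2⟩ ⟨h3, h4⟩
          simp only at h1 h2 h3 h4
          subst h1 h2 h3 h4
          exact ⟨rfl, rfl⟩
        inv_mem' := by
          rintro ⟨a, b, c, i⟩ ⟨h1, h2⟩
          simp only at h1 h2
          subst h1 h2
          exact ⟨rfl, rfl⟩ }
    have hEK : Nat.card EK = 16 := by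
      rw [Nat.card_congr (show EK ≃ {x : K // x.b = 0 ∧ x.i = false} from
        Equiv.subtypeEquivRight (fun _ => Iff.rfl)), Nat.card_eq_fintype_card, Fintype.card_subtype]
      decide +kernel
    have hE : Nat.card (EK.map hl.hom) = 16 := by
      rw [Subgroup.card_map_of_injective hl.hom_inj, hEK]
    obtain ⟨d, hd, hdE⟩ := conj_into_max (D := centralizer {X 1}) (R := EK.map hl.hom) (Q := Q) (by
        rintro _ ⟨x, hx, rfl⟩
        rw [mem_centralizer_singleton_iff, ← hl.hom_X 1, ← map_mul, ← map_mul]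
        congr 1
        have h1 : ∀ x : K, x.b = 0 ∧ x.i = false → x * ⟨1, 0, 0, false⟩ = ⟨1, 0, 0, false⟩ * x := by
          decide +kernel
        exact h1 x hx) ((pgroup_K.to_subgroup _).map _) (by
        intro R' h1 h2 h3
        have h4 : Nat.card R' ≤ 16 := card_le_AC (four_A B) (four_C B) hA od.card8 h2 (by
          intro r hr
          rw [mem_AC]
          exact sw.mu1 r (cent_le B (h1 hr)))
        exact (Subgroup.eq_of_le_of_card_ge h3 (by rw [hE]; exact h4)).ge) hQ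
        (fun q hq => mem_centralizer_singleton_iff.mpr (hQX q hq))
    refine ⟨d, mem_centralizer_singleton_iff.mp hd, fun q hq => ?_⟩
    obtain ⟨⟨a, b, c, i⟩, ⟨hb, hi⟩, h2⟩ := hdE q hq
    simp only at hb hi
    subst hb hi
    refine ⟨a, c, ?_⟩
    rw [← h2, Lin.hom_apply]
    simp [hl.Y0]

/-- **A3** -/
theorem a3 (B : Base A R V P ρ 0 X Y Z) (κ : Kap3 A X Y ρ₀) (sw : SwapLin A P X Y Z w S)
    (hA : ¬ 8 ∣ Nat.card A) (hidx : ∀ M : Subgroup G, M.Normal → M.index ≠ 2) : False :=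
  (hypA3 B κ sw hA).kill hidx

omit [Finite G] in
theorem linS_of (B : Base A R V P ρ 0 X Y Z) (sw : SwapTwo A P ρ X Y Z s w S) :
    LinS X Y Z w s := by
  have F := B.frame
  have D := B.data
  have hl := lin_of B sw.sq sw.conjX sw.conjY sw.conjZ
  have hs := sw.mu2.sq
  refine
    { hl with
      sX := fun a => by rw [← sw.mu2.conjX, mul_assoc, hs, mul_one]
      sY := fun a => by rw [← sw.mu2.conjY, mul_assoc, hs, mul_one]
      sZ := fun a => by rw [← sw.mu2.conjZ, mul_assoc, hs, mul_one]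
      sW := sw.comm
      ss := hs
      out2 := ?_ }
  intro x hx
  have h1 : kFun X Y Z w x * Z F4.w = Z F4.w * kFun X Y Z w x := by
    change hl.hom x * _ = _ * hl.hom x
    have h8 := K.conj_V x F4.w
    rw [mul_inv_eq_iff_eq_mul] at h8
    have h9 := congrArg hl.hom h8
    rwa [map_mul, map_mul, hl.hom_Z] at h9
  rw [hx] at h1
  have h2 : Z F4.w = Z F4.u := by
    have h3 := sw.mu2.conjZ F4.w
    rw [h1, mul_assoc, hs, mul_one] at h3
    exact h3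
  have h3 : Y 0 * X 0 * Z F4.w = Y 0 * X 0 * Z F4.u := by rw [h2]
  obtain ⟨-, -, h4⟩ := F.inj _ _ _ _ _ _ h3
  exact absurd h4 (by decide)

/-- the hypotheses of A5 -/
theorem hypA5 (B : Base A R V P ρ 0 X Y Z) (κ : Kap3 A X Y ρ₀) (sw : SwapTwo A P ρ X Y Z s w S)
    (hA : ¬ 8 ∣ Nat.card A) (hM : ∀ m ∈ N A, m ∈ AC A ∨ m * s ∈ AC A) : HypA5 S X Y Z w s := by
  obtain ⟨g0, od⟩ := B.odd
  have F := B.frame
  have D := B.data
  have hl := linS_of B sw
  have hPk : ∀ p ∈ P, ∃ a b c, p = hl.hom ⟨a, b, c, false⟩ := by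
    intro p hp
    obtain ⟨b, a, c, h1⟩ := F.P_surj _ hp
    exact ⟨a, b, c, by rw [h1, Lin.hom_apply]; simp [mul_assoc]⟩
  have hkP : ∀ a b c, hl.hom ⟨a, b, c, false⟩ ∈ P := by
    intro a b c
    rw [Lin.hom_apply]
    simp only [Bool.false_eq_true, if_false, mul_one]
    exact P.mul_mem (F.Y_mem b) (P.mul_mem (D.R_le (F.X_mem a)) (D.B_le (F.Z_mem c)))
  have hw : ∀ a b c, hl.hom ⟨a, b, c, true⟩ = hl.hom ⟨a, b, c, false⟩ * w := by
    intro a b c
    rw [Lin.hom_apply, Lin.hom_apply]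
    simp [mul_assoc]
  have hs := sw.mu2.sq
  refine
    { lin := hl
      mem := ?_
      cX := fun a c ha => conj_of_KT B κ ((B.kt a c).mpr ha)
      cZ := ?_
      cent := ?_
      out := ?_ }
  · intro g
    rw [sw.mem]
    constructor
    · rintro (hg | hg | hg | hg)
      · obtain ⟨a, b, c, h1⟩ := hPk _ hg
        exact ⟨⟨⟨a, b, c, false⟩, false⟩, by rw [hl.hom2_k, h1]⟩
      · obtain ⟨a, b, c, h1⟩ := hPk _ hg
        refine ⟨⟨⟨a, b, c, false⟩, true⟩, ?_⟩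
        rw [hl.hom2_apply, ← h1]
        simp [mul_assoc, hs]
      · obtain ⟨a, b, c, h1⟩ := hPk _ hg
        refine ⟨⟨⟨a, b, c, true⟩, false⟩, ?_⟩
        rw [hl.hom2_k, hw, ← h1, mul_assoc, sw.sq, mul_one]
      · obtain ⟨a, b, c, h1⟩ := hPk _ hg
        refine ⟨⟨⟨a, b, c, true⟩, true⟩, ?_⟩
        rw [hl.hom2_apply]
        simp only [if_true]
        rw [hw, ← h1]
        calc g * (s * w) * w * s = g * s * (w * w) * s := by group
          _ = g * (s * s) := by rw [sw.sq]; group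
          _ = g := by rw [hs, mul_one]
    · rintro ⟨⟨⟨a, b, c, i⟩, j⟩, rfl⟩
      rw [hl.hom2_apply]
      cases i <;> cases j
      · left; simpa using hkP a b c
      · right; left
        simp only [if_true, mul_assoc, hs, mul_one]
        exact hkP a b c
      · right; right; left
        simp only [Bool.false_eq_true, if_false, mul_one]
        rw [hw, mul_assoc, sw.sq, mul_one]
        exact hkP a b c
      · right; right; right
        simp only [if_true]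
        have : hl.hom ⟨a, b, c, true⟩ * s * (s * w) = hl.hom ⟨a, b, c, false⟩ := by
          rw [hw]
          calc hl.hom ⟨a, b, c, false⟩ * w * s * (s * w) =
              hl.hom ⟨a, b, c, false⟩ * w * (s * s) * w := by group
            _ = hl.hom ⟨a, b, c, false⟩ * (w * w) := by rw [hs]; group
            _ = _ := by rw [sw.sq, mul_one]
        rw [this]
        exact hkP a b c
  · intro c hc
    have h1 : IsConj (Z 1) (Z F4.w) := by
      rw [isConj_iff]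
      exact ⟨ρ, by rw [F.ρZ]; rfl⟩
    have h2 : IsConj (Z F4.w) (Z F4.u) := by
      rw [isConj_iff]
      exact ⟨ρ, by rw [F.ρZ]; rfl⟩
    have h3 : ∀ a : F4, a ≠ 0 → a = 1 ∨ a = F4.w ∨ a = F4.u := by decide
    rcases h3 c hc with rfl | rfl | rfl
    · exact IsConj.refl _
    · exact h1
    · exact h1.trans h2
  · intro Q hQ hQX
    let EL : Subgroup L :=
      { carrier := {x | L.IsE x = true}
        one_mem' := by decide
        mul_mem' := by
          intro x y hx hy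
          have h1 : ∀ x : L, L.IsE x = true → x = ⟨⟨x.k.a, 0, x.k.c, false⟩, x.j⟩ := by
            decide +kernel
          change L.IsE (x * y) = true
          rw [h1 x hx, h1 y hy]
          generalize x.k.a = a
          generalize x.k.c = c
          generalize x.j = j
          generalize y.k.a = a'
          generalize y.k.c = c'
          generalize y.j = j'
          revert a c a' c' j j'
          decide +kernel
        inv_mem' := by
          intro x hx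
          have h1 : ∀ x : L, L.IsE x = true → L.IsE x⁻¹ = true := by decide +kernel
          exact h1 x hx }
    have hEL : Nat.card EL = 32 := by
      rw [Nat.card_congr (show EL ≃ {x : L // L.IsE x = true} from
        Equiv.subtypeEquivRight (fun _ => Iff.rfl)), Nat.card_eq_fintype_card, Fintype.card_subtype]
      decide +kernel
    have hE : Nat.card (EL.map hl.hom2) = 32 := by
      rw [Subgroup.card_map_of_injective hl.hom2_inj, hEL]
    obtain ⟨d, hd, hdE⟩ := conj_into_max (D := centralizer {X 1}) (R := EL.map hl.hom2) (Q := Q) (by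
        rintro _ ⟨x, hx, rfl⟩
        have h0 : hl.hom2 ⟨⟨1, 0, 0, false⟩, false⟩ = X 1 := by rw [hl.hom2_k, hl.hom_X]
        rw [mem_centralizer_singleton_iff, ← h0, ← map_mul, ← map_mul]
        congr 1
        have h1 : ∀ x : L, L.IsE x = true → x * ⟨⟨1, 0, 0, false⟩, false⟩ =
            ⟨⟨1, 0, 0, false⟩, false⟩ * x := by
          decide +kernel
        exact h1 x hx) ((pgroup_L.to_subgroup _).map _) (by
        intro R' h1 h2 h3
        have h4 : Nat.card (R' ⊓ AC A : Subgroup G) ≤ 16 :=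
          card_le_AC (four_A B) (four_C B) hA od.card8 (h2.to_le inf_le_left) inf_le_right
        have h5 : Nat.card R' ≤ 2 * Nat.card (R' ⊓ AC A : Subgroup G) := by
          apply card_le_two
          intro x hx y hy hx' hy'
          have e1 := (hM x (cent_le B (h1 hx))).resolve_left hx'
          have e2 := (hM y (cent_le B (h1 hy))).resolve_left hy'
          have e3 : x * y⁻¹ = (x * s) * (y * s)⁻¹ := by group
          rw [e3]
          exact mul_mem e1 (inv_mem e2)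
        exact (Subgroup.eq_of_le_of_card_ge h3 (by rw [hE]; omega)).ge) hQ
        (fun q hq => mem_centralizer_singleton_iff.mpr (hQX q hq))
    refine ⟨d, mem_centralizer_singleton_iff.mp hd, fun q hq => ?_⟩
    obtain ⟨x, hx, h2⟩ := hdE q hq
    have h1 : ∀ x : L, L.IsE x = true → x = ⟨⟨x.k.a, 0, x.k.c, false⟩, x.j⟩ := by
      decide +kernel
    refine ⟨x.k.a, x.k.c, x.j, ?_⟩
    rw [← h2, h1 x hx, hl.hom2_apply, Lin.hom_apply]
    simp [hl.Y0]
  · intro k hk a c h1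
    have hkN : k ∈ N A := cent_le B (mem_centralizer_singleton_iff.mpr hk)
    have h2 : k⁻¹ * Z c * k ∈ A := conj_mem' hkN (od.V_le (F.Z_mem c))
    have h3 : k⁻¹ * X a * k ∈ C A := conj_mem_C' hkN (od.R_le (F.X_mem a))
    have h4 : X a * Z c = Z c * X a := D.cent _ (D.R_le (F.X_mem a)) _ (F.Z_mem c)
    apply sw.mu2.out _ h2 _ h3
    calc s = k⁻¹ * (k * s * k⁻¹) * k := by group
      _ = k⁻¹ * (Z c * X a) * k := by rw [h1, h4]
      _ = _ := by group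

/-- **A5** -/
theorem a5 (B : Base A R V P ρ 0 X Y Z) (κ : Kap3 A X Y ρ₀) (sw : SwapTwo A P ρ X Y Z s w S)
    (hA : ¬ 8 ∣ Nat.card A) (hM : ∀ m ∈ N A, m ∈ AC A ∨ m * s ∈ AC A)
    (hidx : ∀ M : Subgroup G, M.Normal → M.index ≠ 2) : False :=
  (hypA5 B κ sw hA hM).kill hidx

end Cfsg.Agent.StdAlt.Five.Kill
end

-- part: StdAlt/Five/KOneDefs
section
/-!
# S1766, n = 5, odd configuration with `N_K(R) = C_K(R)` (`κ = 1`): definitions

`K = C A`, `M = N A`.  `L` is a normal simple subgroup of `G = L R` containing `A`.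
-/

set_option autoImplicit false

namespace Cfsg.Agent.StdAlt.Five

open Subgroup Cfsg.Agent.StdAlt.Conj Cfsg.Agent.J2Sylow.Model

/-- The common hypotheses of the kills B1 - B4. -/
structure KOne {G : Type*} [Group G] (A R B P L : Subgroup G) (ρ : G) (ε : F4) (X Y Z : F4 → G) :
    Prop where
  dat : Coord.Data R B P ρ
  fr : Coord.Frame R B P ρ ε X Y Z
  te : TE A
  /-- no involution of `A` is conjugate to an element of `C A` -/
  nK : ∀ x : G, ∀ a ∈ A, a ≠ 1 → a * a = 1 → x * a * x⁻¹ ∉ C A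
  R_le : R ≤ C A
  B_le : B ≤ A
  ρA : ρ ∈ A
  cardA : ¬ 8 ∣ Nat.card A
  cardK : ¬ 8 ∣ Nat.card (C A)
  /-- `C_{N A}(B) = C A * B` -/
  CV : ∀ x ∈ N A, (∀ v ∈ B, x * v = v * x) → ∃ v ∈ B, x * v ∈ C A
  /-- `N_K(R) = C_K(R)` -/
  κ : ∀ k ∈ C A, (∀ r ∈ R, k * r * k⁻¹ ∈ R) → ∀ r ∈ R, k * r = r * k
  nor : L.Normal
  simple : IsSimpleGroup L
  A_le : A ≤ L
  gen : ∀ g : G, ∃ l ∈ L, ∃ r ∈ R, g = l * r

/-- `|M / K A| = 1`; `P` is a Sylow 2-subgroup. -/
structure MuOne {G : Type*} [Group G] (A R B P L : Subgroup G) (ρ : G) (ε : F4) (X Y Z : F4 → G)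
    (S : Sylow 2 G) : Prop extends KOne A R B P L ρ ε X Y Z where
  hM : ∀ m ∈ N A, ∃ k ∈ C A, ∃ a ∈ A, m = k * a
  hS : (S : Subgroup G) = P

/-- `|M / K A| = 2`; `P ⟨s⟩` is a Sylow 2-subgroup. -/
structure MuTwo {G : Type*} [Group G] (A R B P L : Subgroup G) (ρ : G) (ε : F4) (X Y Z : F4 → G)
    (s : G) (S : Sylow 2 G) : Prop extends KOne A R B P L ρ ε X Y Z where
  sN : s ∈ N A
  ss : s * s = 1
  s_not : s ∉ P
  hM : ∀ m ∈ N A, ∃ k ∈ C A, ∃ a ∈ A, m = k * a ∨ m = k * a * s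
  sX : ∀ a, s * X a * s⁻¹ = X (F4.fr a)
  sY : ∀ b, s * Y b * s⁻¹ = Y (F4.fr b)
  sZ : ∀ c, s * Z c * s⁻¹ = Z (F4.fr c)
  hS : ∀ x, x ∈ (S : Subgroup G) ↔ x ∈ P ∨ x * s ∈ P

end Cfsg.Agent.StdAlt.Five
end

-- part: StdAlt/Five/KOneBasic
section
/-!
# S1766, n = 5, `κ = 1`: basic facts
-/

set_option autoImplicit false

namespace Cfsg.Agent.StdAlt.Five

open Subgroup Cfsg.Agent.StdAlt.Conj Cfsg.Agent.J2Sylow.Model

namespace KOne

variable {G : Type*} [Group G] {A R B P L : Subgroup G} {ρ : G} {ε : F4} {X Y Z : F4 → G}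
variable (h : KOne A R B P L ρ ε X Y Z)
include h

theorem ZX (c a : F4) : Z c * X a = X a * Z c :=
  (h.dat.cent _ (h.dat.R_le (h.fr.X_mem a)) _ (h.fr.Z_mem c)).symm

theorem ZY (c b : F4) : Z c * Y b = Y b * Z c :=
  (h.dat.cent _ (h.fr.Y_mem b) _ (h.fr.Z_mem c)).symm

theorem XX (a : F4) : X a * X a = 1 := by
  rw [← h.fr.X_add, F4.add_self, h.fr.X_zero]

theorem ZZ (a : F4) : Z a * Z a = 1 := by
  rw [← h.fr.Z_add, F4.add_self, h.fr.Z_zero]

theorem X_inv (a : F4) : (X a)⁻¹ = X a := inv_eq_of_mul_eq_one_right (h.XX a)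

theorem Z_inv (a : F4) : (Z a)⁻¹ = Z a := inv_eq_of_mul_eq_one_right (h.ZZ a)

theorem X_ne {a : F4} (ha : a ≠ 0) : X a ≠ 1 := fun h1 => ha (h.fr.X_inj (h1.trans h.fr.X_zero.symm))

theorem Z_ne {a : F4} (ha : a ≠ 0) : Z a ≠ 1 := fun h1 => ha (h.fr.Z_inj (h1.trans h.fr.Z_zero.symm))

theorem mul3 (b a c b' a' c' : F4) : (Y b * X a * Z c) * (Y b' * X a' * Z c') =
    Y (b + b') * X (a + a') * Z (c + c' + a * b' + ε * F4.fr (b * b')) := by
  have e1 : (Y b * X a * Z c) * (Y b' * X a' * Z c') = Y b * (X a * Y b') * X a' * (Z c * Z c') := by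
    calc (Y b * X a * Z c) * (Y b' * X a' * Z c') = Y b * X a * (Z c * Y b') * X a' * Z c' := by group
      _ = Y b * X a * Y b' * (Z c * X a') * Z c' := by rw [h.ZY]; group
      _ = _ := by rw [h.ZX]; group
  have e2 : (Y b * X a * Z c) * (Y b' * X a' * Z c') =
      (Y b * Y b') * (X a * X a') * (Z (a * b') * (Z c * Z c')) := by
    rw [e1, h.fr.X_Y]
    calc Y b * (Y b' * X a * Z (a * b')) * X a' * (Z c * Z c')
        = Y b * Y b' * X a * (Z (a * b') * X a') * (Z c * Z c') := by group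
      _ = _ := by rw [h.ZX]; group
  rw [e2, h.fr.Y_mul, ← h.fr.X_add, ← h.fr.Z_add, ← h.fr.Z_add]
  calc Y (b + b') * Z (ε * F4.fr (b * b')) * X (a + a') * Z (a * b' + (c + c'))
      = Y (b + b') * (Z (ε * F4.fr (b * b')) * X (a + a')) * Z (a * b' + (c + c')) := by group
    _ = Y (b + b') * X (a + a') * (Z (ε * F4.fr (b * b')) * Z (a * b' + (c + c'))) := by
        rw [h.ZX]; group
    _ = _ := by
        rw [← h.fr.Z_add]
        congr 2
        ring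

theorem one3 : (1 : G) = Y 0 * X 0 * Z 0 := by rw [h.fr.X_zero, h.fr.Y_zero, h.fr.Z_zero]; group

theorem inv3 (b a c : F4) : (Y b * X a * Z c)⁻¹ = Y b * X a * Z (c + a * b + ε * F4.fr (b * b)) := by
  refine inv_eq_of_mul_eq_one_right ?_
  rw [h.mul3, h.one3, F4.add_self, F4.add_self]
  have : ∀ c x y : F4, c + (c + x + y) + x + y = 0 := by decide
  rw [this]

theorem Xmem (a : F4) : X a ∈ P := h.dat.R_le (h.fr.X_mem a)
theorem Zmem (a : F4) : Z a ∈ P := h.dat.B_le (h.fr.Z_mem a)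

/-- the abelian group `E = R B` -/
theorem mem_E {x : G} : x ∈ R ⊔ B ↔ ∃ a c, x = X a * Z c := by
  constructor
  · intro hx
    have : R ⊔ B ≤ (⟨⟨⟨{x | ∃ a c, x = X a * Z c}, by
        rintro x y ⟨a, c, rfl⟩ ⟨a', c', rfl⟩
        refine ⟨a + a', c + c', ?_⟩
        rw [h.fr.X_add, h.fr.Z_add]
        calc X a * Z c * (X a' * Z c') = X a * (Z c * X a') * Z c' := by group
          _ = _ := by rw [h.ZX]; group⟩, ⟨0, 0, by rw [h.fr.X_zero, h.fr.Z_zero, mul_one]⟩⟩, by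
        rintro x ⟨a, c, rfl⟩
        refine ⟨a, c, ?_⟩
        rw [mul_inv_rev, h.X_inv, h.Z_inv, h.ZX]⟩ : Subgroup G) := by
      rw [sup_le_iff]
      constructor
      · intro x hx
        obtain ⟨a, rfl⟩ := h.fr.X_surj x hx
        exact ⟨a, 0, by rw [h.fr.Z_zero, mul_one]⟩
      · intro x hx
        obtain ⟨a, rfl⟩ := h.fr.Z_surj x hx
        exact ⟨0, a, by rw [h.fr.X_zero, one_mul]⟩
    exact this hx
  · rintro ⟨a, c, rfl⟩
    exact mul_mem (mem_sup_left (h.fr.X_mem a)) (mem_sup_right (h.fr.Z_mem c))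

theorem XC (a : F4) : X a ∈ C A := h.R_le (h.fr.X_mem a)
theorem ZA (a : F4) : Z a ∈ A := h.B_le (h.fr.Z_mem a)

/-- conjugates of elements of `B#` are not in `C A` -/
theorem Z_nK {c : F4} (hc : c ≠ 0) (g : G) : g * Z c * g⁻¹ ∉ C A :=
  h.nK g _ (h.ZA c) (h.Z_ne hc) (h.ZZ c)

/-- conjugation of `X a` by `Y b` -/
theorem Y_conj_X (b a : F4) : (Y b)⁻¹ * X a * Y b = X a * Z (a * b) := by
  have := h.fr.X_Y a b
  calc (Y b)⁻¹ * X a * Y b = (Y b)⁻¹ * (X a * Y b) := by group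
    _ = _ := by rw [this]; group

/-- elements of `N A` normalise `C A`; `E ∩ C A = R` -/
theorem mem_R_of {x : G} (hx : x ∈ R ⊔ B) (hxC : x ∈ C A) : x ∈ R := by
  obtain ⟨a, c, rfl⟩ := h.mem_E.1 hx
  have h1 : Z c ∈ C A := by
    have : (X a)⁻¹ * (X a * Z c) ∈ C A := mul_mem (inv_mem (h.XC a)) hxC
    rwa [inv_mul_cancel_left] at this
  rw [h.te.disj _ (h.ZA c) h1, mul_one]
  exact h.fr.X_mem a

/-- `x` with `x * X a * x⁻¹ ∈ C A` lies in `N A` -/
theorem mem_N_of_X {a : F4} (ha : a ≠ 0) {g : G} (hg : g * X a * g⁻¹ ∈ C A) : g ∈ N A :=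
  h.te.key _ g (h.XC a) (h.X_ne ha) (h.XX a) hg

theorem cent_le {a : F4} (ha : a ≠ 0) {g : G} (hg : g * X a = X a * g) : g ∈ N A := by
  apply h.mem_N_of_X ha
  rw [hg, mul_inv_cancel_right]
  exact h.XC a

theorem card_E : Nat.card ↥(R ⊔ B) = 16 := by
  classical
  have : Function.Bijective (fun p : F4 × F4 => (⟨X p.1 * Z p.2, h.mem_E.2 ⟨_, _, rfl⟩⟩ : ↥(R ⊔ B))) := by
    constructor
    · rintro ⟨a, c⟩ ⟨a', c'⟩ he
      have h1 : X a * Z c = X a' * Z c' := congrArg Subtype.val he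
      have h2 := h.fr.inj a 0 c a' 0 c' (by rw [h.fr.Y_zero, one_mul, one_mul]; exact h1)
      exact Prod.ext h2.2.1 h2.2.2
    · rintro ⟨x, hx⟩
      obtain ⟨a, c, rfl⟩ := h.mem_E.1 hx
      exact ⟨(a, c), rfl⟩
  rw [← Nat.card_congr (Equiv.ofBijective _ this), Nat.card_prod, Nat.card_eq_fintype_card]
  decide

end KOne

end Cfsg.Agent.StdAlt.Five
end

-- part: StdAlt/Five/KOneCent
section
/-!
# S1766, n = 5, `κ = 1`: the centralisers of the involutions of `R`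
-/

set_option autoImplicit false

namespace Cfsg.Agent.StdAlt.Five

open Subgroup Cfsg.Agent.StdAlt.Conj Cfsg.Agent.J2Sylow.Model

theorem not_dvd_mul {m n : ℕ} (hm0 : m ≠ 0) (hn0 : n ≠ 0) (hm : ¬ 8 ∣ m) (hn : ¬ 8 ∣ n) :
    ¬ 32 ∣ m * n := by
  intro h32
  have h1 : 2 ^ 5 ∣ m * n := h32
  rw [Nat.Prime.pow_dvd_iff_le_factorization Nat.prime_two (Nat.mul_ne_zero hm0 hn0),
    Nat.factorization_mul hm0 hn0, Finsupp.add_apply] at h1
  have h2 : ¬ 3 ≤ m.factorization 2 := by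
    rw [← Nat.Prime.pow_dvd_iff_le_factorization Nat.prime_two hm0]; exact hm
  have h3 : ¬ 3 ≤ n.factorization 2 := by
    rw [← Nat.Prime.pow_dvd_iff_le_factorization Nat.prime_two hn0]; exact hn
  omega

/-- a 2-subgroup `E` of order 16 of `H`, `32 ∤ |H|`: every 2-subgroup of `H` is conjugate into `E` -/
theorem conj_into {G : Type*} [Group G] [Finite G] {H E T : Subgroup G} (hE : E ≤ H)
    (hcE : Nat.card E = 16) (hH : ¬ 32 ∣ Nat.card H) (hT : T ≤ H) (hTp : IsPGroup 2 T) :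
    ∃ g ∈ H, ∀ x ∈ T, g * x * g⁻¹ ∈ E := by
  classical
  haveI : Fact (Nat.Prime 2) := ⟨Nat.prime_two⟩
  have hEp : IsPGroup 2 (E.subgroupOf H) := by
    apply IsPGroup.of_card (n := 4)
    rw [Nat.card_congr (subgroupOfEquivOfLe hE).toEquiv, hcE]; norm_num
  have hTp' : IsPGroup 2 (T.subgroupOf H) := hTp.of_equiv (subgroupOfEquivOfLe hT).symm
  obtain ⟨S1, hS1⟩ := hEp.exists_le_sylow
  obtain ⟨S2, hS2⟩ := hTp'.exists_le_sylow
  have hS1c : Nat.card (S1 : Subgroup H) ≤ 16 := by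
    obtain ⟨n, hn⟩ := IsPGroup.iff_card.1 S1.isPGroup'
    have h1 : n ≤ 4 := by
      by_contra hlt
      apply hH
      have : 2 ^ 5 ∣ 2 ^ n := pow_dvd_pow 2 (by omega)
      rw [← hn] at this
      exact (show (32 : ℕ) ∣ Nat.card (S1 : Subgroup H) from this).trans (card_subgroup_dvd_card _)
    rw [hn]
    calc 2 ^ n ≤ 2 ^ 4 := Nat.pow_le_pow_right (by norm_num) h1
      _ = 16 := by norm_num
  have hEq : E.subgroupOf H = (S1 : Subgroup H) := by
    apply eq_of_le_of_card_ge hS1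
    rw [Nat.card_congr (subgroupOfEquivOfLe hE).toEquiv, hcE]
    exact hS1c
  obtain ⟨g, hg⟩ := MulAction.exists_smul_eq H S2 S1
  refine ⟨g, g.2, fun x hx => ?_⟩
  have h1 : (⟨x, hT hx⟩ : H) ∈ (S2 : Subgroup H) := hS2 (mem_subgroupOf.2 hx)
  have h2 : g * ⟨x, hT hx⟩ * g⁻¹ ∈ ((g • S2 : Sylow 2 H) : Subgroup H) := by
    rw [Sylow.coe_subgroup_smul]
    have := smul_mem_pointwise_smul (⟨x, hT hx⟩ : H) (MulAut.conj g) (S2 : Subgroup H) h1
    simpa only [_root_.MulAut.smul_def, _root_.MulAut.conj_apply] using this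
  rw [hg, ← hEq, mem_subgroupOf] at h2
  exact h2

namespace KOne

variable {G : Type*} [Group G] {A R B P L : Subgroup G} {ρ : G} {ε : F4} {X Y Z : F4 → G}
variable (h : KOne A R B P L ρ ε X Y Z)
include h

theorem card_cent [Finite G] {a : F4} (hKA : ∀ g, g * X a = X a * g → ∃ k ∈ C A, ∃ a1 ∈ A, g = k * a1) :
    ¬ 32 ∣ Nat.card (centralizer ({X a} : Set G)) := by
  classical
  have hA : A ≤ centralizer ({X a} : Set G) := by
    intro y hy
    rw [mem_centralizer_singleton_iff]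
    exact (comm_of_C (h.XC a) hy).symm
  have hbij : Function.Bijective (fun p : ↥(C A ⊓ centralizer ({X a} : Set G)) × A =>
      (⟨(p.1 : G) * p.2, mul_mem p.1.2.2 (hA p.2.2)⟩ : ↥(centralizer ({X a} : Set G)))) := by
    constructor
    · rintro ⟨⟨k, hk⟩, ⟨y, hy⟩⟩ ⟨⟨k', hk'⟩, ⟨y', hy'⟩⟩ he
      have h1 : k * y = k' * y' := congrArg Subtype.val he
      have h2 : k'⁻¹ * k = y' * y⁻¹ := by
        rw [eq_mul_inv_iff_mul_eq, mul_assoc, h1]; group
      have h3 : y' * y⁻¹ = 1 := by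
        apply h.te.disj _ (mul_mem hy' (inv_mem hy))
        rw [← h2]
        exact mul_mem (inv_mem hk'.1) hk.1
      have h4 : y = y' := by rw [mul_inv_eq_one] at h3; exact h3.symm
      have h5 : k = k' := by rw [h4] at h1; exact mul_right_cancel h1
      subst h4; subst h5; rfl
    · rintro ⟨g, hg⟩
      rw [mem_centralizer_singleton_iff] at hg
      obtain ⟨k, hk, y, hy, rfl⟩ := hKA g hg
      refine ⟨(⟨k, hk, ?_⟩, ⟨y, hy⟩), rfl⟩
      have h1 : (k * y) * y⁻¹ ∈ centralizer ({X a} : Set G) :=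
        mul_mem (mem_centralizer_singleton_iff.2 hg) (inv_mem (hA hy))
      rwa [mul_inv_cancel_right] at h1
  rw [← Nat.card_congr (Equiv.ofBijective _ hbij), Nat.card_prod]
  apply not_dvd_mul Nat.card_pos.ne' Nat.card_pos.ne' _ h.cardA
  intro h8
  exact h.cardK (h8.trans (card_dvd_of_le inf_le_left))

theorem E_le_cent (a : F4) : R ⊔ B ≤ centralizer ({X a} : Set G) := by
  intro x hx
  obtain ⟨a', c', rfl⟩ := h.mem_E.1 hx
  rw [mem_centralizer_singleton_iff]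
  calc X a' * Z c' * X a = X a' * (Z c' * X a) := by group
    _ = X a' * X a * Z c' := by rw [h.ZX]; group
    _ = X a * X a' * Z c' := by rw [← h.fr.X_add, ← h.fr.X_add, add_comm]
    _ = _ := by group

/-- every 2-subgroup centralising `X a` is conjugate into `E` under `C(X a)` -/
theorem conj_E [Finite G] {a : F4} (hKA : ∀ g, g * X a = X a * g → ∃ k ∈ C A, ∃ a1 ∈ A, g = k * a1)
    {T : Subgroup G} (hT : T ≤ centralizer ({X a} : Set G)) (hTp : IsPGroup 2 T) :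
    ∃ g ∈ centralizer ({X a} : Set G), ∀ x ∈ T, g * x * g⁻¹ ∈ R ⊔ B :=
  conj_into (h.E_le_cent a) h.card_E (h.card_cent hKA) hT hTp

/-- elements of `E` commute -/
theorem E_comm {x y : G} (hx : x ∈ R ⊔ B) (hy : y ∈ R ⊔ B) : x * y = y * x := by
  obtain ⟨a, c, rfl⟩ := h.mem_E.1 hx
  obtain ⟨a', c', rfl⟩ := h.mem_E.1 hy
  calc X a * Z c * (X a' * Z c') = X a * (Z c * X a') * Z c' := by group
    _ = (X a * X a') * (Z c * Z c') := by rw [h.ZX]; group
    _ = (X a' * X a) * (Z c' * Z c) := by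
        rw [← h.fr.X_add, ← h.fr.Z_add, add_comm a, add_comm c, h.fr.X_add, h.fr.Z_add]
    _ = X a' * (X a * Z c') * Z c := by group
    _ = _ := by rw [← h.ZX]; group

/-- elements of `E` have order dividing two -/
theorem E_sq {x : G} (hx : x ∈ R ⊔ B) : x * x = 1 := by
  obtain ⟨a, c, rfl⟩ := h.mem_E.1 hx
  calc X a * Z c * (X a * Z c) = X a * (Z c * X a) * Z c := by group
    _ = (X a * X a) * (Z c * Z c) := by rw [h.ZX]; group
    _ = 1 := by rw [h.XX, h.ZZ, one_mul]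

/-- Suppose `C(X a) ≤ K A`.  If a 2-group `T` centralises a conjugate `g⁻¹ X a g`, then `T` is elementary abelian -/
theorem elem_of_conj [Finite G] {a : F4}
    (hKA : ∀ g, g * X a = X a * g → ∃ k ∈ C A, ∃ a1 ∈ A, g = k * a1) {g x : G}
    (hx : g * X a * g⁻¹ = x) {T : Subgroup G} (hT : ∀ y ∈ T, y * x = x * y) (hTp : IsPGroup 2 T) :
    (∀ y ∈ T, y * y = 1) ∧ Nat.card T ≤ 16 := by
  classical
  have hT' : cj g⁻¹ T ≤ centralizer ({X a} : Set G) := by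
    intro y hy
    rw [mem_cj, inv_inv] at hy
    have h1 := hT _ hy
    rw [mem_centralizer_singleton_iff]
    rw [← hx] at h1
    calc y * X a = g⁻¹ * (g * y * g⁻¹ * (g * X a * g⁻¹)) * g := by group
      _ = X a * y := by rw [h1]; group
  have hTp' : IsPGroup 2 (cj g⁻¹ T) := hTp.map _
  obtain ⟨c, -, hc⟩ := h.conj_E hKA hT' hTp'
  have hc' : ∀ y ∈ T, (c * g⁻¹) * y * (c * g⁻¹)⁻¹ ∈ R ⊔ B := by
    intro y hy
    have := hc (g⁻¹ * y * g) (by rw [mem_cj, inv_inv]; convert hy using 1; group)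
    convert this using 1; group
  constructor
  · intro y hy
    have h1 := h.E_sq (hc' y hy)
    have h2 : (c * g⁻¹) * (y * y) * (c * g⁻¹)⁻¹ = 1 := by rw [← h1]; group
    have h3 : y * y = (c * g⁻¹)⁻¹ * 1 * (c * g⁻¹) := by rw [← h2]; group
    rw [h3]; group
  · rw [← h.card_E]
    exact Nat.card_le_card_of_injective
      (fun y : T => (⟨(c * g⁻¹) * y * (c * g⁻¹)⁻¹, hc' y y.2⟩ : ↥(R ⊔ B))) (by
        intro y y' he
        have h1 : (c * g⁻¹) * (y : G) * (c * g⁻¹)⁻¹ = (c * g⁻¹) * (y' : G) * (c * g⁻¹)⁻¹ :=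
          congrArg Subtype.val he
        exact Subtype.ext (mul_left_cancel (mul_right_cancel h1)))

end KOne

end Cfsg.Agent.StdAlt.Five
end

-- part: StdAlt/Five/KOneFuse
section
/-!
# S1766, n = 5, `κ = 1`: fusion of the involutions of `R`, subgroups of `P`
-/

set_option autoImplicit false

namespace Cfsg.Agent.StdAlt.Five

open Subgroup Cfsg.Agent.StdAlt.Conj Cfsg.Agent.J2Sylow.Model

namespace KOne

variable {G : Type*} [Group G] {A R B P L : Subgroup G} {ρ : G} {ε : F4} {X Y Z : F4 → G}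
variable (h : KOne A R B P L ρ ε X Y Z)
include h

/-- `X a Z c` is conjugate to `X a` by some `Y b` (`a ≠ 0`) -/
theorem exists_Y {a : F4} (ha : a ≠ 0) (c : F4) : ∃ b, (Y b)⁻¹ * X a * Y b = X a * Z c := by
  obtain ⟨b, hb⟩ : ∃ b, a * b = c := by revert a c; decide
  exact ⟨b, by rw [h.Y_conj_X, hb]⟩

theorem Y_E (b : F4) {x : G} (hx : x ∈ R ⊔ B) : (Y b)⁻¹ * x * Y b ∈ R ⊔ B := by
  obtain ⟨a, c, rfl⟩ := h.mem_E.1 hx
  rw [h.mem_E]
  refine ⟨a, a * b + c, ?_⟩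
  calc (Y b)⁻¹ * (X a * Z c) * Y b = ((Y b)⁻¹ * X a * Y b) * ((Y b)⁻¹ * (Z c * Y b)) := by group
    _ = X a * Z (a * b) * Z c := by rw [h.Y_conj_X, h.ZY]; group
    _ = _ := by rw [mul_assoc, ← h.fr.Z_add]

/-- an element `n` normalising `E` maps `X a` to some `X x Z c`; there is `m ∈ N A`, normalising `R`, with
`m X a m⁻¹ = X x` -/
theorem norm_aux {n : G} (hn : ∀ x ∈ R ⊔ B, n * x * n⁻¹ ∈ R ⊔ B) {a : F4} (ha : a ≠ 0) :
    ∃ x c b, x ≠ 0 ∧ n * X a * n⁻¹ = X x * Z c ∧ Y b * n ∈ N A ∧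
      (Y b * n) * X a * (Y b * n)⁻¹ = X x ∧ ∀ r ∈ R, (Y b * n) * r * (Y b * n)⁻¹ ∈ R := by
  obtain ⟨x, c, hxc⟩ := h.mem_E.1 (hn _ (mem_sup_left (h.fr.X_mem a)))
  have hx0 : x ≠ 0 := by
    rintro rfl
    rw [h.fr.X_zero, one_mul] at hxc
    have hc0 : c ≠ 0 := by
      rintro rfl
      rw [h.fr.Z_zero] at hxc
      apply h.X_ne ha
      calc X a = n⁻¹ * (n * X a * n⁻¹) * n := by group
        _ = 1 := by rw [hxc]; group
    apply h.Z_nK hc0 n⁻¹
    rw [← hxc]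
    have : n⁻¹ * (n * X a * n⁻¹) * n⁻¹⁻¹ = X a := by group
    rw [this]
    exact h.XC a
  obtain ⟨b, hb⟩ := h.exists_Y hx0 c
  have hm : (Y b * n) * X a * (Y b * n)⁻¹ = X x := by
    calc (Y b * n) * X a * (Y b * n)⁻¹ = Y b * (n * X a * n⁻¹) * (Y b)⁻¹ := by group
      _ = Y b * ((Y b)⁻¹ * X x * Y b) * (Y b)⁻¹ := by rw [hxc, hb]
      _ = X x := by group
  have hN : Y b * n ∈ N A := h.mem_N_of_X ha (by rw [hm]; exact h.XC x)
  refine ⟨x, c, b, hx0, hxc, hN, hm, fun r hr => ?_⟩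
  apply h.mem_R_of
  · have h1 := hn r (mem_sup_left hr)
    obtain ⟨b', hb'⟩ : ∃ b', Y b * (n * r * n⁻¹) * (Y b)⁻¹ = (Y b')⁻¹ * (n * r * n⁻¹) * Y b' := by
      refine ⟨b, ?_⟩
      obtain ⟨a1, c1, h2⟩ := h.mem_E.1 h1
      rw [h2]
      have h3 := h.fr.X_Y a1 b
      have h4 : Y b * X a1 = X a1 * Y b * Z (a1 * b) := by
        calc Y b * X a1 = Y b * X a1 * (Z (a1 * b) * Z (a1 * b)) := by rw [h.ZZ, mul_one]
          _ = (Y b * X a1 * Z (a1 * b)) * Z (a1 * b) := by group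
          _ = _ := by rw [← h3]
      calc Y b * (X a1 * Z c1) * (Y b)⁻¹ = (Y b * X a1) * (Z c1 * (Y b)⁻¹) := by group
        _ = X a1 * Y b * Z (a1 * b) * ((Y b)⁻¹ * (Y b * Z c1) * (Y b)⁻¹) := by rw [h4]; group
        _ = X a1 * Y b * (Z (a1 * b) * ((Y b)⁻¹ * (Z c1 * Y b) * (Y b)⁻¹)) := by
            rw [h.ZY]; group
        _ = X a1 * (Y b * Z (a1 * b)) * (Y b)⁻¹ * Z c1 := by group
        _ = X a1 * (Z (a1 * b) * Y b) * (Y b)⁻¹ * Z c1 := by rw [h.ZY]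
        _ = (X a1 * Z (a1 * b)) * Z c1 := by group
        _ = ((Y b)⁻¹ * X a1 * Y b) * Z c1 := by rw [h.Y_conj_X]
        _ = (Y b)⁻¹ * X a1 * (Y b * Z c1) := by group
        _ = _ := by rw [← h.ZY]; group
    have h5 : (Y b * n) * r * (Y b * n)⁻¹ = (Y b')⁻¹ * (n * r * n⁻¹) * Y b' := by
      rw [← hb']; group
    rw [h5]
    exact h.Y_E b' h1
  · exact conj_mem_C hN (h.R_le hr)

/-- `L` is contained in every normal subgroup of index two -/
theorem L_le_of_index_two [Finite G] {M : Subgroup G} (hM : M.Normal) (hi : M.index = 2) : L ≤ M := by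
  haveI := h.simple
  haveI := hM
  have hn : (M.subgroupOf L).Normal := inferInstance
  rcases hn.eq_bot_or_eq_top with h1 | h1
  · exfalso
    have h2 : M.relIndex L ∣ M.index := relIndex_dvd_index_of_normal M L
    rw [hi] at h2
    have h3 : M.relIndex L = Nat.card L := by
      rw [relIndex, h1, index_bot]
    rw [h3] at h2
    have h4 : Nat.card B ∣ Nat.card L := card_dvd_of_le (h.B_le.trans h.A_le)
    rw [h.dat.cardB] at h4
    have := h4.trans h2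
    omega
  · rwa [subgroupOf_eq_top] at h1

theorem ZL (c : F4) : Z c ∈ L := h.A_le (h.ZA c)

theorem YL (b : F4) : Y b ∈ L := by
  haveI := h.nor
  have key : ∀ b, Y (F4.w * b) * (Y b)⁻¹ ∈ L := by
    intro b
    rw [← h.fr.ρY]
    have h1 : Y b * ρ⁻¹ * (Y b)⁻¹ ∈ L := h.nor.conj_mem _ (inv_mem (h.A_le h.ρA)) (Y b)
    have h2 := mul_mem (h.A_le h.ρA) h1
    convert h2 using 1
    group
  -- `Y b = Y (w b') (Y b')⁻¹ Z *`
  obtain ⟨b', hb'⟩ : ∃ b', F4.w * b' + b' = b := by revert b; decide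
  have h1 : Y (F4.w * b') = Y b * Y b' * Z (ε * F4.fr (b * b')) := by
    rw [h.fr.Y_mul, mul_assoc, h.ZZ, mul_one]
    congr 1
    rw [← hb', add_assoc, F4.add_self, add_zero]
  have h2 := key b'
  rw [h1] at h2
  have h3 : Y b * Y b' * Z (ε * F4.fr (b * b')) * (Y b')⁻¹ = Y b * Z (ε * F4.fr (b * b')) := by
    calc Y b * Y b' * Z (ε * F4.fr (b * b')) * (Y b')⁻¹
        = Y b * (Y b' * Z (ε * F4.fr (b * b'))) * (Y b')⁻¹ := by group
      _ = _ := by rw [← h.ZY]; group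
  rw [h3] at h2
  have h4 := mul_mem h2 (inv_mem (h.ZL (ε * F4.fr (b * b'))))
  rwa [mul_inv_cancel_right] at h4

/-- the squares -/
theorem sq3 (b a c : F4) : (Y b * X a * Z c) * (Y b * X a * Z c) = Z (a * b + ε * F4.fr (b * b)) := by
  rw [h.mul3, F4.add_self, F4.add_self, F4.add_self, h.fr.Y_zero, h.fr.X_zero, zero_add, one_mul, one_mul]

theorem sq3_iff {b a c : F4} : (Y b * X a * Z c) * (Y b * X a * Z c) = 1 ↔
    a * b + ε * F4.fr (b * b) = 0 := by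
  rw [h.sq3]
  constructor
  · intro h1
    by_contra h2
    exact h.Z_ne h2 h1
  · intro h1
    rw [h1, h.fr.Z_zero]

theorem mem_L3 (b a c : F4) : Y b * X a * Z c ∈ L ↔ X a ∈ L := by
  constructor
  · intro h1
    have h2 := mul_mem (mul_mem (inv_mem (h.YL b)) h1) (inv_mem (h.ZL c))
    convert h2 using 1
    group
  · intro h1
    exact mul_mem (mul_mem (h.YL b) h1) (h.ZL c)

theorem orderOf_X {a : F4} (ha : a ≠ 0) : orderOf (X a) = 2 :=
  orderOf_eq_prime (by rw [pow_two]; exact h.XX a) (h.X_ne ha)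

end KOne

/-- the subgroup `{Y b X x Z c : x ∈ {0, a}}` -/
def KOne.Q {G : Type*} [Group G] {A R B P L : Subgroup G} {ρ : G} {ε : F4} {X Y Z : F4 → G}
    (h : KOne A R B P L ρ ε X Y Z) (a : F4) : Subgroup G where
  carrier := {g | ∃ b x c, (x = 0 ∨ x = a) ∧ g = Y b * X x * Z c}
  mul_mem' := by
    rintro g g' ⟨b, x, c, hx, rfl⟩ ⟨b', x', c', hx', rfl⟩
    refine ⟨_, _, _, ?_, h.mul3 b x c b' x' c'⟩
    rcases hx with rfl | rfl <;> rcases hx' with rfl | rfl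
    · left; exact add_zero 0
    · right; exact zero_add _
    · right; exact add_zero _
    · left; exact F4.add_self _
  one_mem' := ⟨0, 0, 0, Or.inl rfl, h.one3⟩
  inv_mem' := by
    rintro g ⟨b, x, c, hx, rfl⟩
    exact ⟨_, _, _, hx, h.inv3 b x c⟩

namespace KOne

variable {G : Type*} [Group G] {A R B P L : Subgroup G} {ρ : G} {ε : F4} {X Y Z : F4 → G}
variable (h : KOne A R B P L ρ ε X Y Z)
include h

theorem mem_Q {a : F4} {g : G} : g ∈ h.Q a ↔ ∃ b x c, (x = 0 ∨ x = a) ∧ g = Y b * X x * Z c := Iff.rfl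

theorem mem3 (b a c : F4) : Y b * X a * Z c ∈ P := mul_mem (mul_mem (h.fr.Y_mem b) (h.Xmem a)) (h.Zmem c)

theorem Q_le (a : F4) : h.Q a ≤ P := by
  rintro g ⟨b, x, c, -, rfl⟩
  exact h.mem3 b x c

theorem inj3 {b a c b' a' c' : F4} (he : Y b * X a * Z c = Y b' * X a' * Z c') :
    b = b' ∧ a = a' ∧ c = c' := by
  obtain ⟨h1, h2, h3⟩ := h.fr.inj a b c a' b' c' he
  exact ⟨h1, h2, h3⟩

theorem card_Q {a : F4} (ha : a ≠ 0) : Nat.card (h.Q a) = 32 := by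
  have hb : Function.Bijective (fun p : F4 × {x : F4 // x = 0 ∨ x = a} × F4 =>
      (⟨Y p.1 * X p.2.1 * Z p.2.2, ⟨_, _, _, p.2.1.2, rfl⟩⟩ : h.Q a)) := by
    constructor
    · rintro ⟨b, ⟨x, hx⟩, c⟩ ⟨b', ⟨x', hx'⟩, c'⟩ he
      obtain ⟨h1, h2, h3⟩ := h.inj3 (congrArg Subtype.val he)
      simp only at h1 h2 h3
      subst h1; subst h2; subst h3; rfl
    · rintro ⟨g, b, x, c, hx, rfl⟩
      exact ⟨(b, ⟨x, hx⟩, c), rfl⟩
  rw [← Nat.card_congr (Equiv.ofBijective _ hb), Nat.card_prod, Nat.card_prod,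
    Nat.card_eq_fintype_card, Nat.card_eq_fintype_card]
  have key : ∀ a : F4, a ≠ 0 →
      Fintype.card F4 * (Fintype.card {x : F4 // x = 0 ∨ x = a} * Fintype.card F4) = 32 := by decide
  rw [← key a ha]

end KOne

end Cfsg.Agent.StdAlt.Five
end

-- part: StdAlt/Five/KOneMuOne
section
/-!
# S1766, n = 5, `κ = 1`, `μ = 1`: the involutions of `R` are not in `L`
-/

set_option autoImplicit false

namespace Cfsg.Agent.StdAlt.Five

open Subgroup Cfsg.Agent.StdAlt.Conj Cfsg.Agent.J2Sylow.Model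

/-- `E2` contains no involutions of type `K` outside `B` (only needed if `ε = 0`) -/
def NE2 {G : Type*} [Group G] (A : Subgroup G) (ε : F4) (Y Z : F4 → G) : Prop :=
  ε = 0 → ∀ (b c : F4) (g : G), b ≠ 0 → g * (Y b * Z c) * g⁻¹ ∉ C A

/-- a complete description of the conjugates of `X a` in a subgroup of the form `Q a'`, `a'` suitable -/
theorem KOne.conj_mem_Q {G : Type*} [Group G] {A R B P L : Subgroup G} {ρ : G} {ε : F4}
    {X Y Z : F4 → G} (h : KOne A R B P L ρ ε X Y Z) (hε : ε = 0 ∨ ε = F4.e) (hE2 : NE2 A ε Y Z)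
    {a a' : F4} (ha : a ≠ 0) (ha' : a' ≠ 0) {g : G}
    (hg : g * X a * g⁻¹ ∈ h.Q a') :
    (∃ n, n * X a * n⁻¹ = X a') ∨ (ε = F4.e ∧ a' = F4.e ∧ ∃ b c, b ≠ 0 ∧ g * X a * g⁻¹ = Y b * X a' * Z c) := by
  obtain ⟨b, x, c, hx, he⟩ := hg
  have hsq : (Y b * X x * Z c) * (Y b * X x * Z c) = 1 := by
    rw [← he]
    calc g * X a * g⁻¹ * (g * X a * g⁻¹) = g * (X a * X a) * g⁻¹ := by group
      _ = 1 := by rw [h.XX]; group
  rw [h.sq3_iff] at hsq
  have hback : g⁻¹ * (Y b * X x * Z c) * g⁻¹⁻¹ = X a := by rw [← he]; group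
  have hZ0 : x = 0 → b = 0 → False := by
    rintro rfl rfl
    rw [h.fr.X_zero, h.fr.Y_zero, one_mul, one_mul] at hback
    by_cases hc : c = 0
    · rw [hc, h.fr.Z_zero] at hback
      apply h.X_ne ha
      rw [← hback]; group
    · apply h.Z_nK hc g⁻¹
      rw [hback]
      exact h.XC a
  rcases hx with rfl | rfl
  · exfalso
    rw [zero_mul, zero_add] at hsq
    rcases hε with rfl | rfl
    · by_cases hb : b = 0
      · exact hZ0 rfl hb
      · apply hE2 rfl b c g⁻¹ hb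
        rw [h.fr.X_zero, mul_one] at hback
        rw [hback]
        exact h.XC a
    · have : ∀ b : F4, F4.e * F4.fr (b * b) = 0 → b = 0 := by decide
      exact hZ0 rfl (this b hsq)
  · by_cases hb : b = 0
    · subst hb
      left
      obtain ⟨d, hd⟩ := h.exists_Y ha' c
      refine ⟨Y d * g, ?_⟩
      calc Y d * g * X a * (Y d * g)⁻¹ = Y d * (g * X a * g⁻¹) * (Y d)⁻¹ := by group
        _ = Y d * ((Y d)⁻¹ * X x * Y d) * (Y d)⁻¹ := by
            rw [he, h.fr.Y_zero, one_mul, hd]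
        _ = X x := by group
    · right
      rcases hε with rfl | rfl
      · exfalso
        have : ∀ x b : F4, x ≠ 0 → x * b + 0 * F4.fr (b * b) = 0 → b = 0 := by decide
        exact hb (this x b ha' hsq)
      · have : ∀ x b : F4, b ≠ 0 → x * b + F4.e * F4.fr (b * b) = 0 → x = F4.e := by decide
        exact ⟨rfl, this x b hb hsq, b, c, hb, he⟩

/-- subgroups `Q ≤ S` of index two not containing `X a` (`a ≠ 0`) contain a conjugate of `X a`, if `X a ∈ L` -/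
theorem KOne.exists_conj {G : Type*} [Group G] [Finite G] {A R B P L : Subgroup G} {ρ : G} {ε : F4}
    {X Y Z : F4 → G} (h : KOne A R B P L ρ ε X Y Z) (S : Sylow 2 G) (hP : P ≤ (S : Subgroup G))
    (Q : Subgroup G) (hQ : Q ≤ (S : Subgroup G)) (hi : Q.relIndex (S : Subgroup G) = 2) {a : F4}
    (ha : a ≠ 0) (hXL : X a ∈ L) (hXQ : X a ∉ Q) : ∃ g : G, g * X a * g⁻¹ ∈ Q := by
  rcases Cfsg.Agent.S0111.result S Q hQ hi (X a) (h.orderOf_X ha) (hP (h.Xmem a)) hXQ with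
    ⟨M, hM, hMi, hMX⟩ | hg
  · exact absurd (h.L_le_of_index_two hM hMi hXL) hMX
  · exact hg

namespace MuOne

variable {G : Type*} [Group G] {A R B P L : Subgroup G} {ρ : G} {ε : F4} {X Y Z : F4 → G} {S : Sylow 2 G}
variable (h : MuOne A R B P L ρ ε X Y Z S)
include h

theorem hKA {a : F4} (ha : a ≠ 0) : ∀ g, g * X a = X a * g → ∃ k ∈ C A, ∃ a1 ∈ A, g = k * a1 :=
  fun g hg => h.hM g (h.cent_le ha hg)

theorem norm {n : G} (hn : ∀ x ∈ R ⊔ B, n * x * n⁻¹ ∈ R ⊔ B) {a : F4} (ha : a ≠ 0) :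
    ∃ c, n * X a * n⁻¹ = X a * Z c := by
  obtain ⟨x, c, b, hx0, hxc, hN, hm, hR⟩ := h.norm_aux hn ha
  obtain ⟨k, hk, a1, ha1, hka⟩ := h.hM _ hN
  have e : ∀ r ∈ R, (Y b * n) * r * (Y b * n)⁻¹ = k * r * k⁻¹ := by
    intro r hr
    rw [hka]
    have := comm_of_C (h.R_le hr) ha1
    calc k * a1 * r * (k * a1)⁻¹ = k * (a1 * r) * a1⁻¹ * k⁻¹ := by group
      _ = _ := by rw [← this]; group
  have h1 := h.κ k hk (fun r hr => by rw [← e r hr]; exact hR r hr)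
  have h2 := e _ (h.fr.X_mem a)
  rw [hm, h1 _ (h.fr.X_mem a), mul_inv_cancel_right] at h2
  have h3 : x = a := h.fr.X_inj h2
  subst h3
  exact ⟨c, hxc⟩

theorem fuse [Finite G] {g : G} {a a' : F4} (ha : a ≠ 0) (ha' : a' ≠ 0) (hg : g * X a * g⁻¹ = X a') :
    a = a' := by
  classical
  have hEp : IsPGroup 2 ↥(R ⊔ B) := IsPGroup.of_card (n := 4) (by rw [h.card_E]; norm_num)
  have hT : cj g (R ⊔ B) ≤ centralizer ({X a'} : Set G) := by
    intro x hx
    rw [mem_cj] at hx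
    have h1 := mem_centralizer_singleton_iff.1 (h.E_le_cent a hx)
    rw [mem_centralizer_singleton_iff, ← hg]
    calc x * (g * X a * g⁻¹) = g * (g⁻¹ * x * g * X a) * g⁻¹ := by group
      _ = _ := by rw [h1]; group
  obtain ⟨c, hc, hc'⟩ := h.conj_E (h.hKA ha') hT (hEp.map _)
  have hn : ∀ x ∈ R ⊔ B, (c * g) * x * (c * g)⁻¹ ∈ R ⊔ B := by
    intro x hx
    have := hc' (g * x * g⁻¹) (conj_mem_cj.2 hx)
    convert this using 1
    group
  obtain ⟨c', hc''⟩ := h.norm hn ha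
  have h1 : (c * g) * X a * (c * g)⁻¹ = X a' := by
    calc (c * g) * X a * (c * g)⁻¹ = c * (g * X a * g⁻¹) * c⁻¹ := by group
      _ = c * X a' * c⁻¹ := by rw [hg]
      _ = X a' := by rw [mem_centralizer_singleton_iff.1 hc]; group
  rw [h1] at hc''
  have h2 := h.inj3 (b := 0) (a := a') (c := 0) (b' := 0) (a' := a) (c' := c')
    (by rw [h.fr.Y_zero, h.fr.Z_zero, one_mul, mul_one, one_mul, hc''])
  exact h2.2.1.symm

theorem X_not_mem [Finite G] (hε : ε = 0 ∨ ε = F4.e) (hE2 : NE2 A ε Y Z) {a : F4} (ha : a ≠ 0) : X a ∉ L := by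
  intro hXL
  obtain ⟨a', h1, h2, h3⟩ : ∃ a' : F4, a' ≠ 0 ∧ a' ≠ a ∧ a' ≠ F4.e := by
    revert a
    intro a ha _
    have : ∀ a : F4, a ≠ 0 → ∃ a' : F4, a' ≠ 0 ∧ a' ≠ a ∧ a' ≠ F4.e := by decide
    exact this a ha
  have hP : P ≤ (S : Subgroup G) := h.hS.ge
  have hi : (h.Q a').relIndex (S : Subgroup G) = 2 := by
    have e1 := relIndex_mul_relIndex ⊥ (h.Q a') (S : Subgroup G) bot_le ((h.Q_le a').trans hP)
    rw [relIndex_bot_left, relIndex_bot_left, h.card_Q h1, h.hS, h.dat.cardP] at e1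
    rw [h.hS]
    omega
  obtain ⟨g, hg⟩ := h.exists_conj S hP (h.Q a') ((h.Q_le a').trans hP) hi ha hXL (by
    rintro ⟨b, x, c, hx, he⟩
    have := h.inj3 (b := 0) (a := a) (c := 0) (b' := b) (a' := x) (c' := c)
      (by rw [h.fr.Y_zero, h.fr.Z_zero, one_mul, mul_one, he])
    rcases hx with rfl | rfl
    · exact ha this.2.1
    · exact h2 this.2.1.symm)
  rcases h.conj_mem_Q hε hE2 ha h1 hg with ⟨n, hn⟩ | ⟨-, h4, -⟩
  · exact h2 (h.fuse ha h1 hn).symm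
  · exact h3 h4

end MuOne

end Cfsg.Agent.StdAlt.Five
end

-- part: StdAlt/Five/KillB3
section
/-!
# S1766, n = 5, `κ = 1`, `μ = 1`: the Sylow 2-subgroup of `L`; the case `E2 = 4 × 4` (B3)
-/

set_option autoImplicit false

namespace Cfsg.Agent.StdAlt.Five

open Subgroup Cfsg.Agent.StdAlt.Conj Cfsg.Agent.J2Sylow.Model

namespace KOne

variable {G : Type*} [Group G] {A R B P L : Subgroup G} {ρ : G} {ε : F4} {X Y Z : F4 → G}
variable (h : KOne A R B P L ρ ε X Y Z)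
include h

theorem mem_E2 {g : G} : g ∈ h.Q 0 ↔ ∃ b c, g = Y b * Z c := by
  constructor
  · rintro ⟨b, x, c, hx, rfl⟩
    have : x = 0 := by tauto
    subst this
    exact ⟨b, c, by rw [h.fr.X_zero, mul_one]⟩
  · rintro ⟨b, c, rfl⟩
    exact ⟨b, 0, c, Or.inl rfl, by rw [h.fr.X_zero, mul_one]⟩

theorem mul2 (b c b' c' : F4) : (Y b * Z c) * (Y b' * Z c') =
    Y (b + b') * Z (c + c' + ε * F4.fr (b * b')) := by
  have := h.mul3 b 0 c b' 0 c'
  rw [h.fr.X_zero, mul_one, mul_one, zero_mul, add_zero, add_zero, h.fr.X_zero, mul_one] at this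
  exact this

theorem inj2 {b c b' c' : F4} (he : Y b * Z c = Y b' * Z c') : b = b' ∧ c = c' := by
  have := h.inj3 (b := b) (a := 0) (c := c) (b' := b') (a' := 0) (c' := c')
    (by rw [h.fr.X_zero, mul_one, mul_one, he])
  exact ⟨this.1, this.2.2⟩

theorem card_E2 : Nat.card (h.Q 0) = 16 := by
  have hb : Function.Bijective (fun p : F4 × F4 =>
      (⟨Y p.1 * Z p.2, h.mem_E2.2 ⟨_, _, rfl⟩⟩ : h.Q 0)) := by
    constructor
    · rintro ⟨b, c⟩ ⟨b', c'⟩ he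
      obtain ⟨h1, h3⟩ := h.inj2 (congrArg Subtype.val he)
      simp only at h1 h3
      subst h1; subst h3; rfl
    · rintro ⟨g, hg⟩
      obtain ⟨b, c, rfl⟩ := h.mem_E2.1 hg
      exact ⟨(b, c), rfl⟩
  rw [← Nat.card_congr (Equiv.ofBijective _ hb), Nat.card_prod, Nat.card_eq_fintype_card]
  decide

theorem E2_le_L : h.Q 0 ≤ L := by
  intro g hg
  obtain ⟨b, c, rfl⟩ := h.mem_E2.1 hg
  exact mul_mem (h.YL b) (h.ZL c)

theorem E2_comm {x y : G} (hx : x ∈ h.Q 0) (hy : y ∈ h.Q 0) : x * y = y * x := by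
  obtain ⟨b, c, rfl⟩ := h.mem_E2.1 hx
  obtain ⟨b', c', rfl⟩ := h.mem_E2.1 hy
  rw [h.mul2, h.mul2]
  rw [add_comm b b', add_comm c c', mul_comm b b']

end KOne

namespace MuOne

variable {G : Type*} [Group G] {A R B P L : Subgroup G} {ρ : G} {ε : F4} {X Y Z : F4 → G} {S : Sylow 2 G}
variable (h : MuOne A R B P L ρ ε X Y Z S)
include h

theorem card_G [Finite G] (hε : ε = 0 ∨ ε = F4.e) (hE2 : NE2 A ε Y Z) : Nat.card G = Nat.card L * 4 := by
  have hbij : Function.Bijective (fun p : L × R => (p.1 : G) * p.2) := by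
    constructor
    · rintro ⟨⟨l, hl⟩, ⟨r, hr⟩⟩ ⟨⟨l', hl'⟩, ⟨r', hr'⟩⟩ he
      have h1 : l * r = l' * r' := he
      have h2 : l'⁻¹ * l = r' * r⁻¹ := by rw [eq_mul_inv_iff_mul_eq, mul_assoc, h1]; group
      have h3 : r' * r⁻¹ ∈ L := by rw [← h2]; exact mul_mem (inv_mem hl') hl
      obtain ⟨a, ha⟩ := h.fr.X_surj _ (mul_mem hr' (inv_mem hr))
      have h4 : a = 0 := by
        by_contra hne
        apply h.X_not_mem hε hE2 hne
        rw [ha]; exact h3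
      rw [h4, h.fr.X_zero] at ha
      have h5 : r = r' := (mul_inv_eq_one.1 ha.symm).symm
      subst h5
      have h6 : l = l' := mul_right_cancel h1
      subst h6
      rfl
    · intro g
      obtain ⟨l, hl, r, hr, rfl⟩ := h.gen g
      exact ⟨(⟨l, hl⟩, ⟨r, hr⟩), rfl⟩
  rw [← Nat.card_congr (Equiv.ofBijective _ hbij), Nat.card_prod, h.dat.cardR]

theorem not_dvd_L [Finite G] (hε : ε = 0 ∨ ε = F4.e) (hE2 : NE2 A ε Y Z) : ¬ 32 ∣ Nat.card L := by
  haveI : Fact (Nat.Prime 2) := ⟨Nat.prime_two⟩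
  intro h32
  have h1 : 128 ∣ Nat.card G := by
    rw [h.card_G hε hE2]
    exact Nat.mul_dvd_mul h32 (dvd_refl 4)
  have h2 : Nat.card (S : Subgroup G) * (S : Subgroup G).index = Nat.card G :=
    card_mul_index _
  rw [h.hS, h.dat.cardP] at h2
  have h3 : 2 ∣ P.index := by
    rw [← h2] at h1
    obtain ⟨m, hm⟩ := h1
    exact ⟨m, by omega⟩
  rw [← h.hS] at h3
  exact S.not_dvd_index h3

/-- `E2` is a Sylow 2-subgroup of `L` -/
theorem exists_sylow [Finite G] (hε : ε = 0 ∨ ε = F4.e) (hE2 : NE2 A ε Y Z) :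
    ∃ T : Sylow 2 L, (T : Subgroup L) = (h.Q 0).subgroupOf L := by
  classical
  haveI : Fact (Nat.Prime 2) := ⟨Nat.prime_two⟩
  have hc : Nat.card ((h.Q 0).subgroupOf L) = 16 := by
    rw [Nat.card_congr (subgroupOfEquivOfLe h.E2_le_L).toEquiv, h.card_E2]
  have hp : IsPGroup 2 ((h.Q 0).subgroupOf L) := IsPGroup.of_card (n := 4) (by rw [hc]; norm_num)
  obtain ⟨T, hT⟩ := hp.exists_le_sylow
  refine ⟨T, (eq_of_le_of_card_ge hT ?_).symm⟩
  rw [hc]
  obtain ⟨n, hn⟩ := IsPGroup.iff_card.1 T.isPGroup'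
  have h1 : n ≤ 4 := by
    by_contra hlt
    apply h.not_dvd_L hε hE2
    have : 2 ^ 5 ∣ 2 ^ n := pow_dvd_pow 2 (by omega)
    rw [← hn] at this
    exact (show (32 : ℕ) ∣ Nat.card (T : Subgroup L) from this).trans (card_subgroup_dvd_card _)
  rw [hn]
  calc 2 ^ n ≤ 2 ^ 4 := Nat.pow_le_pow_right (by norm_num) h1
    _ = 16 := by norm_num

end MuOne

/-! ### `E2 = 4 × 4` -/

section four

variable {G : Type*} [Group G] {A R B P L : Subgroup G} {ρ : G} {X Y Z : F4 → G}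

/-- first coordinates -/
def pb (x : F4) (i : ZMod 4) : F4 := match i with
  | 0 => 0 | 1 => x | 2 => 0 | 3 => x

/-- second coordinates -/
def pc (x : F4) (i : ZMod 4) : F4 := match i with
  | 0 => 0 | 1 => 0 | 2 => x | 3 => x

theorem KOne.pow_Y (h : KOne A R B P L ρ F4.e X Y Z) (x : F4) (i : ZMod 4) :
    Y x ^ i.val = Y (pb x i) * Z (pc x i) := by
  have h2 : Y x * Y x = Z x := by
    rw [h.fr.Y_mul, F4.add_self, h.fr.Y_zero, one_mul]
    congr 1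
    revert x; decide
  have e2 : Y x ^ 2 = Z x := by rw [pow_two, h2]
  fin_cases i
  · change Y x ^ 0 = Y 0 * Z 0
    rw [h.fr.Y_zero, h.fr.Z_zero, pow_zero, one_mul]
  · change Y x ^ 1 = Y x * Z 0
    rw [h.fr.Z_zero, pow_one, mul_one]
  · change Y x ^ 2 = Y 0 * Z x
    rw [h.fr.Y_zero, one_mul, e2]
  · change Y x ^ 3 = Y x * Z x
    rw [pow_succ, e2, h.ZY]

theorem KOne.pow_four (h : KOne A R B P L ρ F4.e X Y Z) (x : F4) : Y x ^ 4 = 1 := by
  have h2 : Y x * Y x = Z x := by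
    rw [h.fr.Y_mul, F4.add_self, h.fr.Y_zero, one_mul]
    congr 1
    revert x; decide
  rw [show (4 : ℕ) = 2 * 2 from rfl, pow_mul, pow_two, pow_two, h2, h.ZZ]

theorem pow_val_add {G : Type*} [Group G] {g : G} (hg : g ^ 4 = 1) (x y : ZMod 4) :
    g ^ (x + y).val = g ^ x.val * g ^ y.val := by
  rw [ZMod.val_add, ← pow_eq_pow_mod _ hg, pow_add]

/-- the isomorphism `4 × 4 → E2` -/
noncomputable def KOne.hom44 (h : KOne A R B P L ρ F4.e X Y Z) :
    Multiplicative (ZMod 4 × ZMod 4) →* G :=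
  MonoidHom.mk' (fun x => Y F4.w ^ x.toAdd.1.val * Y F4.u ^ x.toAdd.2.val) (by
    intro x y
    have hc : Commute (Y F4.w) (Y F4.u) :=
      h.E2_comm (h.mem_E2.2 ⟨_, 0, by rw [h.fr.Z_zero, mul_one]⟩)
        (h.mem_E2.2 ⟨_, 0, by rw [h.fr.Z_zero, mul_one]⟩)
    change Y F4.w ^ (x.toAdd.1 + y.toAdd.1).val * Y F4.u ^ (x.toAdd.2 + y.toAdd.2).val = _
    rw [pow_val_add (h.pow_four _), pow_val_add (h.pow_four _)]
    have := (hc.pow_pow y.toAdd.1.val x.toAdd.2.val).eq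
    calc Y F4.w ^ x.toAdd.1.val * Y F4.w ^ y.toAdd.1.val * (Y F4.u ^ x.toAdd.2.val * Y F4.u ^ y.toAdd.2.val)
        = Y F4.w ^ x.toAdd.1.val * (Y F4.w ^ y.toAdd.1.val * Y F4.u ^ x.toAdd.2.val) *
            Y F4.u ^ y.toAdd.2.val := by group
      _ = _ := by rw [this]; group)

theorem KOne.hom44_apply (h : KOne A R B P L ρ F4.e X Y Z) (i j : ZMod 4) :
    h.hom44 (Multiplicative.ofAdd (i, j)) =
      Y (pb F4.w i + pb F4.u j) * Z (pc F4.w i + pc F4.u j + F4.e * F4.fr (pb F4.w i * pb F4.u j)) := by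
  change Y F4.w ^ i.val * Y F4.u ^ j.val = _
  rw [h.pow_Y, h.pow_Y, h.mul2]

theorem KOne.hom44_injective (h : KOne A R B P L ρ F4.e X Y Z) : Function.Injective h.hom44 := by
  rw [injective_iff_map_eq_one]
  intro x hx
  obtain ⟨i, j⟩ := x
  have h1 := h.hom44_apply i j
  rw [show h.hom44 (Multiplicative.ofAdd (i, j)) = 1 from hx] at h1
  have h1' : Y 0 * Z 0 = Y (pb F4.w i + pb F4.u j) *
      Z (pc F4.w i + pc F4.u j + F4.e * F4.fr (pb F4.w i * pb F4.u j)) := by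
    rw [← h1, h.fr.Y_zero, h.fr.Z_zero, mul_one]
  have h2 := h.inj2 h1'
  have key : ∀ i j : ZMod 4, 0 = pb F4.w i + pb F4.u j →
      0 = pc F4.w i + pc F4.u j + F4.e * F4.fr (pb F4.w i * pb F4.u j) → i = 0 ∧ j = 0 := by
    decide
  obtain ⟨rfl, rfl⟩ := key i j h2.1 h2.2
  rfl

theorem KOne.hom44_mem (h : KOne A R B P L ρ F4.e X Y Z) (x : Multiplicative (ZMod 4 × ZMod 4)) :
    h.hom44 x ∈ h.Q 0 := by
  obtain ⟨i, j⟩ := x
  exact h.mem_E2.2 ⟨_, _, h.hom44_apply i j⟩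

end four

/-- **B3** -/
theorem MuOne.false_of_four {G : Type*} [Group G] [Finite G] {A R B P L : Subgroup G} {ρ : G}
    {X Y Z : F4 → G} {S : Sylow 2 G} (h : MuOne A R B P L ρ F4.e X Y Z S) : False := by
  classical
  haveI : Fact (Nat.Prime 2) := ⟨Nat.prime_two⟩
  haveI := h.simple
  have hE2 : NE2 A F4.e Y Z := fun h0 => absurd h0 (by decide)
  obtain ⟨T, hT⟩ := h.exists_sylow (Or.inr rfl) hE2
  have hcT : Nat.card (T : Subgroup L) = 16 := by
    rw [hT, Nat.card_congr (subgroupOfEquivOfLe h.E2_le_L).toEquiv, h.card_E2]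
  -- the isomorphism
  have hmem : ∀ x, (⟨h.hom44 x, h.E2_le_L (h.hom44_mem x)⟩ : L) ∈ (T : Subgroup L) := by
    intro x
    rw [hT, mem_subgroupOf]
    exact h.hom44_mem x
  let f : Multiplicative (ZMod 4 × ZMod 4) →* (T : Subgroup L) :=
    { toFun := fun x => ⟨⟨h.hom44 x, h.E2_le_L (h.hom44_mem x)⟩, hmem x⟩
      map_one' := by ext; simp only [_root_.map_one, _root_.OneMemClass.coe_one]
      map_mul' := by intro x y; ext; simp }
  have hf : Function.Injective f := by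
    intro x y hxy
    apply h.hom44_injective
    exact congrArg (fun t : (T : Subgroup L) => ((t : L) : G)) hxy
  have hcM : Nat.card (Multiplicative (ZMod 4 × ZMod 4)) = 16 := by
    rw [Nat.card_congr Multiplicative.toAdd, Nat.card_prod, Nat.card_zmod]
  have hfb : Function.Bijective f := by
    apply hf.bijective_of_nat_card_le
    rw [hcM]; exact hcT.le
  have e : (T : Subgroup L) ≃* Multiplicative (ZMod (2 ^ 2) × ZMod (2 ^ 2)) :=
    (MulEquiv.ofBijective f hfb).symm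
  obtain ⟨h1, -, -⟩ := Cfsg.Agent.S0949.result T 2 le_rfl e (by
    intro N hN hodd
    rcases hN.eq_bot_or_eq_top with hb | ht
    · exact hb
    · exfalso
      rw [ht, card_top] at hodd
      have h2 : 4 ∣ Nat.card L := by
        rw [← h.dat.cardB]
        exact card_dvd_of_le (h.B_le.trans h.A_le)
      rw [← Nat.not_even_iff_odd] at hodd
      exact hodd (even_iff_two_dvd.2 ((by norm_num : (2 : ℕ) ∣ 4).trans h2)))
  rcases h1.eq_bot_or_eq_top with hb | ht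
  · rw [hb, card_bot] at hcT; omega
  · have hρ : (⟨ρ, h.A_le h.ρA⟩ : L) ∈ (T : Subgroup L) := by rw [ht]; trivial
    rw [hT, mem_subgroupOf] at hρ
    have hZ : Z F4.e ∈ h.Q 0 := h.mem_E2.2 ⟨0, F4.e, by rw [h.fr.Y_zero, one_mul]⟩
    have h2 := h.E2_comm hρ hZ
    have h3 := h.fr.ρZ F4.e
    have h4 : ρ * Z F4.e = Z F4.e * ρ := h2
    rw [h4, mul_inv_cancel_right] at h3
    have := h.fr.Z_inj h3
    exact absurd this (by decide)

end Cfsg.Agent.StdAlt.Five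
end

private theorem dce_2581882b9d6f : _root_.True := by
  try have : _root_.True := by simp only [_root_.Cfsg.Agent.StdAlt.Five.Kill.Lin.hom.congr_simp]
  try have : _root_.True := by simp only [_root_.Cfsg.Agent.StdAlt.Five.Kill.kFun.eq_1]
  try have : _root_.True := by simp only [_root_.Cfsg.Agent.StdAlt.Five.KillModel.K.frK.eq_1]
  try have : _root_.True := by simp only [_root_.Cfsg.Agent.StdAlt.Five.KillModel.L.eS.eq_1]
  try have : _root_.True := by simp only [_root_.Cfsg.Agent.StdAlt.Five.Kill.CL.eq_1]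
  try have : _root_.True := by simp only [_root_.Cfsg.Agent.StdAlt.Five.Kill.LinS.hom2.congr_simp]
  try have : _root_.True := by simp only [_root_.Cfsg.Agent.StdAlt.Five.KillModel.L.iS.eq_1]
  try have : _root_.True := by simp only [_root_.Cfsg.Agent.StdAlt.Five.KillModel.L.cS.eq_1]
  try have : _root_.True := by simp only [_root_.Cfsg.Agent.StdAlt.Five.KOne.hom44.congr_simp]
  exact _root_.True.intro
end

-- part: StdAlt/Five/KillB1Act
section
prune_inst 0xc0104600002210000000000000002000100000000043000121000102000000008000060008202200000080002000006003180000400000000000000040040000002246008248a108000000008000000000000000000000000000000000000000000000000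
set_option linter.all false
open scoped Cfsg.Agent.FastGrp

/-!
# S1766, n = 5, `κ = 1`, `μ = 1`, `E2 = 2^4`: the action of `N_L(E2)` on `E2`
-/

set_option autoImplicit false

namespace Cfsg.Agent.StdAlt.Five

open Subgroup Cfsg.Agent.StdAlt.Conj Cfsg.Agent.J2Sylow.Model

/-- additive function with prescribed values at `e`, `w` -/
def aF (p q : F4) : F4 → F4
  | .o => 0
  | .e => p
  | .w => q
  | .u => p + q

theorem aF_of {f : F4 → F4} (hf : ∀ a b, f (a + b) = f a + f b) (c : F4) :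
    f c = aF (f .e) (f .w) c := by
  have h0 : f 0 = 0 := by
    have h := hf 0 0
    rw [add_zero] at h
    exact left_eq_add.mp h
  cases c
  · exact h0
  · rfl
  · rfl
  · change f (F4.e + F4.w) = f F4.e + f F4.w
    exact hf _ _

/-- additive injections of `F4` of odd order are multiplications -/
theorem additive_odd {f : F4 → F4} (hf : ∀ a b, f (a + b) = f a + f b) (hinj : ∀ a, f a = 0 → a = 0)
    {m : ℕ} (hm : Odd m) (hfm : ∀ c, f^[m] c = c) : ∃ i : ℕ, ∀ c, f c = F4.w ^ i * c := by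
  have a1 := fun c => aF_of hf c
  set p := f .e with hp
  set q := f .w with hq
  have key : ∀ p q : F4, (∀ a, aF p q a = 0 → a = 0) →
      (∃ i : Fin 3, ∀ c, aF p q c = F4.w ^ i.val * c) ∨
        (∀ c, aF p q (aF p q c) = c) := by decide
  rcases key p q (fun a ha => hinj a (by rw [a1 a]; exact ha)) with ⟨i, hi⟩ | h2
  · exact ⟨i.val, fun c => by rw [a1 c, hi]⟩
  · refine ⟨0, fun c => ?_⟩
    have h3 : ∀ c, f (f c) = c := fun c => by rw [a1 (f c), a1 c, h2]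
    obtain ⟨k, rfl⟩ := hm
    have h4 : ∀ k : ℕ, ∀ c, f^[2 * k] c = c := by
      intro k
      induction k with
      | zero => intro c; rfl
      | succ k ih =>
        intro c
        rw [show 2 * (k + 1) = 2 * k + 1 + 1 by ring, Function.iterate_succ_apply,
          Function.iterate_succ_apply, h3, ih]
    have h5 : f^[2 * k] (f c) = c := by rw [← Function.iterate_succ_apply]; exact hfm c
    rw [h4] at h5
    rw [h5, pow_zero, one_mul]

/-- a 2-subgroup `E` of order `2 ^ k` of `H`, `2 ^ (k+1) ∤ |H|`: every 2-subgroup of `H` is conjugate into `E` -/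
theorem conj_into' {G : Type*} [Group G] [Finite G] {H E T : Subgroup G} (hE : E ≤ H) {k : ℕ}
    (hcE : Nat.card E = 2 ^ k) (hH : ¬ 2 ^ (k + 1) ∣ Nat.card H) (hT : T ≤ H) (hTp : IsPGroup 2 T) :
    ∃ g ∈ H, ∀ x ∈ T, g * x * g⁻¹ ∈ E := by
  classical
  haveI : Fact (Nat.Prime 2) := ⟨Nat.prime_two⟩
  have hEp : IsPGroup 2 (E.subgroupOf H) := by
    apply IsPGroup.of_card (n := k)
    rw [Nat.card_congr (subgroupOfEquivOfLe hE).toEquiv, hcE]
  have hTp' : IsPGroup 2 (T.subgroupOf H) := hTp.of_equiv (subgroupOfEquivOfLe hT).symm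
  obtain ⟨S1, hS1⟩ := hEp.exists_le_sylow
  obtain ⟨S2, hS2⟩ := hTp'.exists_le_sylow
  have hS1c : Nat.card (S1 : Subgroup H) ≤ 2 ^ k := by
    obtain ⟨n, hn⟩ := IsPGroup.iff_card.1 S1.isPGroup'
    have h1 : n ≤ k := by
      by_contra hlt
      apply hH
      have : 2 ^ (k + 1) ∣ 2 ^ n := pow_dvd_pow 2 (by omega)
      rw [← hn] at this
      exact this.trans (card_subgroup_dvd_card _)
    rw [hn]
    exact Nat.pow_le_pow_right (by norm_num) h1
  have hEq : E.subgroupOf H = (S1 : Subgroup H) := by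
    apply eq_of_le_of_card_ge hS1
    rw [Nat.card_congr (subgroupOfEquivOfLe hE).toEquiv, hcE]
    exact hS1c
  obtain ⟨g, hg⟩ := MulAction.exists_smul_eq H S2 S1
  refine ⟨g, g.2, fun x hx => ?_⟩
  have h1 : (⟨x, hT hx⟩ : H) ∈ (S2 : Subgroup H) := hS2 (mem_subgroupOf.2 hx)
  have h2 : g * ⟨x, hT hx⟩ * g⁻¹ ∈ ((g • S2 : Sylow 2 H) : Subgroup H) := by
    rw [Sylow.coe_subgroup_smul]
    have := smul_mem_pointwise_smul (⟨x, hT hx⟩ : H) (MulAut.conj g) (S2 : Subgroup H) h1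
    simpa using this
  rw [hg, ← hEq, mem_subgroupOf] at h2
  exact h2

namespace KOne

variable {G : Type*} [Group G] {A R B P L : Subgroup G} {ρ : G} {ε : F4} {X Y Z : F4 → G}

theorem Xa_conj_E2 (h : KOne A R B P L ρ ε X Y Z) (a : F4) {x : G} (hx : x ∈ h.Q 0) :
    X a * x * (X a)⁻¹ ∈ h.Q 0 := by
  obtain ⟨b, c, rfl⟩ := h.mem_E2.1 hx
  rw [h.mem_E2]
  refine ⟨b, a * b + c, ?_⟩
  calc X a * (Y b * Z c) * (X a)⁻¹ = (X a * Y b) * (Z c * (X a)⁻¹) := by group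
    _ = (Y b * X a * Z (a * b)) * (Z c * X a) := by rw [h.fr.X_Y, h.X_inv]
    _ = Y b * (X a * X a) * (Z (a * b) * Z c) := by
        rw [h.ZX]
        calc Y b * X a * Z (a * b) * (X a * Z c) = Y b * X a * (Z (a * b) * X a) * Z c := by group
          _ = _ := by rw [h.ZX]; group
    _ = _ := by rw [h.XX, mul_one, ← h.fr.Z_add]

/-- Lemma A -/
theorem exists_commuting [Finite G] (h : KOne A R B P L ρ 0 X Y Z) (h32 : ¬ 32 ∣ Nat.card L) {a : F4}
    (ha : a ≠ 0) (haL : X a ∉ L) {n : G} (hn : n ∈ L)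
    (hcn : ∀ x ∈ h.Q 0, ((X a)⁻¹ * n⁻¹ * X a * n) * x = x * ((X a)⁻¹ * n⁻¹ * X a * n)) :
    ∃ n1 ∈ L, n1 * X a = X a * n1 ∧ ∀ x ∈ h.Q 0, n1 * x * n1⁻¹ = n * x * n⁻¹ := by
  classical
  haveI := h.nor
  set Cc : Subgroup G := L ⊓ centralizer ((h.Q 0 : Subgroup G) : Set G) with hCc
  have mC : ∀ {x : G}, x ∈ Cc ↔ x ∈ L ∧ ∀ y ∈ h.Q 0, x * y = y * x := by
    intro x
    rw [hCc, mem_inf, mem_centralizer_iff]
    exact ⟨fun h1 => ⟨h1.1, fun y hy => (h1.2 y hy).symm⟩, fun h1 => ⟨h1.1, fun y hy => (h1.2 y hy).symm⟩⟩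
  have hXC : ∀ x ∈ Cc, X a * x * (X a)⁻¹ ∈ Cc := by
    intro x hx
    obtain ⟨h1, h2⟩ := mC.1 hx
    refine mC.2 ⟨h.nor.conj_mem _ h1 _, fun y hy => ?_⟩
    have h3 : X a * y * (X a)⁻¹ ∈ h.Q 0 := h.Xa_conj_E2 a hy
    have h4 := h2 _ h3
    have h5 : X a * (X a * y * (X a)⁻¹) * (X a)⁻¹ = y := by
      rw [h.X_inv]
      calc X a * (X a * y * X a) * X a = (X a * X a) * y * (X a * X a) := by group
        _ = y := by rw [h.XX]; group
    calc X a * x * (X a)⁻¹ * y = X a * x * (X a)⁻¹ * (X a * (X a * y * (X a)⁻¹) * (X a)⁻¹) := by rw [h5]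
      _ = X a * (x * (X a * y * (X a)⁻¹)) * (X a)⁻¹ := by group
      _ = X a * ((X a * y * (X a)⁻¹) * x) * (X a)⁻¹ := by rw [h4]
      _ = (X a * (X a * y * (X a)⁻¹) * (X a)⁻¹) * (X a * x * (X a)⁻¹) := by group
      _ = _ := by rw [h5]
  have hXX := h.XX a
  have hXi := h.X_inv a
  have hXC' : ∀ x ∈ Cc, X a * x * X a ∈ Cc := fun x hx => by
    have := hXC x hx
    rwa [hXi] at this
  let H1 : Subgroup G :=
    { carrier := {x | x ∈ Cc ∨ X a * x ∈ Cc}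
      one_mem' := Or.inl (one_mem _)
      mul_mem' := by
        rintro x y (hx | hx) (hy | hy)
        · exact Or.inl (mul_mem hx hy)
        · right
          have := mul_mem (hXC' x hx) hy
          convert this using 1
          calc X a * (x * y) = X a * x * (1 * y) := by group
            _ = _ := by rw [← hXX]; group
        · right
          have := mul_mem hx hy
          convert this using 1
          group
        · left
          have := mul_mem (hXC' _ hx) hy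
          convert this using 1
          calc x * y = 1 * x * (1 * y) := by group
            _ = _ := by rw [← hXX]; group
      inv_mem' := by
        rintro x (hx | hx)
        · exact Or.inl (inv_mem hx)
        · right
          have := hXC' _ (inv_mem hx)
          convert this using 1
          rw [mul_inv_rev, hXi]
          calc X a * x⁻¹ = X a * x⁻¹ * 1 := by group
            _ = _ := by rw [← hXX]; group }
  have mH : ∀ {x : G}, x ∈ H1 ↔ x ∈ Cc ∨ X a * x ∈ Cc := Iff.rfl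
  have hcard : Nat.card H1 = Nat.card Cc * 2 := by
    have hb : Function.Bijective (fun p : Cc × Bool =>
        (⟨bif p.2 then X a * p.1 else p.1, by
          rcases p with ⟨⟨c, hc⟩, b⟩
          cases b
          · exact Or.inl hc
          · right
            change X a * (X a * c) ∈ Cc
            rw [← mul_assoc, hXX, one_mul]
            exact hc⟩ : H1)) := by
      constructor
      · rintro ⟨⟨c, hc⟩, b⟩ ⟨⟨c', hc'⟩, b'⟩ he
        have he' := congrArg Subtype.val he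
        cases b <;> cases b'
        · have h1 : c = c' := he'
          subst h1; rfl
        · exfalso
          have h1 : c = X a * c' := he'
          apply haL
          have : X a = c * c'⁻¹ := by rw [h1]; group
          rw [this]
          exact mul_mem (mC.1 hc).1 (inv_mem (mC.1 hc').1)
        · exfalso
          have h1 : X a * c = c' := he'
          apply haL
          have : X a = c' * c⁻¹ := by rw [← h1]; group
          rw [this]
          exact mul_mem (mC.1 hc').1 (inv_mem (mC.1 hc).1)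
        · have h1 : X a * c = X a * c' := he'
          have h2 := mul_left_cancel h1
          subst h2; rfl
      · rintro ⟨x, hx⟩
        rcases mH.1 hx with h1 | h1
        · exact ⟨(⟨x, h1⟩, false), rfl⟩
        · refine ⟨(⟨X a * x, h1⟩, true), ?_⟩
          apply Subtype.ext
          change X a * (X a * x) = x
          rw [← mul_assoc, hXX, one_mul]
    rw [← Nat.card_congr (Equiv.ofBijective _ hb), Nat.card_prod, Nat.card_eq_fintype_card (α := Bool)]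
    rfl
  have hE2C : h.Q 0 ≤ Cc := fun x hx => mC.2 ⟨h.E2_le_L hx, fun y hy => h.E2_comm hx hy⟩
  have hQH : h.Q a ≤ H1 := by
    rintro x ⟨b, y, c, hy, rfl⟩
    rcases hy with rfl | rfl
    · left
      apply hE2C
      exact ⟨b, 0, c, Or.inl rfl, rfl⟩
    · right
      rw [show X y * (Y b * X y * Z c) = (X y * Y b) * X y * Z c by group, h.fr.X_Y]
      have : Y b * X y * Z (y * b) * X y * Z c = Y b * Z (y * b + c) := by
        calc Y b * X y * Z (y * b) * X y * Z c = Y b * X y * (Z (y * b) * X y) * Z c := by group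
          _ = Y b * (X y * X y) * (Z (y * b) * Z c) := by rw [h.ZX]; group
          _ = _ := by rw [h.XX, mul_one, ← h.fr.Z_add]
      rw [this]
      exact hE2C (h.mem_E2.2 ⟨_, _, rfl⟩)
  have h64 : ¬ 2 ^ (5 + 1) ∣ Nat.card H1 := by
    intro hd
    apply h32
    rw [hcard] at hd
    have h1 : 32 ∣ Nat.card Cc := by
      obtain ⟨m, hm⟩ := hd
      exact ⟨m, by omega⟩
    exact h1.trans (card_dvd_of_le inf_le_left)
  -- the conjugate `n⁻¹ X a n`
  set t := n⁻¹ * X a * n with ht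
  have htt : t * t = 1 := by
    rw [ht]
    calc n⁻¹ * X a * n * (n⁻¹ * X a * n) = n⁻¹ * (X a * X a) * n := by group
      _ = 1 := by rw [hXX]; group
  have hc0 : X a * t ∈ Cc := by
    refine mC.2 ⟨?_, fun y hy => ?_⟩
    · have : X a * t = (X a * n⁻¹ * (X a)⁻¹) * n := by rw [ht, hXi]; group
      rw [this]
      exact mul_mem (h.nor.conj_mem _ (inv_mem hn) _) hn
    · have := hcn y hy
      rw [hXi] at this
      rw [ht]
      convert this using 1 <;> group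
  have htH : zpowers t ≤ H1 := by
    rw [zpowers_le]
    exact Or.inr hc0
  have htp : IsPGroup 2 (zpowers t) := by
    intro y
    obtain ⟨y, k, rfl⟩ := y
    refine ⟨1, Subtype.ext ?_⟩
    change (t ^ k) ^ (2 ^ 1) = 1
    rw [pow_one, ← zpow_natCast, ← zpow_mul, mul_comm, zpow_mul, zpow_natCast, pow_two, htt, one_zpow]
  obtain ⟨g0, hg0, hg0'⟩ := conj_into' hQH (k := 5) (by rw [h.card_Q ha]; norm_num) h64 htH htp
  obtain ⟨g, hg, hgt⟩ : ∃ g ∈ Cc, g * t * g⁻¹ ∈ h.Q a := by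
    have h1 := hg0' t (mem_zpowers t)
    rcases mH.1 hg0 with h2 | h2
    · exact ⟨g0, h2, h1⟩
    · refine ⟨X a * g0, h2, ?_⟩
      have hXQ : X a ∈ h.Q a := ⟨0, a, 0, Or.inr rfl, by rw [h.fr.Y_zero, h.fr.Z_zero]; group⟩
      have := mul_mem (mul_mem hXQ h1) (inv_mem hXQ)
      convert this using 1
      group
  obtain ⟨b, x, c, hx, he⟩ := hgt
  have hsq : (Y b * X x * Z c) * (Y b * X x * Z c) = 1 := by
    rw [← he]
    calc g * t * g⁻¹ * (g * t * g⁻¹) = g * (t * t) * g⁻¹ := by group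
      _ = 1 := by rw [htt]; group
  rw [h.sq3_iff] at hsq
  have hx0 : x ≠ 0 := by
    rintro rfl
    have h1 : Y b * X 0 * Z c ∈ L := by
      rw [h.fr.X_zero, mul_one]; exact mul_mem (h.YL b) (h.ZL c)
    rw [← he] at h1
    have h2 : X a = n * g⁻¹ * (g * t * g⁻¹) * (n * g⁻¹)⁻¹ := by rw [ht]; group
    apply haL
    rw [h2]
    exact h.nor.conj_mem _ h1 _
  have hxa : x = a := by tauto
  subst hxa
  have hb0 : b = 0 := by
    have : ∀ x b : F4, x ≠ 0 → x * b + 0 * F4.fr (b * b) = 0 → b = 0 := by decide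
    exact this x b ha hsq
  subst hb0
  obtain ⟨d, hd⟩ := h.exists_Y ha c
  rw [h.fr.Y_zero, one_mul, ← hd] at he
  refine ⟨n * g⁻¹ * (Y d)⁻¹, mul_mem (mul_mem hn (inv_mem (mC.1 hg).1)) (inv_mem (h.YL d)), ?_, ?_⟩
  · calc n * g⁻¹ * (Y d)⁻¹ * X x = n * g⁻¹ * ((Y d)⁻¹ * X x * Y d) * (Y d)⁻¹ := by group
      _ = n * g⁻¹ * (g * t * g⁻¹) * (Y d)⁻¹ := by rw [he]
      _ = X x * (n * g⁻¹ * (Y d)⁻¹) := by rw [ht]; group
  · intro y hy
    have h1 : (Y d)⁻¹ * y = y * (Y d)⁻¹ :=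
      h.E2_comm (inv_mem (h.mem_E2.2 ⟨d, 0, by rw [h.fr.Z_zero, mul_one]⟩)) hy
    have h2 : g⁻¹ * y = y * g⁻¹ := (mC.1 (inv_mem hg)).2 y hy
    calc n * g⁻¹ * (Y d)⁻¹ * y * (n * g⁻¹ * (Y d)⁻¹)⁻¹
        = n * g⁻¹ * ((Y d)⁻¹ * y) * Y d * g * n⁻¹ := by group
      _ = n * (g⁻¹ * y) * g * n⁻¹ := by rw [h1]; group
      _ = _ := by rw [h2]; group

end KOne

end Cfsg.Agent.StdAlt.Five
end

-- part: StdAlt/Five/KillA1
section
set_option linter.all false
open scoped Cfsg.Agent.FastGrp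

/-!
# S1766, `n = 5`, kill A1: `S = P` of type `L₃(4)`, `E2` strongly closed
-/

set_option autoImplicit false

namespace Cfsg.Agent.StdAlt.Five.Kill

open Subgroup Cfsg.Agent.StdAlt.Conj Cfsg.Agent.J2Sylow.Model Cfsg.Agent.J2Sylow.Model.F4
open Cfsg.Agent.StdAlt.Five Sec4 KillModel

variable {G : Type*} [Group G]

/-- the statement S1169 for the group `G` -/
def Gold (G : Type*) [Group G] : Prop :=
  ∀ (S : Sylow 2 G) (A : Subgroup G), A ≠ ⊥ → IsMulCommutative A →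
    Cfsg.IsStronglyClosed A (S : Subgroup G) →
    IsMulCommutative (S : Subgroup G) ∨ ∃ H : Subgroup G, Cfsg.IsStronglyEmbedded H

variable {A R V P : Subgroup G} {ρ ρ₀ w s : G} {X Y Z : F4 → G} {S : Sylow 2 G}

/-- the subgroup `{Y b * Z c}` -/
def E2 (B : Base A R V P ρ 0 X Y Z) : Subgroup G where
  carrier := {x | ∃ b c, x = Y b * Z c}
  one_mem' := ⟨0, 0, by rw [Y_zero B, Z_zero B, mul_one]⟩
  mul_mem' := by
    rintro _ _ ⟨b, c, rfl⟩ ⟨b', c', rfl⟩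
    refine ⟨b + b', c + c', ?_⟩
    have h := B.data.cent _ (B.frame.Y_mem b') _ (B.frame.Z_mem c)
    rw [← YY B, B.frame.Z_add]
    calc Y b * Z c * (Y b' * Z c') = Y b * (Z c * Y b') * Z c' := by group
      _ = Y b * (Y b' * Z c) * Z c' := by rw [h]
      _ = _ := by group
  inv_mem' := by
    rintro _ ⟨b, c, rfl⟩
    refine ⟨b, c, ?_⟩
    have h := B.data.cent _ (B.frame.Y_mem b) _ (B.frame.Z_mem c)
    have h1 : Y b * Y b = 1 := by rw [YY B, F4.add_self, Y_zero B]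
    have h2 : Z c * Z c = 1 := B.data.sqB _ (B.frame.Z_mem c)
    rw [inv_eq_iff_mul_eq_one]
    calc Y b * Z c * (Y b * Z c) = Y b * (Z c * Y b) * Z c := by group
      _ = Y b * Y b * (Z c * Z c) := by rw [← h]; group
      _ = 1 := by rw [h1, h2, mul_one]

theorem E2_comm (B : Base A R V P ρ 0 X Y Z) {x y : G} (hx : x ∈ E2 B) (hy : y ∈ E2 B) :
    x * y = y * x := by
  obtain ⟨b, c, rfl⟩ := hx
  obtain ⟨b', c', rfl⟩ := hy
  have h1 := B.data.cent _ (B.frame.Y_mem b) _ (B.frame.Z_mem c')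
  have h2 := B.data.cent _ (B.frame.Y_mem b') _ (B.frame.Z_mem c)
  have h3 : Y b * Y b' = Y b' * Y b := by rw [YY B, YY B, add_comm]
  have h4 : Z c * Z c' = Z c' * Z c := by
    rw [← B.frame.Z_add, ← B.frame.Z_add, add_comm]
  calc Y b * Z c * (Y b' * Z c') = Y b * (Z c * Y b') * Z c' := by group
    _ = Y b * Y b' * (Z c * Z c') := by rw [← h2]; group
    _ = Y b' * (Y b * Z c') * Z c := by rw [h3, h4]; group
    _ = Y b' * (Z c' * Y b) * Z c := by rw [h1]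
    _ = _ := by group

theorem E2_sq (B : Base A R V P ρ 0 X Y Z) {x : G} (hx : x ∈ E2 B) : x * x = 1 := by
  have h1 := (E2 B).inv_mem hx
  obtain ⟨b, c, rfl⟩ := hx
  have h := B.data.cent _ (B.frame.Y_mem b) _ (B.frame.Z_mem c)
  have h1 : Y b * Y b = 1 := by rw [YY B, F4.add_self, Y_zero B]
  have h2 : Z c * Z c = 1 := B.data.sqB _ (B.frame.Z_mem c)
  calc Y b * Z c * (Y b * Z c) = Y b * (Z c * Y b) * Z c := by group
    _ = Y b * Y b * (Z c * Z c) := by rw [← h]; group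
    _ = 1 := by rw [h1, h2, mul_one]

theorem E2_ne (B : Base A R V P ρ 0 X Y Z) : E2 B ≠ ⊥ := by
  intro h
  have h1 : Z 1 ∈ E2 B := ⟨0, 1, by rw [Y_zero B, one_mul]⟩
  rw [h, mem_bot] at h1
  have h3 : Y 0 * X 0 * Z 1 = Y 0 * X 0 * Z 0 := by rw [h1, Z_zero B]
  obtain ⟨-, -, h4⟩ := B.frame.inj _ _ _ _ _ _ h3
  exact absurd h4 (by decide)

/-- squares in `P` -/
theorem P_sq (B : Base A R V P ρ 0 X Y Z) (a b c : F4) :
    (Y b * X a * Z c) * (Y b * X a * Z c) = Z (a * b) := by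
  have h1 := B.data.cent _ (B.frame.Y_mem b) _ (B.frame.Z_mem c)
  have h2 := B.data.cent _ (B.data.R_le (B.frame.X_mem a)) _ (B.frame.Z_mem c)
  have h3 : Y b * Y b = 1 := by rw [YY B, F4.add_self, Y_zero B]
  have h4 : Z c * Z c = 1 := B.data.sqB _ (B.frame.Z_mem c)
  have h5 : X a * X a = 1 := B.data.sqR _ (B.frame.X_mem a)
  have h6 := B.data.cent _ (B.data.R_le (B.frame.X_mem a)) _ (B.frame.Z_mem (a * b))
  calc (Y b * X a * Z c) * (Y b * X a * Z c) = Y b * X a * (Z c * Y b) * X a * Z c := by group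
    _ = Y b * (X a * Y b) * (Z c * X a) * Z c := by rw [← h1]; group
    _ = Y b * (Y b * X a * Z (a * b)) * (X a * Z c) * Z c := by rw [B.frame.X_Y, ← h2]
    _ = (Y b * Y b) * (X a * Z (a * b)) * X a * (Z c * Z c) := by group
    _ = (Y b * Y b) * (Z (a * b) * X a) * X a * (Z c * Z c) := by rw [h6]
    _ = (Y b * Y b) * Z (a * b) * (X a * X a) * (Z c * Z c) := by group
    _ = _ := by rw [h3, h4, h5]; group

/-- the elements of `P` of order two that are not of K-type -/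
theorem mem_E2_of (B : Base A R V P ρ 0 X Y Z) {x : G} (hx : x ∈ P) (h2 : x * x = 1)
    (hk : ¬ KT A x) : x ∈ E2 B := by
  obtain ⟨b, a, c, rfl⟩ := B.frame.P_surj _ hx
  rw [P_sq B] at h2
  have h3 : Y 0 * X 0 * Z (a * b) = Y 0 * X 0 * Z 0 := by rw [h2, Z_zero B]
  obtain ⟨-, -, h4⟩ := B.frame.inj _ _ _ _ _ _ h3
  rcases mz a b h4 with ha | hb
  · exact ⟨b, c, by rw [ha, X_zero B, mul_one]⟩
  · by_cases ha : a = 0
    · exact ⟨b, c, by rw [ha, X_zero B, mul_one]⟩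
    · exfalso
      apply hk
      rw [hb, Y_zero B, one_mul]
      exact (B.kt a c).mpr ha

/-- no element of `E2` is of K-type -/
theorem E2_nkt (B : Base A R V P ρ 0 X Y Z) (W : WC A R V P Y Z S) {x : G} (hx : x ∈ E2 B) :
    ¬ KT A x := by
  obtain ⟨b, c, rfl⟩ := hx
  by_cases hb : b = 0
  · rw [hb, Y_zero B, ← X_zero B]
    intro h
    exact (B.kt 0 c).mp h rfl
  · exact W.nkt b c hb

theorem P_not_comm (B : Base A R V P ρ 0 X Y Z) (h : ∀ x ∈ P, ∀ y ∈ P, x * y = y * x) : False := by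
  have h1 := h _ (B.data.R_le (B.frame.X_mem 1)) _ (B.frame.Y_mem 1)
  rw [B.frame.X_Y] at h1
  have h2 : Z (1 * 1) = 1 := by
    have : Y 1 * X 1 * Z (1 * 1) = Y 1 * X 1 := h1
    exact mul_eq_left.mp this
  have h3 : Y 0 * X 0 * Z (1 * 1) = Y 0 * X 0 * Z 0 := by rw [h2, Z_zero B]
  obtain ⟨-, -, h4⟩ := B.frame.inj _ _ _ _ _ _ h3
  exact absurd h4 (by decide)

/-- a strongly closed abelian subgroup is impossible -/
theorem false_of_closed [Finite G] [IsSimpleGroup G] (B : Base A R V P ρ 0 X Y Z)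
    (hPS : P ≤ (S : Subgroup G)) (hG : Gold G) {Q : Subgroup G} (hQ : Q ≠ ⊥)
    (hc : ∀ x ∈ Q, ∀ y ∈ Q, x * y = y * x) (hcl : Cfsg.IsStronglyClosed Q (S : Subgroup G)) :
    False := by
  rcases hG S Q hQ ⟨⟨fun x y => Subtype.ext (hc x x.2 y y.2)⟩⟩ hcl with h | ⟨H, hH⟩
  · apply P_not_comm B
    intro x hx y hy
    have := h.is_comm.comm (⟨x, hPS hx⟩ : (S : Subgroup G)) ⟨y, hPS hy⟩
    exact congrArg Subtype.val this
  · apply nZ_of B 1
    obtain ⟨g0, od⟩ := B.odd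
    apply Cfsg.Agent.TwoFusion.StronglyEmbeddedBasic.isConj_of_involutions hH
    · apply orderOf_eq_prime
      · rw [pow_two]; exact od.sqR _ (B.frame.X_mem 1)
      · intro h1
        have h3 : Y 0 * X 1 * Z 0 = Y 0 * X 0 * Z 0 := by rw [h1, X_zero B]
        obtain ⟨-, h4, -⟩ := B.frame.inj _ _ _ _ _ _ h3
        exact absurd h4 (by decide)
    · apply orderOf_eq_prime
      · rw [pow_two]; exact od.sqV _ (B.frame.Z_mem 1)
      · intro h1
        have h3 : Y 0 * X 0 * Z 1 = Y 0 * X 0 * Z 0 := by rw [h1, Z_zero B]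
        obtain ⟨-, -, h4⟩ := B.frame.inj _ _ _ _ _ _ h3
        exact absurd h4 (by decide)

/-- **A1** -/
theorem a1 [Finite G] [IsSimpleGroup G] (B : Base A R V P ρ 0 X Y Z) (W : WC1 A R V P Y Z S)
    (hG : Gold G) : False := by
  apply false_of_closed B W.le hG (E2_ne B) (fun x hx y hy => E2_comm B hx hy)
  refine ⟨?_, ?_⟩
  · rintro _ ⟨b, c, rfl⟩
    exact W.le (P.mul_mem (B.frame.Y_mem b) (B.data.B_le (B.frame.Z_mem c)))
  · intro x hx g hg
    rw [W.eq] at hg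
    apply mem_E2_of B hg
    · calc g * x * g⁻¹ * (g * x * g⁻¹) = g * (x * x) * g⁻¹ := by group
        _ = 1 := by rw [E2_sq B hx]; group
    · intro hk
      apply E2_nkt B W.toWC hx
      apply kt_conj hk
      rw [isConj_iff]
      exact ⟨g⁻¹, by group⟩

end Cfsg.Agent.StdAlt.Five.Kill
end

-- part: StdAlt/Five/KillB1Odd
section
set_option linter.all false
open scoped Cfsg.Agent.FastGrp

/-!
# S1766, n = 5, `κ = 1`, `μ = 1`, `E2 = 2^4`: `N_L(E2)` acts on `E2` as `⟨ρ⟩`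
-/

set_option autoImplicit false

namespace Cfsg.Agent.StdAlt.Five

open Subgroup Cfsg.Agent.StdAlt.Conj Cfsg.Agent.J2Sylow.Model

/-- `x = κ r^i`, `κ` and `r` commute, `κ² = r³ = 1`, `x` of odd order: `κ = 1` -/
theorem eq_one_of_odd {M : Type*} [Group M] {x κ r : M} {i m : ℕ} (hx : x = κ * r ^ i) (hc : κ * r = r * κ)
    (hk : κ * κ = 1) (hr : r ^ 3 = 1) (hm : Odd m) (hxm : x ^ m = 1) : κ = 1 := by
  have hc' : Commute κ (r ^ i) := (show Commute κ r from hc).pow_right i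
  have h1 : x ^ (3 * m) = 1 := by rw [mul_comm, pow_mul, hxm, one_pow]
  rw [hx, hc'.mul_pow] at h1
  have h2 : (r ^ i) ^ (3 * m) = 1 := by
    rw [← pow_mul, show i * (3 * m) = 3 * (i * m) by ring, pow_mul, hr, one_pow]
  rw [h2, mul_one] at h1
  obtain ⟨k, rfl⟩ := hm
  have h3 : κ ^ (3 * (2 * k + 1)) = κ := by
    rw [show 3 * (2 * k + 1) = 2 * (3 * k + 1) + 1 by ring, pow_succ, pow_mul, pow_two, hk, one_pow, one_mul]
  rw [h3] at h1
  exact h1

namespace KOne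

variable {G : Type*} [Group G] {A R B P L : Subgroup G} {ρ : G} {ε : F4} {X Y Z : F4 → G}

/-- the action of `N(E2)` on `E2` -/
noncomputable def pi (h : KOne A R B P L ρ ε X Y Z) :
    normalizer ((h.Q 0 : Subgroup G) : Set G) →* MulAut (h.Q 0) := (h.Q 0).normalizerMonoidHom

theorem pi_apply (h : KOne A R B P L ρ ε X Y Z) (g : normalizer ((h.Q 0 : Subgroup G) : Set G))
    (x : h.Q 0) : ((h.pi g x : h.Q 0) : G) = g * x * (g : G)⁻¹ := rfl

theorem ρ_E2 (h : KOne A R B P L ρ ε X Y Z) {x : G} (hx : x ∈ h.Q 0) : ρ * x * ρ⁻¹ ∈ h.Q 0 := by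
  obtain ⟨b, c, rfl⟩ := h.mem_E2.1 hx
  rw [h.mem_E2]
  refine ⟨F4.w * b, F4.w * c, ?_⟩
  rw [← h.fr.ρY, ← h.fr.ρZ]; group

theorem mem_nor [Finite G] (h : KOne A R B P L ρ ε X Y Z) {g : G}
    (hg : ∀ x ∈ h.Q 0, g * x * g⁻¹ ∈ h.Q 0) : g ∈ normalizer ((h.Q 0 : Subgroup G) : Set G) :=
  mem_N_of hg

theorem ρ_pow_Z (h : KOne A R B P L ρ ε X Y Z) (i : ℕ) (c : F4) : ρ ^ i * Z c * (ρ ^ i)⁻¹ = Z (F4.w ^ i * c) := by
  induction i generalizing c with
  | zero => simp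
  | succ i ih =>
    have e : ρ ^ (i + 1) * Z c * (ρ ^ (i + 1))⁻¹ = ρ ^ i * (ρ * Z c * ρ⁻¹) * (ρ ^ i)⁻¹ := by
      rw [pow_succ]; group
    rw [e, h.fr.ρZ, ih, pow_succ, mul_assoc]

/-- `k` commuting with `X a`, `B` and normalising `E2` (`ε` arbitrary) -/
theorem k_act (h : KOne A R B P L ρ ε X Y Z) {a : F4} (ha : a ≠ 0) {k : G} (hkX : k * X a = X a * k)
    (hkZ : ∀ c, k * Z c = Z c * k) (hkE : ∀ x ∈ h.Q 0, k * x * k⁻¹ ∈ h.Q 0) (b : F4) :
    ∃ d, k * Y b * k⁻¹ = Y b * Z d := by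
  obtain ⟨b', d', he⟩ := h.mem_E2.1 (hkE (Y b) (h.mem_E2.2 ⟨b, 0, by rw [h.fr.Z_zero, mul_one]⟩))
  have h1 : X a * (k * Y b * k⁻¹) = (k * Y b * k⁻¹) * X a * Z (a * b) := by
    have e1 : k⁻¹ * X a = X a * k⁻¹ := by
      rw [inv_mul_eq_iff_eq_mul, ← mul_assoc, hkX]; group
    have e2 : k⁻¹ * Z (a * b) = Z (a * b) * k⁻¹ := by
      rw [inv_mul_eq_iff_eq_mul, ← mul_assoc, hkZ]; group
    calc X a * (k * Y b * k⁻¹) = (X a * k) * Y b * k⁻¹ := by group
      _ = k * (X a * Y b) * k⁻¹ := by rw [← hkX]; group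
      _ = k * (Y b * X a * Z (a * b)) * k⁻¹ := by rw [h.fr.X_Y]
      _ = k * Y b * (X a * (Z (a * b) * k⁻¹)) := by group
      _ = k * Y b * (X a * k⁻¹) * Z (a * b) := by rw [← e2]; group
      _ = _ := by rw [← e1]; group
  rw [he] at h1
  have h2 : X a * (Y b' * Z d') = Y b' * X a * Z (a * b' + d') := by
    rw [← mul_assoc, h.fr.X_Y, mul_assoc, ← h.fr.Z_add]
  have h3 : Y b' * Z d' * X a * Z (a * b) = Y b' * X a * Z (d' + a * b) := by
    calc Y b' * Z d' * X a * Z (a * b) = Y b' * (Z d' * X a) * Z (a * b) := by group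
      _ = Y b' * X a * (Z d' * Z (a * b)) := by rw [h.ZX]; group
      _ = _ := by rw [← h.fr.Z_add]
  rw [h2, h3] at h1
  have h4 := (h.inj3 h1).2.2
  have h5 : b' = b := by
    have key : ∀ a b b' d' : F4, a ≠ 0 → a * b' + d' = d' + a * b → b' = b := by decide
    exact key a b b' d' ha h4
  subst h5
  exact ⟨d', he⟩

end KOne

namespace MuOne

variable {G : Type*} [Group G] {A R B P L : Subgroup G} {ρ : G} {ε : F4} {X Y Z : F4 → G} {S : Sylow 2 G}

/-- Lemma B -/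
theorem act_pow [Finite G] (h : MuOne A R B P L ρ ε X Y Z S) {a : F4} (ha : a ≠ 0) {n : G}
    (hnX : n * X a = X a * n) (hnE : n ∈ normalizer ((h.Q 0 : Subgroup G) : Set G)) {m : ℕ} (hm : Odd m)
    (hnm : h.pi ⟨n, hnE⟩ ^ m = 1) : ∃ i : ℕ, ∀ x ∈ h.Q 0, n * x * n⁻¹ = ρ ^ i * x * (ρ ^ i)⁻¹ := by
  obtain ⟨k, hk, a1, ha1, hna⟩ := h.hKA ha n hnX
  have ha1X : a1 * X a = X a * a1 := (comm_of_C (h.XC a) ha1).symm
  have hkX : k * X a = X a * k := by
    have e : k = n * a1⁻¹ := by rw [hna]; group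
    have e1 : a1⁻¹ * X a = X a * a1⁻¹ := by rw [inv_mul_eq_iff_eq_mul, ← mul_assoc, ha1X]; group
    rw [e]
    calc n * a1⁻¹ * X a = n * (a1⁻¹ * X a) := by group
      _ = (n * X a) * a1⁻¹ := by rw [e1]; group
      _ = _ := by rw [hnX]; group
  have hkA : ∀ y ∈ A, k * y = y * k := fun y hy => comm_of_C hk hy
  have hconjE : ∀ x ∈ h.Q 0, n * x * n⁻¹ ∈ h.Q 0 := fun x hx => (mem_normalizer_iff.1 hnE x).1 hx
  -- `n` normalises `B`
  have hnZ : ∀ c, ∃ c', n * Z c * n⁻¹ = Z c' := by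
    intro c
    obtain ⟨b', c', he⟩ := h.mem_E2.1
      (hconjE (Z c) (h.mem_E2.2 ⟨0, c, by rw [h.fr.Y_zero, one_mul]⟩))
    have e1 : X a * (n * Z c * n⁻¹) = (n * Z c * n⁻¹) * X a := by
      have e2 : n⁻¹ * X a = X a * n⁻¹ := by rw [inv_mul_eq_iff_eq_mul, ← mul_assoc, hnX]; group
      calc X a * (n * Z c * n⁻¹) = (X a * n) * Z c * n⁻¹ := by group
        _ = n * (X a * Z c) * n⁻¹ := by rw [← hnX]; group
        _ = n * Z c * (X a * n⁻¹) := by rw [← h.ZX]; group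
        _ = _ := by rw [← e2]; group
    rw [he] at e1
    have h2 : X a * (Y b' * Z c') = Y b' * X a * Z (a * b' + c') := by
      rw [← mul_assoc, h.fr.X_Y, mul_assoc, ← h.fr.Z_add]
    have h3 : Y b' * Z c' * X a = Y b' * X a * Z c' := by rw [mul_assoc, h.ZX]; group
    rw [h2, h3] at e1
    have h4 := (h.inj3 e1).2.2
    have h5 : b' = 0 := by
      have key : ∀ a b' c' : F4, a ≠ 0 → a * b' + c' = c' → b' = 0 := by decide
      exact key a b' c' ha h4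
    subst h5
    exact ⟨c', by rw [he, h.fr.Y_zero, one_mul]⟩
  choose f hf using hnZ
  have hfadd : ∀ c d, f (c + d) = f c + f d := by
    intro c d
    apply h.fr.Z_inj
    rw [h.fr.Z_add, ← hf, ← hf, ← hf, h.fr.Z_add]; group
  have hfinj : ∀ c, f c = 0 → c = 0 := by
    intro c hc
    by_contra hne
    apply h.Z_ne hne
    have := hf c
    rw [hc, h.fr.Z_zero] at this
    calc Z c = n⁻¹ * (n * Z c * n⁻¹) * n := by group
      _ = 1 := by rw [this]; group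
  have hfit : ∀ j c, n ^ j * Z c * (n ^ j)⁻¹ = Z (f^[j] c) := by
    intro j
    induction j with
    | zero => intro c; simp
    | succ j ih =>
      intro c
      have e : n ^ (j + 1) * Z c * (n ^ (j + 1))⁻¹ = n ^ j * (n * Z c * n⁻¹) * (n ^ j)⁻¹ := by
        rw [pow_succ]; group
      rw [e, hf, ih, Function.iterate_succ_apply]
  have hfm : ∀ c, f^[m] c = c := by
    intro c
    apply h.fr.Z_inj
    rw [← hfit]
    have hZm : Z c ∈ h.Q 0 := h.mem_E2.2 ⟨0, c, by rw [h.fr.Y_zero, one_mul]⟩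
    have e := congrArg (fun φ : MulAut (h.Q 0) => ((φ ⟨Z c, hZm⟩ : h.Q 0) : G)) hnm
    simp only [← map_pow] at e
    rw [h.pi_apply] at e
    exact e
  obtain ⟨i, hi⟩ := additive_odd hfadd hfinj hm hfm
  have hi' : ∀ c, n * Z c * n⁻¹ = ρ ^ i * Z c * (ρ ^ i)⁻¹ := fun c => by rw [hf, hi, h.ρ_pow_Z]
  have ha1' : ∀ c, a1 * Z c * a1⁻¹ = ρ ^ i * Z c * (ρ ^ i)⁻¹ := by
    intro c
    rw [← hi', hna]
    have e := hkA _ (mul_mem (mul_mem ha1 (h.ZA c)) (inv_mem ha1))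
    calc a1 * Z c * a1⁻¹ = (a1 * Z c * a1⁻¹) * k * k⁻¹ := by group
      _ = _ := by rw [← e]; group
  -- `v = ρ^-i a1` is in `B`
  obtain ⟨v, hv, hv1⟩ : ∃ v ∈ B, a1 = ρ ^ i * v := by
    have hA1 : (ρ ^ i)⁻¹ * a1 ∈ A := mul_mem (inv_mem (pow_mem h.ρA i)) ha1
    obtain ⟨v, hv, hvC⟩ := h.CV ((ρ ^ i)⁻¹ * a1) (le_N hA1) (by
      intro y hy
      obtain ⟨c, rfl⟩ := h.fr.Z_surj y hy
      have e := ha1' c
      calc (ρ ^ i)⁻¹ * a1 * Z c = (ρ ^ i)⁻¹ * (a1 * Z c * a1⁻¹) * a1 := by group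
        _ = _ := by rw [e]; group)
    refine ⟨v⁻¹, inv_mem hv, ?_⟩
    have e := h.te.disj _ (mul_mem hA1 (h.B_le hv)) hvC
    have e2 : (ρ ^ i)⁻¹ * a1 = v⁻¹ := by rw [eq_inv_iff_mul_eq_one]; exact e
    rw [← e2]; group
  obtain ⟨c0, rfl⟩ := h.fr.Z_surj v hv
  have hZ0 : Z c0 ∈ h.Q 0 := h.mem_E2.2 ⟨0, c0, by rw [h.fr.Y_zero, one_mul]⟩
  -- `k` normalises `E2`
  have hρN : ρ ∈ normalizer ((h.Q 0 : Subgroup G) : Set G) := h.mem_nor fun x hx => h.ρ_E2 hx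
  have hZN : Z c0 ∈ normalizer ((h.Q 0 : Subgroup G) : Set G) := le_normalizer hZ0
  have hkn : k = n * (Z c0)⁻¹ * (ρ ^ i)⁻¹ := by rw [hna, hv1]; group
  have hkN : k ∈ normalizer ((h.Q 0 : Subgroup G) : Set G) := by
    rw [hkn]
    exact mul_mem (mul_mem hnE (inv_mem hZN)) (inv_mem (pow_mem hρN i))
  have hkE : ∀ x ∈ h.Q 0, k * x * k⁻¹ ∈ h.Q 0 := fun x hx => (mem_normalizer_iff.1 hkN x).1 hx
  have hkZ : ∀ c, k * Z c = Z c * k := fun c => hkA _ (h.ZA c)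
  have hkact := fun b => h.k_act ha hkX hkZ hkE b
  have hkk : h.pi ⟨k, hkN⟩ * h.pi ⟨k, hkN⟩ = 1 := by
    ext x
    obtain ⟨x, hx⟩ := x
    obtain ⟨b, c, rfl⟩ := h.mem_E2.1 hx
    obtain ⟨d, hd⟩ := hkact b
    rw [MulAut.mul_apply, h.pi_apply, h.pi_apply]
    change k * (k * (Y b * Z c) * k⁻¹) * k⁻¹ = Y b * Z c
    have e1 : ∀ c, k * Z c * k⁻¹ = Z c := fun c => by rw [hkZ]; group
    have e2 : k * (Y b * Z c) * k⁻¹ = Y b * Z d * Z c := by
      calc k * (Y b * Z c) * k⁻¹ = (k * Y b * k⁻¹) * (k * Z c * k⁻¹) := by group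
        _ = _ := by rw [hd, e1]
    rw [e2]
    calc k * (Y b * Z d * Z c) * k⁻¹ = (k * Y b * k⁻¹) * (k * Z d * k⁻¹) * (k * Z c * k⁻¹) := by group
      _ = Y b * (Z d * Z d) * Z c := by rw [hd, e1, e1]; group
      _ = _ := by rw [h.ZZ, mul_one]
  have hπn : h.pi ⟨n, hnE⟩ = h.pi ⟨k, hkN⟩ * h.pi ⟨ρ, hρN⟩ ^ i := by
    rw [← map_pow, ← map_mul]
    ext x
    rw [h.pi_apply, h.pi_apply]
    change n * (x : G) * n⁻¹ = (k * ρ ^ i) * x * (k * ρ ^ i)⁻¹
    have e := h.E2_comm hZ0 x.2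
    rw [hna, hv1]
    calc k * (ρ ^ i * Z c0) * (x : G) * (k * (ρ ^ i * Z c0))⁻¹
        = k * ρ ^ i * (Z c0 * x) * (Z c0)⁻¹ * (k * ρ ^ i)⁻¹ := by group
      _ = _ := by rw [e]; group
  have hcomm : h.pi ⟨k, hkN⟩ * h.pi ⟨ρ, hρN⟩ = h.pi ⟨ρ, hρN⟩ * h.pi ⟨k, hkN⟩ := by
    rw [← map_mul, ← map_mul]
    congr 1
    exact Subtype.ext (hkA ρ h.ρA)
  have hρ3 : h.pi ⟨ρ, hρN⟩ ^ 3 = 1 := by
    rw [← map_pow]
    ext x
    rw [h.pi_apply]
    change ρ ^ 3 * (x : G) * (ρ ^ 3)⁻¹ = x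
    have := h.dat.ρ3 x (h.Q_le 0 x.2)
    calc ρ ^ 3 * (x : G) * (ρ ^ 3)⁻¹ = ρ * (ρ * (ρ * x * ρ⁻¹) * ρ⁻¹) * ρ⁻¹ := by
          simp only [pow_succ, pow_zero, one_mul, mul_inv_rev, mul_assoc]
      _ = x := this
  have hk1 := eq_one_of_odd hπn hcomm hkk hρ3 hm hnm
  rw [hk1, one_mul, ← map_pow] at hπn
  refine ⟨i, fun x hx => ?_⟩
  have e := congrArg (fun φ : MulAut (h.Q 0) => ((φ ⟨x, hx⟩ : h.Q 0) : G)) hπn
  simp only [h.pi_apply] at e
  exact e

end MuOne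

end Cfsg.Agent.StdAlt.Five
end

-- part: StdAlt/Five/KillB1Gen
section
set_option linter.all false
open scoped Cfsg.Agent.FastGrp

/-!
# S1766, n = 5, `κ = 1`, `μ = 1`, `E2 = 2^4`: every element of `N_L(E2)` acts on `E2` as a power of `ρ`
-/

set_option autoImplicit false

namespace Cfsg.Agent.StdAlt.Five

open Subgroup Cfsg.Agent.StdAlt.Conj Cfsg.Agent.J2Sylow.Model

/-- conjugation by `u` on a subgroup normalised by `u` -/
def conjOn {M : Type*} [Group M] (K : Subgroup M) (u : M) (hu : ∀ x ∈ K, u * x * u⁻¹ ∈ K) : K →* K where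
  toFun x := ⟨u * x * u⁻¹, hu x x.2⟩
  map_one' := by ext; simp
  map_mul' := by
    intro x y
    ext
    change u * (x * y) * u⁻¹ = u * x * u⁻¹ * (u * y * u⁻¹)
    group

namespace MuOne

variable {G : Type*} [Group G] {A R B P L : Subgroup G} {ρ : G} {X Y Z : F4 → G} {S : Sylow 2 G}

theorem act [Finite G] (h : MuOne A R B P L ρ 0 X Y Z S) (hE2 : NE2 A 0 Y Z) {n : G} (hnL : n ∈ L)
    (hnN : n ∈ normalizer ((h.Q 0 : Subgroup G) : Set G)) :
    ∃ i : ℕ, ∀ x ∈ h.Q 0, n * x * n⁻¹ = ρ ^ i * x * (ρ ^ i)⁻¹ := by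
  classical
  haveI := h.nor
  haveI : Fact (Nat.Prime 2) := ⟨Nat.prime_two⟩
  have h32 := h.not_dvd_L (Or.inl rfl) hE2
  set N2 := normalizer ((h.Q 0 : Subgroup G) : Set G) with hN2
  set K : Subgroup (MulAut (h.Q 0)) := (L.subgroupOf N2).map h.pi with hK
  have mK : ∀ {x}, x ∈ K ↔ ∃ n : G, ∃ hn : n ∈ N2, n ∈ L ∧ h.pi ⟨n, hn⟩ = x := by
    intro x
    constructor
    · rintro ⟨⟨n, hn⟩, hnL, rfl⟩
      exact ⟨n, hn, hnL, rfl⟩
    · rintro ⟨n, hn, hnL, rfl⟩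
      exact ⟨⟨n, hn⟩, hnL, rfl⟩
  have hρN : ρ ∈ N2 := h.mem_nor fun x hx => h.ρ_E2 hx
  have hXN : ∀ a, X a ∈ N2 := fun a => h.mem_nor fun x hx => h.Xa_conj_E2 a hx
  -- the order of `K` is odd
  have hodd : Odd (Nat.card K) := by
    rw [← Nat.not_even_iff_odd, even_iff_two_dvd]
    intro h2
    set φ : ↥(L.subgroupOf N2) →* MulAut (h.Q 0) := h.pi.comp (L.subgroupOf N2).subtype with hφ
    have hr : φ.range = K := by
      rw [hφ, MonoidHom.range_comp, range_subtype]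
    have h1 : Nat.card φ.ker * Nat.card φ.range = Nat.card ↥(L.subgroupOf N2) := by
      rw [← card_mul_index φ.ker, index_ker]
    have h3 : 16 ∣ Nat.card φ.ker := by
      rw [← h.card_E2]
      have hE : ∀ x ∈ h.Q 0, x ∈ N2 := fun x hx => le_normalizer hx
      let ψ : h.Q 0 →* φ.ker :=
        { toFun := fun x => ⟨⟨⟨x, hE x x.2⟩, h.E2_le_L x.2⟩, by
            rw [MonoidHom.mem_ker]
            ext y
            change ((h.pi ⟨x, hE x x.2⟩ y : h.Q 0) : G) = y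
            rw [h.pi_apply]
            change (x : G) * y * (x : G)⁻¹ = y
            rw [h.E2_comm x.2 y.2]; group⟩
          map_one' := rfl
          map_mul' := fun _ _ => rfl }
      have hψ : Function.Injective ψ := by
        intro x y hxy
        have := congrArg (fun t : φ.ker => (((t : ↥(L.subgroupOf N2)) : N2) : G)) hxy
        exact Subtype.ext this
      rw [Nat.card_congr (MonoidHom.ofInjective hψ).toEquiv]
      exact card_subgroup_dvd_card _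
    have h4 : Nat.card ↥(L.subgroupOf N2) ∣ Nat.card L := by
      have e : Nat.card ↥(L.subgroupOf N2) = Nat.card ↥(L ⊓ N2) := by
        rw [← subgroupOf_map_subtype, card_map_of_injective N2.subtype_injective]
      rw [e]
      exact card_dvd_of_le inf_le_left
    apply h32
    refine dvd_trans ?_ h4
    rw [← h1, hr]
    exact Nat.mul_dvd_mul h3 h2
  -- conjugation by `X a`
  have hXK : ∀ a, ∀ x ∈ K, h.pi ⟨X a, hXN a⟩ * x * (h.pi ⟨X a, hXN a⟩)⁻¹ ∈ K := by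
    intro a x hx
    obtain ⟨n, hn, hnL, rfl⟩ := mK.1 hx
    refine mK.2 ⟨X a * n * (X a)⁻¹, mul_mem (mul_mem (hXN a) hn) (inv_mem (hXN a)),
      h.nor.conj_mem _ hnL _, ?_⟩
    rw [← map_inv, ← map_mul, ← map_mul]
    rfl
  have hXX : ∀ a, h.pi ⟨X a, hXN a⟩ * h.pi ⟨X a, hXN a⟩ = 1 := by
    intro a
    rw [← map_mul]
    have : (⟨X a, hXN a⟩ : N2) * ⟨X a, hXN a⟩ = 1 := Subtype.ext (h.XX a)
    rw [this, map_one]
  have hXadd : ∀ a a', h.pi ⟨X a, hXN a⟩ * h.pi ⟨X a', hXN a'⟩ = h.pi ⟨X (a + a'), hXN (a + a')⟩ := by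
    intro a a'
    rw [← map_mul]
    congr 1
    exact Subtype.ext (h.fr.X_add a a').symm
  -- the fixed points
  have hfix : ∀ a, a ≠ 0 → ∀ x ∈ K, h.pi ⟨X a, hXN a⟩ * x * (h.pi ⟨X a, hXN a⟩)⁻¹ = x →
      x ∈ zpowers (h.pi ⟨ρ, hρN⟩) := by
    intro a ha x hx hxf
    obtain ⟨n, hn, hnL, rfl⟩ := mK.1 hx
    have hc : h.pi (⟨X a, hXN a⟩⁻¹ * ⟨n, hn⟩⁻¹ * ⟨X a, hXN a⟩ * ⟨n, hn⟩) = 1 := by
      rw [map_mul, map_mul, map_mul, map_inv, map_inv]
      have e : h.pi ⟨X a, hXN a⟩ * h.pi ⟨n, hn⟩ = h.pi ⟨n, hn⟩ * h.pi ⟨X a, hXN a⟩ := by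
        rw [← mul_inv_eq_iff_eq_mul]; exact hxf
      rw [mul_assoc _ (h.pi ⟨X a, hXN a⟩), e]
      group
    obtain ⟨n1, hn1L, hn1X, hn1⟩ := h.exists_commuting h32 ha (h.X_not_mem (Or.inl rfl) hE2 ha) hnL (by
      intro y hy
      have e := congrArg (fun φ : MulAut (h.Q 0) => ((φ ⟨y, hy⟩ : h.Q 0) : G)) hc
      simp only [h.pi_apply] at e
      have e' : ((X a)⁻¹ * n⁻¹ * X a * n) * y * ((X a)⁻¹ * n⁻¹ * X a * n)⁻¹ = y := e
      rw [mul_inv_eq_iff_eq_mul] at e'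
      exact e')
    have hn1N : n1 ∈ N2 := h.mem_nor fun x hx => by
      rw [hn1 x hx]
      exact (mem_normalizer_iff.1 hn x).1 hx
    have hπ : h.pi ⟨n1, hn1N⟩ = h.pi ⟨n, hn⟩ := by
      ext x
      rw [h.pi_apply, h.pi_apply]
      exact hn1 x x.2
    have hpow : h.pi ⟨n1, hn1N⟩ ^ Nat.card K = 1 := by
      have hm : h.pi ⟨n1, hn1N⟩ ∈ K := by rw [hπ]; exact hx
      have := pow_card_eq_one' (x := (⟨_, hm⟩ : K))
      exact congrArg Subtype.val this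
    obtain ⟨i, hi⟩ := h.act_pow ha hn1X hn1N hodd hpow
    rw [← hπ]
    refine ⟨i, ?_⟩
    change h.pi ⟨ρ, hρN⟩ ^ (i : ℤ) = _
    rw [zpow_natCast, ← map_pow]
    ext x
    rw [h.pi_apply, h.pi_apply]
    exact (hi x x.2).symm
  -- generation
  have htop := Cfsg.Agent.PermutationGroups.OddKlein.eq_top_of_fixed_le hodd
    (conjOn K _ (hXK F4.e)) (conjOn K _ (hXK F4.w))
    (by
      rintro ⟨x, hx⟩
      apply Subtype.ext
      change h.pi ⟨X F4.e, hXN F4.e⟩ * (h.pi ⟨X F4.e, hXN F4.e⟩ * x * (h.pi ⟨X F4.e, hXN F4.e⟩)⁻¹) *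
        (h.pi ⟨X F4.e, hXN F4.e⟩)⁻¹ = x
      have e := hXX F4.e
      have e' : (h.pi ⟨X F4.e, hXN F4.e⟩)⁻¹ = h.pi ⟨X F4.e, hXN F4.e⟩ := inv_eq_of_mul_eq_one_right e
      rw [e']
      calc _ = (h.pi ⟨X F4.e, hXN F4.e⟩ * h.pi ⟨X F4.e, hXN F4.e⟩) * x *
            (h.pi ⟨X F4.e, hXN F4.e⟩ * h.pi ⟨X F4.e, hXN F4.e⟩) := by group
        _ = x := by rw [e]; group)
    (by
      rintro ⟨x, hx⟩
      apply Subtype.ext
      change h.pi ⟨X F4.w, hXN F4.w⟩ * (h.pi ⟨X F4.w, hXN F4.w⟩ * x * (h.pi ⟨X F4.w, hXN F4.w⟩)⁻¹) *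
        (h.pi ⟨X F4.w, hXN F4.w⟩)⁻¹ = x
      have e := hXX F4.w
      have e' : (h.pi ⟨X F4.w, hXN F4.w⟩)⁻¹ = h.pi ⟨X F4.w, hXN F4.w⟩ := inv_eq_of_mul_eq_one_right e
      rw [e']
      calc _ = (h.pi ⟨X F4.w, hXN F4.w⟩ * h.pi ⟨X F4.w, hXN F4.w⟩) * x *
            (h.pi ⟨X F4.w, hXN F4.w⟩ * h.pi ⟨X F4.w, hXN F4.w⟩) := by group
        _ = x := by rw [e]; group)
    (by
      rintro ⟨x, hx⟩
      apply Subtype.ext
      change h.pi ⟨X F4.e, hXN F4.e⟩ * (h.pi ⟨X F4.w, hXN F4.w⟩ * x * (h.pi ⟨X F4.w, hXN F4.w⟩)⁻¹) *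
        (h.pi ⟨X F4.e, hXN F4.e⟩)⁻¹ =
        h.pi ⟨X F4.w, hXN F4.w⟩ * (h.pi ⟨X F4.e, hXN F4.e⟩ * x * (h.pi ⟨X F4.e, hXN F4.e⟩)⁻¹) *
        (h.pi ⟨X F4.w, hXN F4.w⟩)⁻¹
      have e1 := hXadd F4.e F4.w
      have e2 := hXadd F4.w F4.e
      have e3 : h.pi ⟨X F4.e, hXN F4.e⟩ * h.pi ⟨X F4.w, hXN F4.w⟩ =
          h.pi ⟨X F4.w, hXN F4.w⟩ * h.pi ⟨X F4.e, hXN F4.e⟩ := by
        rw [e1, e2]; rfl
      calc _ = (h.pi ⟨X F4.e, hXN F4.e⟩ * h.pi ⟨X F4.w, hXN F4.w⟩) * x *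
            (h.pi ⟨X F4.e, hXN F4.e⟩ * h.pi ⟨X F4.w, hXN F4.w⟩)⁻¹ := by group
        _ = _ := by rw [e3]; group)
    ((zpowers (h.pi ⟨ρ, hρN⟩)).subgroupOf K)
    (by
      rintro ⟨x, hx⟩ hf
      exact hfix F4.e (by decide) x hx (congrArg Subtype.val hf))
    (by
      rintro ⟨x, hx⟩ hf
      exact hfix F4.w (by decide) x hx (congrArg Subtype.val hf))
    (by
      rintro ⟨x, hx⟩ hf
      refine hfix F4.u (by decide) x hx ?_
      have hf' := congrArg Subtype.val hf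
      change h.pi ⟨X F4.e, hXN F4.e⟩ * (h.pi ⟨X F4.w, hXN F4.w⟩ * x * (h.pi ⟨X F4.w, hXN F4.w⟩)⁻¹) *
        (h.pi ⟨X F4.e, hXN F4.e⟩)⁻¹ = x at hf'
      have e1 := hXadd F4.e F4.w
      have e2 : h.pi ⟨X (F4.e + F4.w), hXN (F4.e + F4.w)⟩ = h.pi ⟨X F4.u, hXN F4.u⟩ := rfl
      rw [← e2, ← e1]
      calc _ = h.pi ⟨X F4.e, hXN F4.e⟩ * (h.pi ⟨X F4.w, hXN F4.w⟩ * x * (h.pi ⟨X F4.w, hXN F4.w⟩)⁻¹) *
            (h.pi ⟨X F4.e, hXN F4.e⟩)⁻¹ := by group
        _ = x := hf')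
  have hx : h.pi ⟨n, hnN⟩ ∈ K := mK.2 ⟨n, hnN, hnL, rfl⟩
  have hz : (⟨_, hx⟩ : K) ∈ (zpowers (h.pi ⟨ρ, hρN⟩)).subgroupOf K := by rw [htop]; trivial
  rw [mem_subgroupOf, ← mem_powers_iff_mem_zpowers] at hz
  obtain ⟨i, hi⟩ := hz
  refine ⟨i, fun x hx => ?_⟩
  change h.pi ⟨ρ, hρN⟩ ^ i = h.pi ⟨n, hnN⟩ at hi
  rw [← map_pow] at hi
  have e := congrArg (fun φ : MulAut (h.Q 0) => ((φ ⟨x, hx⟩ : h.Q 0) : G)) hi
  simp only [h.pi_apply] at e
  exact e.symm

end MuOne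

end Cfsg.Agent.StdAlt.Five
end

-- part: StdAlt/Five/KillA4
section
set_option linter.all false
open scoped Cfsg.Agent.FastGrp

/-!
# S1766, `n = 5`, case A4: the Sylow 2-subgroup is of type `J₂` and there are two classes of involutions
-/

set_option autoImplicit false

namespace Cfsg.Agent.StdAlt.Five.Kill

open Subgroup Cfsg.Agent.StdAlt.Conj Cfsg.Agent.J2Sylow.Model Cfsg.Agent.J2Sylow.Model.F4
open Cfsg.Agent.StdAlt.Five Sec4 KillModel

variable {G : Type*} [Group G] [Finite G]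
variable {A R V P : Subgroup G} {ρ w : G} {X Y Z : F4 → G} {S : Sylow 2 G}

/-- the embedding of the model group -/
theorem setup_of (B : Base A R V P ρ 0 X Y Z) (sw : SwapSemi A P X Y Z w S) :
    Nonempty (Cfsg.Agent.J2Sylow.Setup G) := by
  have F := B.frame
  have hne : ∃ c, w * Z c * w ≠ Z c := by
    refine ⟨F4.w, ?_⟩
    rw [sw.conjZ]
    intro h
    have h3 : Y 0 * X 0 * Z (fr F4.w) = Y 0 * X 0 * Z F4.w := by rw [h]
    obtain ⟨-, -, h4⟩ := F.inj _ _ _ _ _ _ h3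
    exact absurd h4 (by decide)
  obtain ⟨φ, hφ, hr, -⟩ := Swap.exists_hom B.data F
    (τ := w) { sq := sw.sq
               tX := fun a => ⟨fr a, 0, by rw [sw.conjX, Z_zero B, mul_one]⟩
               tY := fun b => ⟨fr b, 0, by rw [sw.conjY, Z_zero B, mul_one]⟩
               tZ := fun c => ⟨fr c, sw.conjZ c⟩ } hne
  have hS : φ.range = (S : Subgroup G) := by
    ext x
    rw [hr, sw.mem]
  refine ⟨⟨φ, hφ, ?_⟩⟩
  rw [hS, Nat.odd_iff, ← Nat.two_dvd_ne_zero]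
  exact S.not_dvd_index

omit [Finite G] in
/-- `X 1` and `Z 1` are not conjugate -/
theorem not_one (B : Base A R V P ρ 0 X Y Z) :
    ¬ ∀ x y : G, orderOf x = 2 → orderOf y = 2 → IsConj x y := by
  intro h
  obtain ⟨g0, od⟩ := B.odd
  have F := B.frame
  apply nZ_of B 1
  apply h
  · apply orderOf_eq_prime
    · rw [pow_two]; exact od.sqR _ (F.X_mem 1)
    · intro h1
      have h3 : Y 0 * X 1 * Z 0 = Y 0 * X 0 * Z 0 := by rw [h1, X_zero B]
      obtain ⟨-, h4, -⟩ := F.inj _ _ _ _ _ _ h3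
      exact absurd h4 (by decide)
  · apply orderOf_eq_prime
    · rw [pow_two]; exact od.sqV _ (F.Z_mem 1)
    · intro h1
      have h3 : Y 0 * X 0 * Z 1 = Y 0 * X 0 * Z 0 := by rw [h1, Z_zero B]
      obtain ⟨-, -, h4⟩ := F.inj _ _ _ _ _ _ h3
      exact absurd h4 (by decide)

/-- **A4**, from the recognition theorem of `J₂` by a Sylow 2-subgroup -/
theorem a4 (B : Base A R V P ρ 0 X Y Z) (sw : SwapSemi A P X Y Z w S)
    (hJ : Cfsg.Agent.J2Sylow.Setup G → (¬ ∀ x y : G, orderOf x = 2 → orderOf y = 2 → IsConj x y) →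
      Cfsg.Spor.IsoJ2 G) : Cfsg.Spor.IsoJ2 G := by
  obtain ⟨h⟩ := setup_of B sw
  exact hJ h (not_one B)

end Cfsg.Agent.StdAlt.Five.Kill
end

-- part: StdAlt/Five/KillB1
section
set_option linter.all false
open scoped Cfsg.Agent.FastGrp

/-!
# S1766, n = 5, `κ = 1`, `μ = 1`, `E2 = 2^4` is impossible (B1)
-/

set_option autoImplicit false

namespace Cfsg.Agent.StdAlt.Five

open Subgroup Cfsg.Agent.StdAlt.Conj Cfsg.Agent.J2Sylow.Model

theorem KOne.ρ_pow_Y {G : Type*} [Group G] {A R B P L : Subgroup G} {ρ : G} {ε : F4} {X Y Z : F4 → G}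
    (h : KOne A R B P L ρ ε X Y Z) (i : ℕ) (b : F4) :
    ρ ^ i * Y b * (ρ ^ i)⁻¹ = Y (F4.w ^ i * b) := by
  induction i generalizing b with
  | zero => simp
  | succ i ih =>
    have e : ρ ^ (i + 1) * Y b * (ρ ^ (i + 1))⁻¹ = ρ ^ i * (ρ * Y b * ρ⁻¹) * (ρ ^ i)⁻¹ := by
      rw [pow_succ]; group
    rw [e, h.fr.ρY, ih, pow_succ, mul_assoc]

/-- the complement `{Y b}` of `B` in `E2` (`ε = 0`) -/
def KOne.YY {G : Type*} [Group G] {A R B P L : Subgroup G} {ρ : G} {X Y Z : F4 → G}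
    (h : KOne A R B P L ρ 0 X Y Z) : Subgroup G where
  carrier := {g | ∃ b, g = Y b}
  mul_mem' := by
    rintro g g' ⟨b, rfl⟩ ⟨b', rfl⟩
    refine ⟨b + b', ?_⟩
    rw [h.fr.Y_mul, zero_mul, h.fr.Z_zero, mul_one]
  one_mem' := ⟨0, h.fr.Y_zero.symm⟩
  inv_mem' := by
    rintro g ⟨b, rfl⟩
    refine ⟨b, ?_⟩
    refine inv_eq_of_mul_eq_one_right ?_
    rw [h.fr.Y_mul, zero_mul, h.fr.Z_zero, mul_one, F4.add_self, h.fr.Y_zero]

theorem oddCore_simple {G : Type*} [Group G] [Finite G] [IsSimpleGroup G]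
    (h2 : 2 ∣ Nat.card G) : Cfsg.oddCore G = ⊥ := by
  refine (sSup_eq_bot).2 ?_
  rintro N ⟨hN, hc⟩
  rcases hN.eq_bot_or_eq_top with h | h
  · exact h
  · exfalso
    subst h
    rw [Subgroup.card_top] at hc
    have := Nat.Coprime.eq_one_of_dvd (Nat.Coprime.symm hc) h2
    omega

/-- **B1** -/
theorem MuOne.false_of_elem {G : Type*} [Group G] [Finite G] {A R B P L : Subgroup G} {ρ : G}
    {X Y Z : F4 → G} {S : Sylow 2 G} (h : MuOne A R B P L ρ 0 X Y Z S) (hE2 : NE2 A 0 Y Z) : False := by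
  classical
  haveI : Fact (Nat.Prime 2) := ⟨Nat.prime_two⟩
  haveI := h.simple
  obtain ⟨T, hT⟩ := h.exists_sylow (Or.inl rfl) hE2
  have mT : ∀ {x : L}, x ∈ (T : Subgroup L) ↔ (x : G) ∈ h.Q 0 := by
    intro x; rw [hT, mem_subgroupOf]
  haveI : IsMulCommutative (T : Subgroup L) := ⟨⟨fun x y => by
    apply Subtype.ext; apply Subtype.ext
    exact h.E2_comm (mT.1 x.2) (mT.1 y.2)⟩⟩
  -- fusion
  have fus : ∀ x ∈ (T : Subgroup L), ∀ g : L, g * x * g⁻¹ ∈ (T : Subgroup L) →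
      ∃ i : ℕ, ((g * x * g⁻¹ : L) : G) = ρ ^ i * x * (ρ ^ i)⁻¹ := by
    intro x hx g hg
    obtain ⟨n, hn, he⟩ := Sylow.conj_eq_normalizer_conj_of_mem T x g⁻¹ hx (by rwa [inv_inv])
    rw [inv_inv] at he
    have hn' : (n⁻¹ : L) ∈ normalizer ((T : Subgroup L) : Set L) := inv_mem hn
    have hnN : ((n⁻¹ : L) : G) ∈ normalizer ((h.Q 0 : Subgroup G) : Set G) := by
      refine h.mem_nor fun y hy => ?_
      have hyT : (⟨y, h.E2_le_L hy⟩ : L) ∈ (T : Subgroup L) := mT.2 hy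
      exact mT.1 ((mem_normalizer_iff.1 hn' _).1 hyT)
    obtain ⟨i, hi⟩ := h.act hE2 (n⁻¹ : L).2 hnN
    refine ⟨i, ?_⟩
    rw [he, ← hi x (mT.1 hx)]
    change (n : G)⁻¹ * x * n = (n : G)⁻¹ * x * ((n : G)⁻¹)⁻¹
    rw [inv_inv]
  have hYe : ∀ b, Y b ∈ h.Q 0 := fun b => h.mem_E2.2 ⟨b, 0, by rw [h.fr.Z_zero, mul_one]⟩
  have hZe : ∀ c, Z c ∈ h.Q 0 := fun c => h.mem_E2.2 ⟨0, c, by rw [h.fr.Y_zero, one_mul]⟩
  have hcB : Cfsg.IsStronglyClosed (B.subgroupOf L) (T : Subgroup L) := by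
    constructor
    · intro x hx
      obtain ⟨c, hc⟩ := h.fr.Z_surj _ (mem_subgroupOf.1 hx)
      rw [mT, ← hc]
      exact hZe c
    · intro x hx g hg
      obtain ⟨c, hc⟩ := h.fr.Z_surj _ (mem_subgroupOf.1 hx)
      have hxT : x ∈ (T : Subgroup L) := by rw [mT, ← hc]; exact hZe c
      obtain ⟨i, hi⟩ := fus x hxT g hg
      rw [mem_subgroupOf, hi, ← hc, h.ρ_pow_Z]
      exact h.fr.Z_mem _
  have hcY : Cfsg.IsStronglyClosed (h.YY.subgroupOf L) (T : Subgroup L) := by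
    constructor
    · intro x hx
      obtain ⟨b, hb⟩ := mem_subgroupOf.1 hx
      rw [mT, hb]
      exact hYe b
    · intro x hx g hg
      obtain ⟨b, hb⟩ := mem_subgroupOf.1 hx
      have hxT : x ∈ (T : Subgroup L) := by rw [mT, hb]; exact hYe b
      obtain ⟨i, hi⟩ := fus x hxT g hg
      rw [mem_subgroupOf, hi, hb, h.ρ_pow_Y]
      exact ⟨_, rfl⟩
  have hinf : B.subgroupOf L ⊓ h.YY.subgroupOf L = ⊥ := by
    rw [eq_bot_iff]
    rintro x ⟨hx1, hx2⟩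
    obtain ⟨c, hc⟩ := h.fr.Z_surj _ (mem_subgroupOf.1 hx1)
    obtain ⟨b, hb⟩ := mem_subgroupOf.1 hx2
    have h1 : Y 0 * Z c = Y b * Z 0 := by rw [h.fr.Y_zero, h.fr.Z_zero, one_mul, mul_one, hc, hb]
    have h2 := h.inj2 h1
    rw [mem_bot]
    apply Subtype.ext
    change (x : G) = 1
    rw [← hc, h2.2, h.fr.Z_zero]
  have hmain := Cfsg.Agent.TwoFusion.ClosedCommutator.commutator_le T _ _ hinf hcB hcY
  have h2 : 2 ∣ Nat.card L := by
    have : 4 ∣ Nat.card L := by rw [← h.dat.cardB]; exact card_dvd_of_le (h.B_le.trans h.A_le)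
    exact ((by norm_num : (2 : ℕ) ∣ 4).trans this)
  rw [oddCore_simple h2] at hmain
  have hB1 : normalClosure ((B.subgroupOf L : Subgroup L) : Set L) = ⊤ := by
    rcases (normalClosure_normal (s := ((B.subgroupOf L : Subgroup L) : Set L))).eq_bot_or_eq_top with hb | ht
    · exfalso
      have h3 : (⟨Z F4.e, h.ZL _⟩ : L) ∈ normalClosure ((B.subgroupOf L : Subgroup L) : Set L) :=
        subset_normalClosure (mem_subgroupOf.2 (h.fr.Z_mem _))
      rw [hb, mem_bot] at h3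
      exact h.Z_ne (by decide) (congrArg Subtype.val h3)
    · exact ht
  have hY1 : normalClosure ((h.YY.subgroupOf L : Subgroup L) : Set L) = ⊤ := by
    rcases (normalClosure_normal (s := ((h.YY.subgroupOf L : Subgroup L) : Set L))).eq_bot_or_eq_top with hb | ht
    · exfalso
      have h3 : (⟨Y F4.e, h.YL _⟩ : L) ∈ normalClosure ((h.YY.subgroupOf L : Subgroup L) : Set L) :=
        subset_normalClosure (mem_subgroupOf.2 ⟨_, rfl⟩)
      rw [hb, mem_bot] at h3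
      have h4 : Y F4.e * Z 0 = Y 0 * Z 0 := by
        rw [h.fr.Y_zero, h.fr.Z_zero, mul_one, one_mul]; exact congrArg Subtype.val h3
      exact absurd (h.inj2 h4).1 (by decide)
    · exact ht
  rw [hB1, hY1, le_bot_iff, commutator_eq_bot_iff_le_centralizer] at hmain
  have h5 : (⟨ρ, h.A_le h.ρA⟩ : L) * ⟨Z F4.e, h.ZL _⟩ = ⟨Z F4.e, h.ZL _⟩ * ⟨ρ, h.A_le h.ρA⟩ :=
    ((mem_centralizer_iff.1 (hmain (mem_top (⟨ρ, h.A_le h.ρA⟩ : L)))) _ (mem_top _)).symm
  have h6 : ρ * Z F4.e = Z F4.e * ρ := congrArg Subtype.val h5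
  have h7 := h.fr.ρZ F4.e
  rw [h6, mul_inv_cancel_right] at h7
  exact absurd (h.fr.Z_inj h7) (by decide)

end Cfsg.Agent.StdAlt.Five
end

-- part: StdAlt/Five/KillModelS
section
set_option linter.all false
open scoped Cfsg.Agent.FastGrp

/-!
# The group `UT₃(4) : ⟨s⟩` (order 128), `s` the field automorphism, and homomorphisms from it
-/

set_option autoImplicit false

namespace Cfsg.Agent.StdAlt.Five.KillModel

open Cfsg.Agent.J2Sylow.Model Cfsg.Agent.J2Sylow.Model.F4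

/-- the element `y(b) x(a) z(c) s^j` -/
@[ext] structure M : Type where
  a : F4
  b : F4
  c : F4
  j : Bool
  deriving DecidableEq

namespace M

/-- product -/
def mul (x y : M) : M :=
  match x.j with
  | false => ⟨x.a + y.a, x.b + y.b, x.c + y.c + x.a * y.b, y.j⟩
  | true => ⟨x.a + fr y.a, x.b + fr y.b, x.c + fr y.c + x.a * fr y.b, !y.j⟩

/-- inverse -/
def inv (x : M) : M :=
  match x.j with
  | false => ⟨x.a, x.b, x.c + x.a * x.b, false⟩
  | true => ⟨fr x.a, fr x.b, fr x.c + fr x.a * fr x.b, true⟩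

/-- identity -/
def one : M := ⟨o, o, o, false⟩

instance : Mul M := ⟨mul⟩
instance : Inv M := ⟨inv⟩
instance : One M := ⟨one⟩

instance decForall (p : M → Prop) [DecidablePred p] : Decidable (∀ x, p x) :=
  decidable_of_iff (∀ a b c : F4, p ⟨a, b, c, false⟩ ∧ p ⟨a, b, c, true⟩)
    ⟨fun h x => by
      obtain ⟨a, b, c, s⟩ := x
      cases s
      · exact (h a b c).1
      · exact (h a b c).2, fun h a b c => ⟨h _, h _⟩⟩

instance decExists (p : M → Prop) [DecidablePred p] : Decidable (∃ x, p x) :=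
  decidable_of_iff (∃ a b c : F4, p ⟨a, b, c, false⟩ ∨ p ⟨a, b, c, true⟩)
    ⟨fun ⟨a, b, c, h⟩ => by rcases h with h | h <;> exact ⟨_, h⟩,
     fun ⟨⟨a, b, c, s⟩, h⟩ => ⟨a, b, c, by cases s <;> simp_all⟩⟩

theorem mul_false (xa xb xc : F4) (y : M) :
    (⟨xa, xb, xc, false⟩ : M) * y = ⟨xa + y.a, xb + y.b, xc + y.c + xa * y.b, y.j⟩ := rfl

theorem mul_true (xa xb xc : F4) (y : M) :
    (⟨xa, xb, xc, true⟩ : M) * y = ⟨xa + fr y.a, xb + fr y.b, xc + fr y.c + xa * fr y.b, !y.j⟩ := rfl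

theorem inv_mul_cancel' : ∀ x : M, x⁻¹ * x = 1 := by decide +kernel

theorem one_mul' : ∀ x : M, 1 * x = x := by decide +kernel

theorem mul_one' : ∀ x : M, x * 1 = x := by decide +kernel

protected theorem mul_assoc (x y z : M) : x * y * z = x * (y * z) := by
  obtain ⟨xa, xb, xc, xs⟩ := x
  obtain ⟨ya, yb, yc, ys⟩ := y
  obtain ⟨za, zb, zc, zs⟩ := z
  cases xs <;> cases ys <;> simp only [mul_false, mul_true, M.mk.injEq, fr_add, fr_mul, fr_fr,
    Bool.not_not, and_true, Bool.not_true, Bool.not_false] <;> refine ⟨?_, ?_, ?_⟩ <;> ring1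

instance : Group M where
  mul_assoc := M.mul_assoc
  one_mul := one_mul'
  mul_one := mul_one'
  inv_mul_cancel := inv_mul_cancel'

/-- listing -/
def equivProd : M ≃ F4 × F4 × F4 × Bool where
  toFun x := (x.a, x.b, x.c, x.j)
  invFun y := ⟨y.1, y.2.1, y.2.2.1, y.2.2.2⟩
  left_inv _ := rfl
  right_inv _ := rfl

instance : Fintype M := Fintype.ofEquiv _ equivProd.symm

/-- the field automorphism -/
def s : M := ⟨0, 0, 0, true⟩

/-- `Z 1` -/
def z : M := ⟨0, 0, 1, false⟩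

/-- `E⟨s⟩` -/
def IsE (x : M) : Bool := decide (x.b = 0)

/-- the centralizer of `t` -/
def cS (t : M) : Finset M := Finset.univ.filter (fun x : M => x * t = t * x)

/-- the centralizer of `t` in `E⟨s⟩` -/
def eS (t : M) : Finset M := Finset.univ.filter (fun x : M => IsE x = true ∧ x * t = t * x)

theorem mem_cS {t x : M} : x ∈ cS t ↔ x * t = t * x := by simp [cS]

theorem mem_eS {t x : M} : x ∈ eS t ↔ IsE x = true ∧ x * t = t * x := by simp [eS]

theorem z_central : ∀ x : M, x * z = z * x := by decide +kernel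

set_option maxRecDepth 100000 in
theorem card_ge : ∀ t : M, t * t = 1 → 16 ≤ (cS t).card := by
  decide +kernel

set_option maxRecDepth 100000 in
theorem card_E : ∀ t : M, IsE t = true → t.j = true → (eS t).card ≤ 8 := by
  decide +kernel

theorem conj_s : ∀ t : M, t * t = 1 → t.j = true → ∃ a b c : F4,
    (⟨a, b, c, false⟩ : M) * t * (⟨a, b, c, false⟩ : M)⁻¹ = s := by
  decide +kernel

theorem card_univ : Nat.card M = 128 := by
  rw [Nat.card_eq_fintype_card]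
  decide +kernel

theorem card_EM : (Finset.univ.filter (fun x : M => IsE x = true)).card = 32 := by decide +kernel

attribute [irreducible] cS eS

theorem pgroup : IsPGroup 2 M := IsPGroup.of_card (n := 7) (by rw [card_univ]; norm_num)

end M

end Cfsg.Agent.StdAlt.Five.KillModel

private theorem dce_21fbf9f28f8d : _root_.True := by
  try have : _root_.True := by simp only [_root_.Cfsg.Agent.StdAlt.Five.KillModel.M.cS.eq_1]
  try have : _root_.True := by simp only [_root_.Cfsg.Agent.StdAlt.Five.KillModel.M.eS.eq_1]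
  exact _root_.True.intro
end

-- part: StdAlt/Five/KillA2
section
prune_inst 0xe010460010221000001800002000200010000002004300010100030202000001204506013860220001108060200a806003180009400800002000820040040000042246408248b10801000040e000000000000000000000000000000000000000000000000
set_option linter.all false
open scoped Cfsg.Agent.FastGrp

/-!
# S1766, `n = 5`, kill A2: `S = P⟨s⟩` of order 128
-/

set_option autoImplicit false

namespace Cfsg.Agent.StdAlt.Five.Kill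

open Subgroup Cfsg.Agent.StdAlt.Conj Cfsg.Agent.J2Sylow.Model Cfsg.Agent.J2Sylow.Model.F4
open Cfsg.Agent.StdAlt.Five Sec4 KillModel

variable {G : Type*} [Group G]

/-- `UT₃(4)` with the field automorphism -/
structure FieldP (X Y Z : F4 → G) (s : G) : Prop where
  XX : ∀ a b, X a * X b = X (a + b)
  YY : ∀ a b, Y a * Y b = Y (a + b)
  ZZ : ∀ a b, Z a * Z b = Z (a + b)
  XY : ∀ a b, X a * Y b = Y b * (X a * Z (a * b))
  ZX : ∀ a b, Z a * X b = X b * Z a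
  ZY : ∀ a b, Z a * Y b = Y b * Z a
  sX : ∀ a, s * X a = X (fr a) * s
  sY : ∀ a, s * Y a = Y (fr a) * s
  sZ : ∀ a, s * Z a = Z (fr a) * s
  ss : s * s = 1
  inj : ∀ a b c, Y b * (X a * Z c) = 1 → a = 0 ∧ b = 0 ∧ c = 0
  out : ∀ a b c, Y b * (X a * Z c) ≠ s

/-- normal form -/
def mFun (X Y Z : F4 → G) (s : G) (x : M) : G :=
  Y x.b * (X x.a * (Z x.c * (if x.j then s else 1)))

theorem maux_true : ∀ a b' c c' : F4, a * b' + (c + c') = c + c' + a * b' := by decide +kernel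

theorem mFun_mul {X Y Z : F4 → G} {s : G} (h : FieldP X Y Z s) (x y : M) :
    mFun X Y Z s (x * y) = mFun X Y Z s x * mFun X Y Z s y := by
  have hXX : ∀ a b (r : G), X a * (X b * r) = X (a + b) * r := fun a b r => by
    rw [← mul_assoc, h.XX]
  have hYY : ∀ a b (r : G), Y a * (Y b * r) = Y (a + b) * r := fun a b r => by
    rw [← mul_assoc, h.YY]
  have hZZ : ∀ a b (r : G), Z a * (Z b * r) = Z (a + b) * r := fun a b r => by
    rw [← mul_assoc, h.ZZ]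
  have hXY : ∀ a b (r : G), X a * (Y b * r) = Y b * (X a * (Z (a * b) * r)) := fun a b r => by
    rw [← mul_assoc, h.XY]; simp only [mul_assoc]
  have hZX : ∀ a b (r : G), Z a * (X b * r) = X b * (Z a * r) := fun a b r => by
    rw [← mul_assoc, h.ZX, mul_assoc]
  have hZY : ∀ a b (r : G), Z a * (Y b * r) = Y b * (Z a * r) := fun a b r => by
    rw [← mul_assoc, h.ZY, mul_assoc]
  have hTX : ∀ a (r : G), s * (X a * r) = X (fr a) * (s * r) := fun a r => by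
    rw [← mul_assoc, h.sX, mul_assoc]
  have hTY : ∀ a (r : G), s * (Y a * r) = Y (fr a) * (s * r) := fun a r => by
    rw [← mul_assoc, h.sY, mul_assoc]
  have hTZ : ∀ a (r : G), s * (Z a * r) = Z (fr a) * (s * r) := fun a r => by
    rw [← mul_assoc, h.sZ, mul_assoc]
  obtain ⟨a, b, c, i⟩ := x
  obtain ⟨a', b', c', i'⟩ := y
  cases i
  · rw [M.mul_false]
    simp only [mFun, mul_assoc, Bool.false_eq_true, if_false, one_mul, hZY, hZX, hXY, hYY, hXX,
      hZZ, maux_true]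
  · rw [M.mul_true]
    have hS : s * (if i' = true then s else 1) = if (!i') = true then s else 1 := by
      cases i' <;> simp [h.ss]
    simp only [mFun, mul_assoc, if_true, hTX, hTY, hTZ, hS, hZY, hZX, hXY, hYY, hXX, hZZ,
      maux_true]

namespace FieldP

variable {X Y Z : F4 → G} {s : G}

/-- the homomorphism given by the relations -/
def hom (h : FieldP X Y Z s) : M →* G := MonoidHom.mk' (mFun X Y Z s) (mFun_mul h)

theorem hom_apply (h : FieldP X Y Z s) (x : M) :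
    h.hom x = Y x.b * (X x.a * (Z x.c * (if x.j then s else 1))) := rfl

theorem X0 (h : FieldP X Y Z s) : X 0 = 1 := by
  have := h.XX 0 0
  rw [add_zero] at this
  exact mul_eq_left.mp this

theorem Y0 (h : FieldP X Y Z s) : Y 0 = 1 := by
  have := h.YY 0 0
  rw [add_zero] at this
  exact mul_eq_left.mp this

theorem Z0 (h : FieldP X Y Z s) : Z 0 = 1 := by
  have := h.ZZ 0 0
  rw [add_zero] at this
  exact mul_eq_left.mp this

theorem hom_X (h : FieldP X Y Z s) (a : F4) : h.hom ⟨a, 0, 0, false⟩ = X a := by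
  simp [hom_apply, h.Y0, h.Z0]

theorem hom_Z (h : FieldP X Y Z s) (a : F4) : h.hom ⟨0, 0, a, false⟩ = Z a := by
  simp [hom_apply, h.X0, h.Y0]

theorem hom_s (h : FieldP X Y Z s) : h.hom M.s = s := by
  simp [hom_apply, h.X0, h.Y0, h.Z0, M.s]

theorem hom_inj (h : FieldP X Y Z s) : Function.Injective h.hom := by
  rw [injective_iff_map_eq_one]
  rintro ⟨a, b, c, i⟩ hx
  rw [hom_apply] at hx
  cases i
  · simp only [Bool.false_eq_true, if_false, mul_one] at hx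
    obtain ⟨rfl, rfl, rfl⟩ := h.inj a b c hx
    rfl
  · exfalso
    simp only [if_true] at hx
    have h1 : Y b * (X a * Z c) = s := by
      have h2 : Y b * (X a * Z c) * s = 1 := by
        rw [← hx]; simp only [mul_assoc]
      calc Y b * (X a * Z c) = Y b * (X a * Z c) * (s * s) := by rw [h.ss, mul_one]
        _ = (Y b * (X a * Z c) * s) * s := by simp only [mul_assoc]
        _ = s := by rw [h2, one_mul]
    exact h.out a b c h1

theorem sq_lift (h : FieldP X Y Z s) {ξ : M} : h.hom ξ * h.hom ξ = 1 ↔ ξ * ξ = 1 := by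
  rw [← map_mul]
  constructor
  · intro hx; apply h.hom_inj; rw [hx, map_one]
  · intro hx; rw [hx, map_one]

/-- `s` is not conjugate to `Z 1` -/
theorem s_nZ [Finite G] (h : FieldP X Y Z s) (S : Sylow 2 G)
    (hS : ∀ g, g ∈ (S : Subgroup G) ↔ ∃ x, h.hom x = g)
    (cent' : ∀ Q : Subgroup G, IsPGroup 2 Q → (∀ q ∈ Q, q * X 1 = X 1 * q) →
      ∃ k : G, k * X 1 = X 1 * k ∧ ∀ q ∈ Q, ∃ x : M, M.IsE x = true ∧ h.hom x = k * q * k⁻¹)
    (out : ∀ k : G, k * X 1 = X 1 * k → ∀ a c, k * s * k⁻¹ ≠ X a * Z c) : ¬ IsConj s (Z 1) := by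
  intro hc1
  rw [isConj_iff] at hc1
  obtain ⟨g, hg⟩ := hc1
  have hXs : X 1 * s = s * X 1 := by rw [h.sX]; rfl
  have hX2 : X 1 * X 1 = 1 := by rw [h.XX, F4.add_self, h.X0]
  have hSZ : ∀ x : M, h.hom x * Z 1 = Z 1 * h.hom x := by
    intro x
    have h1 := congrArg h.hom (M.z_central x)
    rw [map_mul, map_mul] at h1
    change h.hom x * h.hom ⟨0, 0, 1, false⟩ = h.hom ⟨0, 0, 1, false⟩ * h.hom x at h1
    rwa [h.hom_Z] at h1
  -- move `g X1 g⁻¹` into `S`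
  have hgp : IsPGroup 2 (Subgroup.zpowers (g * X 1 * g⁻¹)) := by
    have hk2 : (g * X 1 * g⁻¹) ^ 2 ^ 1 = 1 := by
      rw [pow_one, pow_two]
      calc g * X 1 * g⁻¹ * (g * X 1 * g⁻¹) = g * (X 1 * X 1) * g⁻¹ := by group
        _ = 1 := by rw [hX2]; group
    rintro ⟨z, hz⟩
    obtain ⟨i, rfl⟩ := Subgroup.mem_zpowers_iff.mp hz
    refine ⟨1, ?_⟩
    apply Subtype.ext
    change ((g * X 1 * g⁻¹) ^ i) ^ 2 ^ 1 = 1
    rw [← zpow_natCast, ← zpow_mul, mul_comm, zpow_mul, zpow_natCast, hk2, one_zpow]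
  obtain ⟨k, hk, hkS⟩ := conj_into S (H := Subgroup.centralizer {Z 1}) (by
      intro t ht
      obtain ⟨x, rfl⟩ := (hS _).mp ht
      rw [Subgroup.mem_centralizer_singleton_iff]
      exact hSZ x) hgp (by
      rw [Subgroup.zpowers_le, Subgroup.mem_centralizer_singleton_iff, ← hg]
      calc g * X 1 * g⁻¹ * (g * s * g⁻¹) = g * (X 1 * s) * g⁻¹ := by group
        _ = g * (s * X 1) * g⁻¹ := by rw [hXs]
        _ = _ := by group)
  rw [Subgroup.mem_centralizer_singleton_iff] at hk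
  set g1 := k * g with hg1
  have hg1s : g1 * s * g1⁻¹ = Z 1 := by
    calc g1 * s * g1⁻¹ = k * (g * s * g⁻¹) * k⁻¹ := by rw [hg1]; group
      _ = Z 1 := by rw [hg, hk]; group
  obtain ⟨τ, hτ⟩ := (hS _).mp (hkS _ (Subgroup.mem_zpowers _))
  have hτ' : h.hom τ = g1 * X 1 * g1⁻¹ := by rw [hτ, hg1]; group
  have hττ : τ * τ = 1 := by
    rw [← h.sq_lift, hτ']
    calc g1 * X 1 * g1⁻¹ * (g1 * X 1 * g1⁻¹) = g1 * (X 1 * X 1) * g1⁻¹ := by group
      _ = 1 := by rw [hX2]; group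
  have hmem : ∀ x : M, x ∈ Subgroup.centralizer {τ} ↔ x * τ = τ * x := fun x =>
    Subgroup.mem_centralizer_singleton_iff
  set Q : Subgroup G := (Subgroup.centralizer {τ} : Subgroup M).map
    ((MulAut.conj g1⁻¹).toMonoidHom.comp h.hom) with hQ
  have hQmem : ∀ q, q ∈ Q ↔ ∃ x ∈ (Subgroup.centralizer {τ} : Subgroup M),
    g1⁻¹ * h.hom x * g1⁻¹⁻¹ = q := fun q => Iff.rfl
  have hQp : IsPGroup 2 Q := (M.pgroup.to_subgroup _).map _
  obtain ⟨k', hk', hkQ'⟩ := cent' Q hQp (by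
    intro q hq
    obtain ⟨x, hx, rfl⟩ := (hQmem q).mp hq
    have h1 := congrArg h.hom ((hmem x).mp hx)
    rw [map_mul, map_mul, hτ'] at h1
    calc g1⁻¹ * h.hom x * g1⁻¹⁻¹ * X 1 = g1⁻¹ * (h.hom x * (g1 * X 1 * g1⁻¹)) * g1 := by
          group
      _ = g1⁻¹ * ((g1 * X 1 * g1⁻¹) * h.hom x) * g1 := by rw [h1]
      _ = _ := by group)
  have hsQ : s ∈ Q := by
    rw [hQmem]
    refine ⟨⟨0, 0, 1, false⟩, ?_, ?_⟩
    · rw [hmem]; exact (M.z_central τ).symm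
    · rw [h.hom_Z, ← hg1s]; group
  obtain ⟨e, he, he2⟩ := hkQ' s hsQ
  have hej : e.j = true := by
    by_contra hne
    have h1 : e.j = false := by simpa using hne
    obtain ⟨a, b, c', j⟩ := e
    change j = false at h1
    subst h1
    have h2 : decide (b = 0) = true := he
    rw [decide_eq_true_eq] at h2
    subst h2
    apply out k' hk' a c'
    rw [← he2, h.hom_apply, h.Y0]; simp
  have hQs : ∀ q ∈ Q, q * s = s * q := by
    intro q hq
    obtain ⟨x, hx, rfl⟩ := (hQmem q).mp hq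
    have h1 := hSZ x
    rw [← hg1s] at h1
    calc g1⁻¹ * h.hom x * g1⁻¹⁻¹ * s = g1⁻¹ * (h.hom x * (g1 * s * g1⁻¹)) * g1 := by
          group
      _ = g1⁻¹ * ((g1 * s * g1⁻¹) * h.hom x) * g1 := by rw [h1]
      _ = _ := by group
  have hQ16 : 16 ≤ Nat.card Q := by
    rw [hQ, Subgroup.card_map_of_injective]
    · rw [Nat.card_congr (show (Subgroup.centralizer {τ} : Subgroup M) ≃ {x : M // x ∈ M.cS τ} from
        Equiv.subtypeEquivRight (fun x => (hmem x).trans M.mem_cS.symm)), Nat.card_eq_fintype_card,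
        Fintype.card_coe]
      exact M.card_ge τ hττ
    · exact (MulAut.conj g1⁻¹).injective.comp h.hom_inj
  choose f hfE hf using fun q : Q => hkQ' q q.2
  have hfm : ∀ q, f q ∈ M.eS e := by
    intro q
    rw [M.mem_eS]
    refine ⟨hfE q, ?_⟩
    apply h.hom_inj
    rw [map_mul, map_mul, hf, he2]
    have h1 := hQs q q.2
    calc k' * q * k'⁻¹ * (k' * s * k'⁻¹) = k' * (q * s) * k'⁻¹ := by group
      _ = k' * (s * q) * k'⁻¹ := by rw [h1]
      _ = _ := by group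
  have hinj : Function.Injective (fun q : Q => (⟨f q, hfm q⟩ : {x // x ∈ M.eS e})) := by
    intro r r' hrr
    have h1 : f r = f r' := congrArg Subtype.val hrr
    have h2 : k' * (r : G) * k'⁻¹ = k' * (r' : G) * k'⁻¹ := by rw [← hf, ← hf, h1]
    apply Subtype.ext
    exact mul_left_cancel (mul_right_cancel h2)
  have hle := Nat.card_le_card_of_injective _ hinj
  have h16 : Nat.card {x // x ∈ M.eS e} = (M.eS e).card := by
    rw [Nat.card_eq_fintype_card, Fintype.card_coe]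
  rw [h16] at hle
  have := M.card_E e he hej
  omega

end FieldP

variable {A R V P : Subgroup G} {ρ ρ₀ w s : G} {X Y Z : F4 → G} {S : Sylow 2 G}

theorem fieldP_of (B : Base A R V P ρ 0 X Y Z) (m : Mu2 A ρ X Y Z s) : FieldP X Y Z s := by
  have F := B.frame
  have D := B.data
  have hs := m.sq
  have hc : ∀ x ∈ P, ∀ c, Z c * x = x * Z c := fun x hx c => (D.cent x hx _ (F.Z_mem c)).symm
  refine
    { XX := fun a b => (F.X_add a b).symm
      YY := YY B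
      ZZ := fun a b => (F.Z_add a b).symm
      XY := fun a b => by rw [F.X_Y, mul_assoc]
      ZX := fun a b => hc _ (D.R_le (F.X_mem b)) a
      ZY := fun a b => hc _ (F.Y_mem b) a
      sX := fun a => by rw [← m.conjX, mul_assoc, hs, mul_one]
      sY := fun a => by rw [← m.conjY, mul_assoc, hs, mul_one]
      sZ := fun a => by rw [← m.conjZ, mul_assoc, hs, mul_one]
      ss := hs
      inj := ?_
      out := ?_ }
  · intro a b c h
    have h1 : Y b * X a * Z c = Y 0 * X 0 * Z 0 := by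
      rw [Y_zero B, X_zero B, Z_zero B, mul_assoc, h]; group
    obtain ⟨h2, h3, h4⟩ := F.inj _ _ _ _ _ _ h1
    exact ⟨h3, h2, h4⟩
  · intro a b c h
    have hsP : s ∈ P := by
      rw [← h]
      exact P.mul_mem (F.Y_mem b) (P.mul_mem (D.R_le (F.X_mem a)) (D.B_le (F.Z_mem c)))
    have h1 := hc s hsP F4.w
    have h2 := m.conjZ F4.w
    rw [← h1, mul_assoc, hs, mul_one] at h2
    have h3 : Y 0 * X 0 * Z F4.w = Y 0 * X 0 * Z (fr F4.w) := by rw [← h2]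
    obtain ⟨-, -, h4⟩ := F.inj _ _ _ _ _ _ h3
    exact absurd h4 (by decide)

/-- **A2** -/
theorem a2 [Finite G] [IsSimpleGroup G] (B : Base A R V P ρ 0 X Y Z)
    (W : WC2 A R V P ρ X Y Z s S) (hA : ¬ 8 ∣ Nat.card A)
    (hM : ∀ m ∈ N A, m ∈ AC A ∨ m * s ∈ AC A) (hG : Gold G) : False := by
  obtain ⟨g0, od⟩ := B.odd
  have F := B.frame
  have D := B.data
  have h := fieldP_of B W.mu2
  have hs := W.mu2.sq
  have hPk : ∀ p ∈ P, ∃ a b c, p = h.hom ⟨a, b, c, false⟩ := by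
    intro p hp
    obtain ⟨b, a, c, h1⟩ := F.P_surj _ hp
    exact ⟨a, b, c, by rw [h1, h.hom_apply]; simp [mul_assoc]⟩
  have hkP : ∀ a b c, h.hom ⟨a, b, c, false⟩ ∈ P := by
    intro a b c
    rw [h.hom_apply]
    simp only [Bool.false_eq_true, if_false, mul_one]
    exact P.mul_mem (F.Y_mem b) (P.mul_mem (D.R_le (F.X_mem a)) (D.B_le (F.Z_mem c)))
  have hjs : ∀ a b c, h.hom ⟨a, b, c, true⟩ = h.hom ⟨a, b, c, false⟩ * s := by
    intro a b c
    rw [h.hom_apply, h.hom_apply]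
    simp [mul_assoc]
  have hS : ∀ g, g ∈ (S : Subgroup G) ↔ ∃ x, h.hom x = g := by
    intro g
    rw [W.mem]
    constructor
    · rintro (hg | hg)
      · obtain ⟨a, b, c, h1⟩ := hPk _ hg
        exact ⟨_, h1.symm⟩
      · obtain ⟨a, b, c, h1⟩ := hPk _ hg
        exact ⟨⟨a, b, c, true⟩, by rw [hjs, ← h1, mul_assoc, hs, mul_one]⟩
    · rintro ⟨⟨a, b, c, j⟩, rfl⟩
      cases j
      · left; exact hkP a b c
      · right; rw [hjs, mul_assoc, hs, mul_one]; exact hkP a b c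
  have hcent : ∀ Q : Subgroup G, IsPGroup 2 Q → (∀ q ∈ Q, q * X 1 = X 1 * q) →
      ∃ k : G, k * X 1 = X 1 * k ∧ ∀ q ∈ Q, ∃ x : M, M.IsE x = true ∧ h.hom x = k * q * k⁻¹ := by
    intro Q hQ hQX
    let EM : Subgroup M :=
      { carrier := {x | M.IsE x = true}
        one_mem' := by decide
        mul_mem' := by
          intro x y hx hy
          have h1 : ∀ x : M, M.IsE x = true → x = ⟨x.a, 0, x.c, x.j⟩ := by
            decide +kernel
          change M.IsE (x * y) = true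
          rw [h1 x hx, h1 y hy]
          generalize x.a = a
          generalize x.c = c
          generalize x.j = j
          generalize y.a = a'
          generalize y.c = c'
          generalize y.j = j'
          revert a c a' c' j j'
          decide +kernel
        inv_mem' := by
          intro x hx
          have h1 : ∀ x : M, M.IsE x = true → M.IsE x⁻¹ = true := by decide +kernel
          exact h1 x hx }
    have hEM : Nat.card EM = 32 := by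
      rw [Nat.card_congr (show EM ≃ {x : M // M.IsE x = true} from
        Equiv.subtypeEquivRight (fun _ => Iff.rfl)), Nat.card_eq_fintype_card, Fintype.card_subtype]
      exact M.card_EM
    have hE : Nat.card (EM.map h.hom) = 32 := by
      rw [Subgroup.card_map_of_injective h.hom_inj, hEM]
    obtain ⟨d, hd, hdE⟩ := conj_into_max (D := centralizer {X 1}) (R := EM.map h.hom) (Q := Q) (by
        rintro _ ⟨x, hx, rfl⟩
        rw [mem_centralizer_singleton_iff, ← h.hom_X 1, ← map_mul, ← map_mul]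
        congr 1
        have h1 : ∀ x : M, M.IsE x = true → x * ⟨1, 0, 0, false⟩ = ⟨1, 0, 0, false⟩ * x := by
          decide +kernel
        exact h1 x hx) ((M.pgroup.to_subgroup _).map _) (by
        intro R' h1 h2 h3
        have h4 : Nat.card (R' ⊓ AC A : Subgroup G) ≤ 16 :=
          card_le_AC (four_A B) (four_C B) hA od.card8 (h2.to_le inf_le_left) inf_le_right
        have h5 : Nat.card R' ≤ 2 * Nat.card (R' ⊓ AC A : Subgroup G) := by
          apply card_le_two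
          intro x hx y hy hx' hy'
          have e1 := (hM x (cent_le B (h1 hx))).resolve_left hx'
          have e2 := (hM y (cent_le B (h1 hy))).resolve_left hy'
          have e3 : x * y⁻¹ = (x * s) * (y * s)⁻¹ := by group
          rw [e3]
          exact mul_mem e1 (inv_mem e2)
        exact (Subgroup.eq_of_le_of_card_ge h3 (by rw [hE]; omega)).ge) hQ
        (fun q hq => mem_centralizer_singleton_iff.mpr (hQX q hq))
    refine ⟨d, mem_centralizer_singleton_iff.mp hd, fun q hq => ?_⟩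
    obtain ⟨x, hx, h2⟩ := hdE q hq
    exact ⟨x, hx, h2⟩
  have hout : ∀ k : G, k * X 1 = X 1 * k → ∀ a c, k * s * k⁻¹ ≠ X a * Z c := by
    intro k hk a c h1
    have hkN : k ∈ N A := cent_le B (mem_centralizer_singleton_iff.mpr hk)
    have h2 : k⁻¹ * Z c * k ∈ A := conj_mem' hkN (od.V_le (F.Z_mem c))
    have h3 : k⁻¹ * X a * k ∈ C A := conj_mem_C' hkN (od.R_le (F.X_mem a))
    have h4 : X a * Z c = Z c * X a := D.cent _ (D.R_le (F.X_mem a)) _ (F.Z_mem c)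
    apply W.mu2.out _ h2 _ h3
    calc s = k⁻¹ * (k * s * k⁻¹) * k := by group
      _ = k⁻¹ * (Z c * X a) * k := by rw [h1, h4]
      _ = _ := by group
  have hnZ := h.s_nZ S hS hcent hout
  -- all elements of `V#` are conjugate
  have hVc : ∀ c : F4, c ≠ 0 → IsConj (Z 1) (Z c) := by
    intro c hc
    have h1 : IsConj (Z 1) (Z F4.w) := by
      rw [isConj_iff]
      exact ⟨ρ, by rw [F.ρZ]; rfl⟩
    have h2 : IsConj (Z F4.w) (Z F4.u) := by
      rw [isConj_iff]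
      exact ⟨ρ, by rw [F.ρZ]; rfl⟩
    have h3 : ∀ a : F4, a ≠ 0 → a = 1 ∨ a = F4.w ∨ a = F4.u := by decide
    rcases h3 c hc with rfl | rfl | rfl
    · exact IsConj.refl _
    · exact h1
    · exact h1.trans h2
  -- all elements of `E2 - V` are conjugate
  have hYc : ∀ b c : F4, b ≠ 0 → IsConj (Y 1) (Y b * Z c) := by
    intro b c hb
    have h1 : IsConj (Y 1) (Y F4.w) := by
      rw [isConj_iff]
      exact ⟨ρ, by rw [F.ρY]; rfl⟩
    have h2 : IsConj (Y F4.w) (Y F4.u) := by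
      rw [isConj_iff]
      exact ⟨ρ, by rw [F.ρY]; rfl⟩
    have h3 : ∀ a : F4, a ≠ 0 → a = 1 ∨ a = F4.w ∨ a = F4.u := by decide
    have h4 : IsConj (Y 1) (Y b) := by
      rcases h3 b hb with rfl | rfl | rfl
      · exact IsConj.refl _
      · exact h1
      · exact h1.trans h2
    refine h4.trans ?_
    have h5 : ∀ b c : F4, b ≠ 0 → ∃ a, a * b = c := by decide
    obtain ⟨a, ha⟩ := h5 b c hb
    rw [isConj_iff]
    refine ⟨X a, ?_⟩
    have h6 := D.cent _ (D.R_le (F.X_mem a)) _ (F.Z_mem (a * b))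
    calc X a * Y b * (X a)⁻¹ = Y b * (X a * Z (a * b)) * (X a)⁻¹ := by rw [F.X_Y]; group
      _ = Y b * (Z (a * b) * X a) * (X a)⁻¹ := by rw [h6]
      _ = Y b * Z c := by rw [ha]; group
  have hPn : ∀ g x : G, x ∈ E2 B → g * x * g⁻¹ ∈ P → g * x * g⁻¹ ∈ E2 B := by
    intro g x hx hg
    apply mem_E2_of B hg
    · calc g * x * g⁻¹ * (g * x * g⁻¹) = g * (x * x) * g⁻¹ := by group
        _ = 1 := by rw [E2_sq B hx]; group
    · intro hk
      apply E2_nkt B W.toWC hx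
      apply kt_conj hk
      rw [isConj_iff]
      exact ⟨g⁻¹, by group⟩
  -- the elements of `S - P` of order two are conjugate to `s`
  have hSs : ∀ y : G, y ∈ (S : Subgroup G) → y ∉ P → y * y = 1 → IsConj s y := by
    intro y hy hyP hy2
    obtain ⟨ξ, rfl⟩ := (hS y).mp hy
    have hj : ξ.j = true := by
      by_contra hne
      have h1 : ξ.j = false := by simpa using hne
      apply hyP
      obtain ⟨a, b, c, j⟩ := ξ
      change j = false at h1
      subst h1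
      exact hkP a b c
    obtain ⟨a, b, c, e⟩ := M.conj_s ξ (h.sq_lift.mp hy2) hj
    apply IsConj.symm
    rw [isConj_iff]
    refine ⟨h.hom ⟨a, b, c, false⟩, ?_⟩
    rw [← map_inv, ← map_mul, ← map_mul, e, h.hom_s]
  have hnZc : ∀ c, c ≠ 0 → ¬ IsConj s (Z c) := fun c hc hcon => hnZ (hcon.trans (hVc c hc).symm)
  have hE2S : E2 B ≤ (S : Subgroup G) := by
    rintro _ ⟨b, c, rfl⟩
    exact W.le (P.mul_mem (F.Y_mem b) (D.B_le (F.Z_mem c)))
  by_cases hsY : IsConj s (Y 1)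
  · -- `V` is strongly closed
    have hVne : V ≠ ⊥ := by
      intro hV
      have h1 := F.Z_mem 1
      rw [hV, mem_bot] at h1
      have h3 : Y 0 * X 0 * Z 1 = Y 0 * X 0 * Z 0 := by rw [h1, Z_zero B]
      obtain ⟨-, -, h4⟩ := F.inj _ _ _ _ _ _ h3
      exact absurd h4 (by decide)
    apply false_of_closed B W.le hG hVne (fun x hx y hy => D.cent x (D.B_le hx) y hy)
    refine ⟨D.B_le.trans W.le, ?_⟩
    intro x hx g hg
    by_cases hx1 : x = 1
    · rw [hx1]; have : g * 1 * g⁻¹ = 1 := by group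
      rw [this]; exact V.one_mem
    obtain ⟨c, rfl⟩ := F.Z_surj x hx
    have hc0 : c ≠ 0 := by rintro rfl; exact hx1 (Z_zero B)
    have hxE : Z c ∈ E2 B := ⟨0, c, by rw [Y_zero B, one_mul]⟩
    have hxc : IsConj (Z c) (g * Z c * g⁻¹) := by rw [isConj_iff]; exact ⟨g, rfl⟩
    by_cases hgP : g * Z c * g⁻¹ ∈ P
    · obtain ⟨b', c', e⟩ := hPn g _ hxE hgP
      by_cases hb : b' = 0
      · rw [e, hb, Y_zero B, one_mul]; exact F.Z_mem c'
      · exfalso
        apply hnZc c hc0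
        have h1 := hYc b' c' hb
        rw [← e] at h1
        exact hsY.trans (h1.trans hxc.symm)
    · exfalso
      apply hnZc c hc0
      refine (hSs _ hg hgP ?_).trans hxc.symm
      calc g * Z c * g⁻¹ * (g * Z c * g⁻¹) = g * (Z c * Z c) * g⁻¹ := by group
        _ = 1 := by rw [D.sqB _ (F.Z_mem c)]; group
  · apply false_of_closed B W.le hG (E2_ne B) (fun x hx y hy => E2_comm B hx hy)
    refine ⟨hE2S, ?_⟩
    intro x hx g hg
    by_cases hgP : g * x * g⁻¹ ∈ P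
    · exact hPn g x hx hgP
    exfalso
    have hxc : IsConj x (g * x * g⁻¹) := by rw [isConj_iff]; exact ⟨g, rfl⟩
    have h1 : IsConj s (g * x * g⁻¹) := by
      apply hSs _ hg hgP
      calc g * x * g⁻¹ * (g * x * g⁻¹) = g * (x * x) * g⁻¹ := by group
        _ = 1 := by rw [E2_sq B hx]; group
    have h2 : IsConj s x := h1.trans hxc.symm
    obtain ⟨b, c, rfl⟩ := hx
    by_cases hb : b = 0
    · rw [hb, Y_zero B, one_mul] at h2
      by_cases hc : c = 0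
      · rw [hc, Z_zero B, isConj_one_left] at h2
        apply W.mu2.out 1 A.one_mem 1 (C A).one_mem
        rw [h2, mul_one]
      · exact hnZc c hc h2
    · exact hsY (h2.trans (hYc b c hb).symm)

end Cfsg.Agent.StdAlt.Five.Kill

private theorem dce_b98382bbd160 : _root_.True := by
  try have : _root_.True := by simp only [_root_.Cfsg.Agent.StdAlt.Five.Kill.mFun.eq_1]
  try have : _root_.True := by simp only [_root_.Cfsg.Agent.StdAlt.Five.Kill.FieldP.hom.congr_simp]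
  try have : _root_.True := by simp only [_root_.Cfsg.Agent.StdAlt.Five.KillModel.M.s.eq_1]
  exact _root_.True.intro
end

-- part: StdAlt/Five/Sub
section
set_option linter.all false
open scoped Cfsg.Agent.FastGrp


/-!
# Passing to a subgroup containing the standard subgroup
-/

set_option autoImplicit false
set_option linter.unusedSectionVars false

namespace Cfsg.Agent.StdAlt.Five.Sub

open Subgroup Equiv Cfsg.Agent.StdAlt Cfsg.Agent.StdAlt.Conj Cfsg.Agent.StdAlt.Pairs Cfsg.Agent.StdAlt.First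
open Cfsg.Agent.StdAlt.Two (HasFour)

variable {G : Type*} [Group G] {A H : Subgroup G}

theorem mem_C_sub (hAH : A ≤ H) {x : H} : x ∈ C (A.subgroupOf H) ↔ (x : G) ∈ C A := by
  rw [mem_C, mem_C]
  constructor
  · intro h a ha
    exact congrArg Subtype.val (h ⟨a, hAH ha⟩ ha)
  · intro h a ha
    exact Subtype.ext (h a ha)

theorem mem_N_sub (hAH : A ≤ H) {x : H} : x ∈ N (A.subgroupOf H) ↔ (x : G) ∈ N A := by
  rw [mem_N, mem_N]
  constructor
  · intro h a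
    constructor
    · intro ha
      exact (h ⟨a, hAH ha⟩).1 ha
    · intro ha
      have h1 : (x : G) * a * (x : G)⁻¹ ∈ H := hAH ha
      have h2 : a ∈ H := by
        have := mul_mem (mul_mem (inv_mem x.2) h1) x.2
        rwa [show (x : G)⁻¹ * (x * a * (x : G)⁻¹) * x = a by group] at this
      exact (h ⟨a, h2⟩).2 ha
  · intro h a
    exact h a

theorem te (hA : TE A) (hAH : A ≤ H) : TE (A.subgroupOf H) := by
  refine ⟨fun k g hk hk1 hkk hg => ?_, fun a ha hac => ?_, fun B hB hle => ?_⟩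
  · rw [mem_C_sub hAH] at hk hg
    rw [mem_N_sub hAH]
    exact hA.key k g hk (fun e => hk1 (Subtype.ext e)) (congrArg Subtype.val hkk) hg
  · rw [mem_C_sub hAH] at hac
    exact Subtype.ext (hA.disj a ha hac)
  · obtain ⟨g, rfl⟩ := hB.exists_eq
    apply hA.ncomm (Conj.cj (g : G) A) (Cj.cj A _)
    intro a ha
    rw [mem_C]
    intro b hb
    have h1 := hle (show (⟨a, hAH ha⟩ : H) ∈ A.subgroupOf H from ha)
    rw [mem_cj] at hb
    have hbH : b ∈ H := by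
      have := mul_mem (mul_mem g.2 (hAH hb)) (inv_mem g.2)
      rwa [show (g : G) * ((g : G)⁻¹ * b * g) * (g : G)⁻¹ = b by group] at this
    exact congrArg Subtype.val (mem_C.1 h1 ⟨b, hbH⟩ (mem_cj.2 hb))

/-- the restricted labelling -/
def lab {α : Type*} [Fintype α] [DecidableEq α] (L : Lab A α) (hAH : A ≤ H) :
    Lab (A.subgroupOf H) α where
  φ x := L.φ x
  mul x y hx hy := L.mul x y ((mem_N_sub hAH).1 hx) ((mem_N_sub hAH).1 hy)
  ker x hx := by rw [L.ker x ((mem_N_sub hAH).1 hx), mem_C_sub hAH]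
  even x hx := L.even x hx
  lift σ hσ := by
    obtain ⟨x, hx, rfl⟩ := L.lift σ hσ
    exact ⟨⟨x, hAH hx⟩, hx, rfl⟩

theorem simple (hs : IsSimpleGroup A) (hAH : A ≤ H) : IsSimpleGroup (A.subgroupOf H) :=
  (subgroupOfEquivOfLe hAH).isSimpleGroup

theorem hasFour (hF : HasFour A) (hAH : A ≤ H) (hle : ∀ v ∈ C A, v * v = 1 → v ∈ H) :
    HasFour (A.subgroupOf H) := by
  obtain ⟨v, hv, v', hv', h1, h2, h3, h4, h5, h6⟩ := hF
  refine ⟨⟨v, hle v hv h4⟩, (mem_C_sub hAH).2 hv, ⟨v', hle v' hv' h5⟩, (mem_C_sub hAH).2 hv', ?_, ?_, ?_, ?_, ?_, ?_⟩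
  · exact fun e => h1 (congrArg Subtype.val e)
  · exact fun e => h2 (congrArg Subtype.val e)
  · exact fun e => h3 (congrArg Subtype.val e)
  · exact Subtype.ext h4
  · exact Subtype.ext h5
  · exact Subtype.ext h6

/-! ### cores -/

theorem core_eq_bot_iff [Finite G] : Cfsg.oddCore G = ⊥ ↔ ∀ N : Subgroup G, N.Normal → Odd (Nat.card N) → N = ⊥ := by
  constructor
  · intro h N hN hodd
    rw [eq_bot_iff, ← h]
    exact Lib.Cores.le_pPrimeCore hN (Nat.coprime_two_right.2 hodd)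
  · intro h
    exact h _ (Lib.Cores.pPrimeCore_normal 2) (Nat.coprime_two_right.1 (Lib.Cores.pPrimeCore_coprime 2))

end Cfsg.Agent.StdAlt.Five.Sub
end

-- part: StdAlt/Five/TwelveMap
section
set_option linter.all false
open scoped Cfsg.Agent.FastGrp

/-!
# The case `E2 = 4 × 4` with an outer involution (S1766, n = 5, type Ib, `ε = e`): the Sylow 2-subgroup of `M₁₂`
-/

set_option autoImplicit false

namespace Cfsg.Agent.StdAlt.Five.TwelveMap

open Cfsg.Agent.J2Sylow.Model Cfsg.Agent.StdAlt.Five.Coord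
open Cfsg.Agent.MTwelveType.SylowModel (liftHom liftFun bp)

variable {G : Type*} [Group G] {R B P : Subgroup G} {ρ : G} {X Y Z : F4 → G}

/-- an outer involution normalising `E2 = 4 × 4`, commuting with `X e`, acting nontrivially on `B` -/
structure Outer (X Y Z : F4 → G) (d : G) : Prop where
  sq : d * d = 1
  comm : d * X .e = X .e * d
  dY : ∀ b, ∃ b' c, d * Y b * d = Y b' * Z c
  dZ : ∃ c, d * Z c * d ≠ Z c

section

variable (D : Data R B P ρ) (F : Frame R B P ρ F4.e X Y Z)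
include D F

theorem Z_comm_Y (c b : F4) : Z c * Y b = Y b * Z c :=
  (D.cent _ (F.Y_mem b) _ (F.Z_mem c)).symm

theorem Z_comm_X (c b : F4) : Z c * X b = X b * Z c :=
  (D.cent _ (D.R_le (F.X_mem b)) _ (F.Z_mem c)).symm

theorem YZ_mul (b c b' c' : F4) : (Y b * Z c) * (Y b' * Z c') =
    Y (b + b') * Z (c + c' + F4.fr (b * b')) := by
  have h := F.Y_mul b b'
  change Y b * Y b' = Y (b + b') * Z (1 * F4.fr (b * b')) at h
  rw [one_mul] at h
  have h2 := Z_comm_Y D F c b'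
  calc (Y b * Z c) * (Y b' * Z c') = Y b * (Z c * Y b') * Z c' := by group
    _ = Y b * Y b' * (Z c * Z c') := by rw [h2]; group
    _ = Y (b + b') * (Z (F4.fr (b * b')) * (Z c * Z c')) := by rw [h]; group
    _ = _ := by
      rw [← F.Z_add, ← F.Z_add]
      congr 2
      ring

theorem YZ_comm (b c b' c' : F4) : (Y b * Z c) * (Y b' * Z c') = (Y b' * Z c') * (Y b * Z c) := by
  rw [YZ_mul D F, YZ_mul D F, add_comm b b', add_comm c c', mul_comm b b']

theorem YZ_sq (b c : F4) : (Y b * Z c) * (Y b * Z c) = Z b := by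
  rw [YZ_mul D F, F4.add_self, F4.add_self, zero_add]
  have : ∀ b : F4, F4.fr (b * b) = b := by decide
  rw [this]
  change Y 0 * _ = _
  rw [F.Y_zero, one_mul]

theorem YZ_inj {b c b' c' : F4} (h : Y b * Z c = Y b' * Z c') : b = b' ∧ c = c' := by
  have := F.inj 0 b c 0 b' c' (by rw [F.X_zero, mul_one, mul_one]; exact h)
  exact ⟨this.1, this.2.2⟩

theorem X_inv (b c : F4) : X .e * (Y b * Z c) = (Y b * Z c)⁻¹ * X .e := by
  have h := F.X_Y .e b
  have h1 : (Y b * Z c)⁻¹ = Y b * Z (c + b) := by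
    rw [inv_eq_iff_mul_eq_one, YZ_mul D F, F4.add_self]
    have : ∀ b c : F4, c + (c + b) + F4.fr (b * b) = 0 := by decide
    rw [this]
    change Y 0 * Z 0 = 1
    rw [F.Y_zero, F.Z_zero, one_mul]
  have h2 : F4.e * b = b := one_mul b
  rw [h2] at h
  have h3 := Z_comm_X D F (c + b) .e
  have h4 : Z b * Z c = Z (c + b) := by rw [← F.Z_add, add_comm]
  rw [h1]
  calc X .e * (Y b * Z c) = (X .e * Y b) * Z c := by group
    _ = Y b * X .e * (Z b * Z c) := by rw [h]; group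
    _ = Y b * (X .e * Z (c + b)) := by rw [h4]; group
    _ = _ := by rw [← h3]; group

theorem exists_hom_twelve {d : G} (O : Outer X Y Z d) :
    ∃ φ : Cfsg.Agent.ClassificationK.GTwoModel.T (2 * 2) →* G, Function.Injective φ ∧
      (∀ x, x ∈ φ.range ↔ ∃ b c, ∃ s t : Bool, x = (Y b * Z c) * (bp (X .e) s * bp d t)) := by
  -- the action on `Z`
  have hdd : ∀ x, d * (d * x * d) * d = x := by
    intro x
    calc d * (d * x * d) * d = (d * d) * x * (d * d) := by group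
      _ = x := by rw [O.sq]; group
  have hmul : ∀ x y, d * (x * y) * d = (d * x * d) * (d * y * d) := by
    intro x y
    calc d * (x * y) * d = d * x * 1 * y * d := by group
      _ = _ := by rw [← O.sq]; group
  choose h g hh using O.dY
  have hZ : ∀ b, d * Z b * d = Z (h b) := by
    intro b
    have h1 : Z b = Y b * Y b := by
      have := YZ_sq D F b 0
      rw [F.Z_zero, mul_one] at this
      exact this.symm
    rw [h1, hmul, hh, YZ_sq D F]
  obtain ⟨b0, hb0⟩ := O.dZ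
  rw [hZ] at hb0
  have hb1 : h b0 ≠ b0 := fun e => hb0 (by rw [e])
  have hhh : h (h b0) = b0 := by
    apply F.Z_inj
    rw [← hZ, ← hZ, hdd]
  have hb2 : b0 ≠ 0 := by
    intro e
    apply hb0
    rw [← hZ, e, F.Z_zero, mul_one, O.sq]
  have hb3 : h b0 ≠ 0 := by
    intro e
    apply hb2
    have := hhh
    rw [e] at this
    rw [← this]
    apply F.Z_inj
    rw [← hZ, F.Z_zero, mul_one, O.sq]
  set A := Y b0 with hA
  set A' := d * Y b0 * d with hA'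
  have eA : A = Y b0 * Z 0 := by rw [F.Z_zero, mul_one]
  have eA' : A' = Y (h b0) * Z (g b0) := hh b0
  have sqA : A * A = Z b0 := by rw [eA, YZ_sq D F]
  have sqA' : A' * A' = Z (h b0) := by rw [eA', YZ_sq D F]
  have ZZ : ∀ c, Z c * Z c = 1 := fun c => by
    rw [← F.Z_add, F4.add_self]; exact F.Z_zero
  have r1 : A ^ (2 * 2) = 1 := by rw [pow_mul, pow_two A, sqA, pow_two, ZZ]
  have r2 : A' ^ (2 * 2) = 1 := by rw [pow_mul, pow_two A', sqA', pow_two, ZZ]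
  have r3 : A * A' = A' * A := by rw [eA, eA', YZ_comm D F]
  have r4 : X .e * X .e = 1 := D.sqR _ (F.X_mem _)
  have r7 : X .e * A = A⁻¹ * X .e := by rw [eA, X_inv D F]
  have r8 : X .e * A' = A'⁻¹ * X .e := by rw [eA', X_inv D F]
  have r9 : d * A = A' * d := by
    rw [hA', mul_assoc _ d d, O.sq, mul_one]
  have r10 : d * A' = A * d := by
    rw [hA']
    calc d * (d * Y b0 * d) = (d * d) * Y b0 * d := by group
      _ = _ := by rw [O.sq, one_mul]
  have hpow : ∀ n : ℕ, ∃ b c, A ^ n = Y b * Z c := by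
    intro n
    induction n with
    | zero => exact ⟨0, 0, by rw [F.Y_zero, F.Z_zero]; simp⟩
    | succ n ih =>
      obtain ⟨b, c, hbc⟩ := ih
      exact ⟨_, _, by rw [pow_succ, hbc, eA, YZ_mul D F]⟩
  have hpow' : ∀ n : ℕ, ∃ b c, A' ^ n = Y b * Z c := by
    intro n
    induction n with
    | zero => exact ⟨0, 0, by rw [F.Y_zero, F.Z_zero]; simp⟩
    | succ n ih =>
      obtain ⟨b, c, hbc⟩ := ih
      exact ⟨_, _, by rw [pow_succ, hbc, eA', YZ_mul D F]⟩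
  -- the sixteen elements
  let V : ZMod (2 * 2) → ZMod (2 * 2) → G := fun i j => A ^ i.val * A' ^ j.val
  have hV : ∀ i j, ∃ b c, V i j = Y b * Z c := by
    intro i j
    obtain ⟨b, c, h1⟩ := hpow i.val
    obtain ⟨b', c', h2⟩ := hpow' j.val
    exact ⟨_, _, by change A ^ i.val * A' ^ j.val = _; rw [h1, h2, YZ_mul D F]⟩
  have hV1 : ∀ i j, V i j = 1 → i = 0 ∧ j = 0 := by
    have c0 : A ^ (0 : ℕ) = Y 0 * Z 0 := by rw [F.Y_zero, F.Z_zero]; simp
    have c1 : A ^ (1 : ℕ) = Y b0 * Z 0 := by rw [pow_one, eA]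
    have c2 : A ^ (2 : ℕ) = Y 0 * Z b0 := by rw [sq, sqA, F.Y_zero, one_mul]
    have c3 : A ^ (3 : ℕ) = Y b0 * Z b0 := by
      rw [pow_succ, c2, eA, YZ_mul D F, zero_add, add_zero, zero_mul]
      change Y b0 * Z (b0 + 0) = _
      rw [add_zero]
    have c0' : A' ^ (0 : ℕ) = Y 0 * Z 0 := by rw [F.Y_zero, F.Z_zero]; simp
    have c1' : A' ^ (1 : ℕ) = Y (h b0) * Z (g b0) := by rw [pow_one, eA']
    have c2' : A' ^ (2 : ℕ) = Y 0 * Z (h b0) := by rw [sq, sqA', F.Y_zero, one_mul]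
    have c3' : A' ^ (3 : ℕ) = Y (h b0) * Z (h b0 + g b0) := by
      rw [pow_succ, c2', eA', YZ_mul D F, zero_add, zero_mul]
      change Y (h b0) * Z (h b0 + g b0 + 0) = _
      rw [add_zero]
    have key : ∀ p q r : F4, p ≠ 0 → q ≠ 0 → p ≠ q →
      let f : Fin 4 → F4 × F4 := ![(0, 0), (p, 0), (0, p), (p, p)]
      let f' : Fin 4 → F4 × F4 := ![(0, 0), (q, r), (0, q), (q, q + r)]
      ∀ i j : Fin 4, (f i).1 + (f' j).1 = 0 →
        (f i).2 + (f' j).2 + F4.fr ((f i).1 * (f' j).1) = 0 → i = 0 ∧ j = 0 := by decide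
    intro i j hij
    have hA4 : ∀ i : Fin 4, A ^ (i : ℕ) = Y ((![(0, 0), (b0, 0), (0, b0), (b0, b0)] : Fin 4 → F4 × F4) i).1 *
        Z ((![(0, 0), (b0, 0), (0, b0), (b0, b0)] : Fin 4 → F4 × F4) i).2 := by
      intro i
      fin_cases i
      · exact c0
      · exact c1
      · exact c2
      · exact c3
    have hA4' : ∀ i : Fin 4, A' ^ (i : ℕ) =
        Y ((![(0, 0), (h b0, g b0), (0, h b0), (h b0, h b0 + g b0)] : Fin 4 → F4 × F4) i).1 *
        Z ((![(0, 0), (h b0, g b0), (0, h b0), (h b0, h b0 + g b0)] : Fin 4 → F4 × F4) i).2 := by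
      intro i
      fin_cases i
      · exact c0'
      · exact c1'
      · exact c2'
      · exact c3'
    have h1 : V i j = 1 := hij
    change A ^ i.val * A' ^ j.val = 1 at h1
    have hi : i.val < 4 := ZMod.val_lt i
    have hj : j.val < 4 := ZMod.val_lt j
    have e1 := hA4 ⟨i.val, hi⟩
    have e2 := hA4' ⟨j.val, hj⟩
    simp only [Fin.val_mk] at e1 e2
    rw [e1, e2, YZ_mul D F] at h1
    have h2 : Y 0 * Z 0 = (1 : G) := by rw [F.Y_zero, F.Z_zero, one_mul]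
    rw [← h2] at h1
    obtain ⟨k1, k2⟩ := YZ_inj D F h1
    obtain ⟨l1, l2⟩ := key b0 (h b0) (g b0) hb2 hb3 (Ne.symm hb1) _ _ k1 k2
    have l1' : i.val = 0 := congrArg Fin.val l1
    have l2' : j.val = 0 := congrArg Fin.val l2
    exact ⟨(ZMod.val_eq_zero i).1 l1', (ZMod.val_eq_zero j).1 l2'⟩
  have hYZP : ∀ b c, Y b * Z c ∈ P := fun b c => P.mul_mem (F.Y_mem b) (D.B_le (F.Z_mem c))
  have hdP : d ∉ P := by
    intro h
    obtain ⟨c, hc⟩ := O.dZ
    apply hc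
    rw [D.cent d h _ (F.Z_mem c), mul_assoc, O.sq, mul_one]
  have hXn : ∀ b c, X .e ≠ Y b * Z c := by
    intro b c e
    have := F.inj .e 0 0 0 b c (by
      rw [F.Y_zero, F.X_zero, F.Z_zero, one_mul, mul_one, mul_one]; exact e)
    exact absurd this.2.1 (by decide)
  haveI : NeZero (2 * 2) := ⟨by decide⟩
  set φ : Cfsg.Agent.ClassificationK.GTwoModel.T (2 * 2) →* G :=
    liftHom r1 r2 r3 r4 O.sq O.comm.symm r7 r8 r9 r10 with hφ
  have hφa : ∀ i j s t, φ ⟨i, j, s, t⟩ = V i j * (bp (X .e) s * bp d t) := fun _ _ _ _ => rfl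
  have hφi : Function.Injective φ := by
    rw [injective_iff_map_eq_one]
    rintro ⟨i, j, s, t⟩ hx
    rw [hφa] at hx
    obtain ⟨b, c, hbc⟩ := hV i j
    cases t
    · cases s
      · simp only [bp, mul_one] at hx
        obtain ⟨rfl, rfl⟩ := hV1 i j hx
        rfl
      · exfalso
        simp only [bp, mul_one] at hx
        rw [hbc] at hx
        have h1 : X .e = (Y b * Z c)⁻¹ := eq_inv_of_mul_eq_one_right hx
        have h2 : (Y b * Z c)⁻¹ = X .e * (Y b * Z c) * X .e := by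
          rw [X_inv D F, mul_assoc, r4, mul_one]
        have h3 : (Y b * Z c)⁻¹ = Y b * Z (c + b) := by
          rw [inv_eq_iff_mul_eq_one, YZ_mul D F, F4.add_self]
          have : ∀ b c : F4, c + (c + b) + F4.fr (b * b) = 0 := by decide
          rw [this]
          change Y 0 * Z 0 = 1
          rw [F.Y_zero, F.Z_zero, one_mul]
        exact hXn b (c + b) (by rw [h1, h3])
    · exfalso
      have h1 : V i j * bp (X .e) s * d = 1 := by
        rw [← hx]; simp only [bp]; group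
      apply hdP
      have h2 : d = (V i j * bp (X .e) s)⁻¹ := eq_inv_of_mul_eq_one_right h1
      rw [h2]
      apply P.inv_mem
      apply P.mul_mem
      · rw [hbc]; exact hYZP b c
      · cases s
        · exact P.one_mem
        · exact D.R_le (F.X_mem _)
  refine ⟨φ, hφi, ?_⟩
  -- the sixteen elements are all of `E2`
  have hVs : ∀ b c, ∃ i j, V i j = Y b * Z c := by
    choose β γ hβγ using hV
    have hi : Function.Injective (fun p : ZMod (2 * 2) × ZMod (2 * 2) =>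
        ((β p.1 p.2, γ p.1 p.2) : F4 × F4)) := by
      rintro ⟨i, j⟩ ⟨i', j'⟩ h
      have hb : β i j = β i' j' := congrArg Prod.fst h
      have hc : γ i j = γ i' j' := congrArg Prod.snd h
      have hVV : V i j = V i' j' := by
        rw [hβγ, hβγ, hb, hc]
      have e1 : φ ⟨i, j, false, false⟩ = φ ⟨i', j', false, false⟩ := by
        rw [hφa, hφa, hVV]
      have e2 := hφi e1
      have e3 := congrArg Cfsg.Agent.ClassificationK.GTwoModel.T.i e2
      have e4 := congrArg Cfsg.Agent.ClassificationK.GTwoModel.T.j e2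
      exact Prod.ext e3 e4
    have hcard : Nat.card (F4 × F4) ≤ Nat.card (ZMod (2 * 2) × ZMod (2 * 2)) := by
      rw [Nat.card_prod, Nat.card_prod, Nat.card_zmod, Nat.card_eq_fintype_card]
      have : Fintype.card F4 = 4 := by decide
      rw [this]
    have hb := hi.bijective_of_nat_card_le hcard
    intro b c
    obtain ⟨⟨i, j⟩, hij⟩ := hb.2 (b, c)
    refine ⟨i, j, ?_⟩
    have hb : β i j = b := congrArg Prod.fst hij
    have hc : γ i j = c := congrArg Prod.snd hij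
    rw [hβγ, hb, hc]
  intro x
  constructor
  · rintro ⟨⟨i, j, s, t⟩, rfl⟩
    obtain ⟨b, c, hbc⟩ := hV i j
    exact ⟨b, c, s, t, by rw [hφa, hbc]⟩
  · rintro ⟨b, c, s, t, rfl⟩
    obtain ⟨i, j, hij⟩ := hVs b c
    exact ⟨⟨i, j, s, t⟩, by rw [hφa, hij]⟩

end

end Cfsg.Agent.StdAlt.Five.TwelveMap
end

-- part: StdAlt/Five/Layer
section
set_option linter.all false
open scoped Cfsg.Agent.FastGrp

/-!
# The simple layer
-/

set_option autoImplicit false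

namespace Cfsg.Agent.StdAlt.Five.Layer

open Subgroup Cfsg.Agent.StdAlt Cfsg.Agent.StdAlt.Conj

/-- **`E(G)` is simple, self-centralizing and contains `A`.** -/
theorem exists_simple {G : Type*} [Group G] [Finite G] (hO : Cfsg.oddCore G = ⊥) {A : Subgroup G}
    (hA : Cfsg.IsStandardSubgroup A) (hF : Two.HasFour A) (hn : ¬ A.Normal) :
    ∃ X : Subgroup G, X.Normal ∧ IsSimpleGroup ↥X ∧ A ≤ X ∧ (¬ IsMulCommutative ↥X) ∧
      ∀ g : G, (∀ x ∈ X, g * x = x * g) → g = 1 := by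
  obtain ⟨v, hv, v', hv', h1, h2, h3, h4, h5, h6⟩ := hF
  have ho : orderOf v = 2 := orderOf_eq_prime (by rw [sq]; exact h4) h1
  have hpc : pCore 2 G = ⊥ := by
    by_contra h
    exact hn (Cfsg.Agent.SignalizersComponents.StandardTrichotomy.normal_of_pCore_ne_bot hA ho hv h)
  have hC := Cfsg.Agent.SignalizersComponents.StandardTrichotomy.centralizer_layer_eq_bot hO hpc
  rcases Cfsg.Agent.S1347.result A hA hO v ho hv with h | ⟨X, -, -, -, -, -, -, hz⟩ | ⟨h7, h8, h9⟩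
  · exact absurd h hn
  · exfalso
    have h7 : v' ∈ zpowers v := by rw [← hz]; exact hv'
    obtain ⟨k, hk⟩ := mem_zpowers_iff.1 h7
    have h8 : v ^ (2 : ℤ) = 1 := by
      have : v ^ (2 : ℕ) = 1 := by rw [sq]; exact h4
      exact_mod_cast this
    rcases Int.even_or_odd' k with ⟨m, rfl | rfl⟩
    · rw [zpow_mul, h8, one_zpow] at hk
      exact h2 hk.symm
    · rw [zpow_add, zpow_mul, h8, one_zpow, one_mul, zpow_one] at hk
      exact h3 hk.symm
  · refine ⟨Cfsg.layer G, Cfsg.Agent.SignalizersComponents.Components.layer_normal G, h8, h7, h9,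
      fun g hg => ?_⟩
    have h10 : g ∈ centralizer (Cfsg.layer G : Set G) := by
      rw [mem_centralizer_iff]
      intro x hx
      exact (hg x hx).symm
    rw [hC, mem_bot] at h10
    exact h10

/-- the normal closure of a nontrivial subgroup of a normal simple subgroup -/
theorem normalClosure_eq {G : Type*} [Group G] {X A : Subgroup G} (hX : X.Normal)
    [hs : IsSimpleGroup ↥X] (h : A ≤ X) (hA : A ≠ ⊥) : normalClosure (A : Set G) = X := by
  have hle : normalClosure (A : Set G) ≤ X := normalClosure_le_normal h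
  have hn : ((normalClosure (A : Set G)).subgroupOf X).Normal :=
    (inferInstance : (normalClosure (A : Set G)).Normal).subgroupOf X
  rcases hs.eq_bot_or_eq_top_of_normal _ hn with h' | h'
  · exfalso
    apply hA
    rw [subgroupOf_eq_bot] at h'
    have h1 : A ≤ normalClosure (A : Set G) := le_normalClosure
    rw [eq_bot_iff]
    intro a ha
    exact h'.le_bot (⟨h1 ha, h ha⟩ : a ∈ normalClosure (A : Set G) ⊓ X)
  · rw [subgroupOf_eq_top] at h'
    exact le_antisymm hle h'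

end Cfsg.Agent.StdAlt.Five.Layer
end

-- part: StdAlt/Five/JTwo
section
set_option linter.all false
open scoped Cfsg.Agent.FastGrp

/-!
# Recognition of `J₂` from its Sylow 2-subgroup, two classes of involutions

The variant of `Cfsg.Agent.J2Sylow.MainGW.main` without `J₃`; the Gorenstein-Walter theorem (S0483) is the
hypothesis `gw`.
-/

set_option autoImplicit false

namespace Cfsg.Agent.StdAlt.Five.JTwo

open Subgroup Cfsg Cfsg.Agent.J2Sylow Cfsg.Agent.J2Sylow.Main Cfsg.Agent.J2Sylow.MainGW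

universe u

/-- a finite simple group with a Sylow 2-subgroup of `J₂` type and more than one class of involutions is `J₂` -/
theorem isoJ2_of_gw (gw : CentPSL.GW.{u}) {G : Type u} [Group G] [Finite G] [IsSimpleGroup G]
    (h : Setup G) (hone : ¬ ∀ x y : G, orderOf x = 2 → orderOf y = 2 → IsConj x y) :
    Cfsg.Spor.IsoJ2 G := by
  have F := h.fused_of_simple
  have c := centZ_of solvFun oddSolv zStar h F
  have hK := core_eq_bot solvFun oddSolv zStar gw seCore h F h.z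
    (h.orderOf_phi_two (by decide) (by decide))
  have hK' : Functor.K h.z = ⊥ := hK
  have h1 : h.Q ⊔ Functor.K h.z = h.Q := by rw [hK', sup_bot_eq]
  obtain ⟨hN, hq, hc⟩ := c
  have hN' : (h.Q.subgroupOf (centralizer ({h.z} : Set G))).Normal := by rwa [h1] at hN
  have h1' : (h.Q ⊔ Functor.K h.z).subgroupOf (centralizer ({h.z} : Set G)) =
      h.Q.subgroupOf (centralizer ({h.z} : Set G)) := by rw [h1]
  refine Final.isoJ2_of h hN' (CentZBuild.quot_congr h1' hN hN' hq) ?_ ?_ hone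
  · intro g hg hgQ
    have h2 := hc g hg (fun x hx => by
      rw [hgQ x hx, mul_inv_cancel_right, mul_inv_cancel]; exact one_mem _)
    rwa [h1] at h2
  · refine ⟨h.t, fun t ht => ?_⟩
    have h2 : t * t = 1 := by rw [← pow_two, ← ht, pow_orderOf_eq_one]
    have h3 : t ≠ 1 := by rintro rfl; rw [orderOf_one] at ht; norm_num at ht
    rcases h.isConj_z_or_t F h2 h3 with h4 | h4
    · exact Or.inl h4.symm
    · exact Or.inr h4.symm

/-- the same with S0483 -/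
theorem isoJ2 {G : Type u} [Group G] [Finite G] [IsSimpleGroup G]
    (h : Setup G) (hone : ¬ ∀ x y : G, orderOf x = 2 → orderOf y = 2 → IsConj x y) :
    Cfsg.Spor.IsoJ2 G :=
  isoJ2_of_gw (fun _X _ _ _ S n hn hS => Cfsg.Agent.S0483.result S n hn hS) h hone

end Cfsg.Agent.StdAlt.Five.JTwo
end

-- part: StdAlt/Glue
section
set_option linter.all false
open scoped Cfsg.Agent.FastGrp

/-!
# From the normal alternating subgroup to the normal closure
-/

set_option autoImplicit false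

namespace Cfsg.Agent.StdAlt.Glue

open Subgroup Equiv Equiv.Perm Cfsg.Agent.StdAlt Cfsg.Agent.StdAlt.Conj Cfsg.Agent.StdAlt.First

variable {G : Type*} [Group G]

/-- the normal closure of a nontrivial subgroup of a normal simple subgroup -/
theorem normalClosure_eq {A L₀ : Subgroup G} (hL : L₀.Normal) (hAL : A ≤ L₀) (hs : IsSimpleGroup L₀)
    (hA : A ≠ ⊥) : normalClosure (A : Set G) = L₀ := by
  have hle : normalClosure (A : Set G) ≤ L₀ := normalClosure_le_normal hAL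
  have hn : ((normalClosure (A : Set G)).subgroupOf L₀).Normal :=
    (inferInstance : (normalClosure (A : Set G)).Normal).subgroupOf L₀
  rcases hs.eq_bot_or_eq_top_of_normal _ hn with h | h
  · exfalso
    apply hA
    rw [subgroupOf_eq_bot] at h
    have h1 : A ≤ normalClosure (A : Set G) := le_normalClosure
    rw [eq_bot_iff]
    intro a ha
    have h2 := h.le_bot (⟨h1 ha, hAL ha⟩ : a ∈ normalClosure (A : Set G) ⊓ L₀)
    exact h2
  · rw [subgroupOf_eq_top] at h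
    exact le_antisymm hle h

theorem alt_of {A L₀ : Subgroup G} {m : ℕ} (hm : 5 ≤ m) (hL : L₀.Normal) (hAL : A ≤ L₀)
    (e : Nonempty (L₀ ≃* alternatingGroup (Fin m))) (hA : A ≠ ⊥) :
    Nonempty (↥(normalClosure (A : Set G)) ≃* alternatingGroup (Fin m)) := by
  obtain ⟨e⟩ := e
  rw [normalClosure_eq hL hAL (Main.simple_of_equiv hm e) hA]
  exact ⟨e⟩

theorem ne_bot_of {A : Subgroup G} {n : ℕ} (hn : 5 ≤ n) (e : A ≃* alternatingGroup (Fin n)) :
    A ≠ ⊥ := by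
  rintro rfl
  have hs := Main.simple_of_equiv hn e
  obtain ⟨x, y, hxy⟩ := hs.exists_pair_ne
  exact hxy (Subsingleton.elim x y)

/-- **degree at least seven** -/
theorem seven [Finite G] {A : Subgroup G} (hA : Cfsg.IsStandardSubgroup A) {n : ℕ} (hn : 7 ≤ n)
    (e : A ≃* alternatingGroup (Fin n)) (hR : ¬ Cfsg.PRankLE 2 1 ↥(centralizer (A : Set G)))
    (hcomm : CommHalf G) : A.Normal ∨
      Nonempty (↥(normalClosure (A : Set G)) ≃* alternatingGroup (Fin (n + 4))) := by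
  have hs := Main.simple_of_equiv (by omega) e
  rcases Main.normal_or (TE.of_standard hA hs) hn e (Main.hasFour_of_rank hR) hcomm with
    h | ⟨L₀, h1, h2, h3⟩
  · exact Or.inl h
  · exact Or.inr (alt_of (by omega) h1 h2 h3 (ne_bot_of (by omega) e))

end Cfsg.Agent.StdAlt.Glue
end

-- part: StdAlt/GlueSix
section
set_option linter.all false

/-!
# Degree at least six
-/

set_option autoImplicit false

namespace Cfsg.Agent.StdAlt.GlueSix

open Subgroup Equiv Equiv.Perm Cfsg.Agent.StdAlt Cfsg.Agent.StdAlt.Conj Cfsg.Agent.StdAlt.First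

variable {G : Type*} [Group G]

/-- **degree six** -/
theorem six [Finite G] {A : Subgroup G} (hA : Cfsg.IsStandardSubgroup A)
    (e : A ≃* alternatingGroup (Fin 6)) (hR : ¬ Cfsg.PRankLE 2 1 ↥(centralizer (A : Set G)))
    (hcomm : CommHalf G) : A.Normal ∨
      Nonempty (↥(normalClosure (A : Set G)) ≃* alternatingGroup (Fin 10)) := by
  have hs := Main.simple_of_equiv (by omega) e
  rcases Six.normal_or_six (TE.of_standard hA hs) e (Main.hasFour_of_rank hR) hcomm with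
    h | ⟨L₀, h1, h2, h3⟩
  · exact Or.inl h
  · exact Or.inr (Glue.alt_of (by omega) h1 h2 h3 (Glue.ne_bot_of (by omega) e))

/-- **degree at least six** -/
theorem ge_six [Finite G] {A : Subgroup G} (hA : Cfsg.IsStandardSubgroup A) {n : ℕ} (hn : 6 ≤ n)
    (e : A ≃* alternatingGroup (Fin n)) (hR : ¬ Cfsg.PRankLE 2 1 ↥(centralizer (A : Set G)))
    (hcomm : CommHalf G) : A.Normal ∨
      Nonempty (↥(normalClosure (A : Set G)) ≃* alternatingGroup (Fin (n + 4))) := by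
  rcases Nat.lt_or_ge n 7 with h | h
  · obtain rfl : n = 6 := by omega
    exact six hA e hR hcomm
  · exact Glue.seven hA h e hR hcomm

end Cfsg.Agent.StdAlt.GlueSix
end
end
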