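import Mathlib
import Cfsg.Agent.StdAlt.Five.Outcome_m3
import Cfsg.Agent.Lib.SylowNormalInf
import Cfsg.Agent.S1241
import Cfsg.Agent.TwoFusion.StronglyEmbeddedBasic
import Cfsg.Prelude.Def_TwoFusion
import Cfsg.Prelude.Def_Involutions
import Cfsg.Agent.StdAlt.Five.Swap_m3
import Cfsg.Agent.FastGrp
import Cfsg.Agent.Prune
set_option linter.all false

section
prune_inst 0x7f00000000000000000000000000000000000000000000000000000000000000000000000000000000000000000000000000000000000000000000000000000000000000000000000000000000000000003fffffffffffffffffffffffffffbeffbdffffffff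

-- part: StdAlt/Five/KOneMuTwo
section
set_option linter.all false
open scoped Cfsg.Agent.FastGrp

/-!
# S1766, n = 5, `κ = 1`, `μ = 2`: centralisers, the subgroup `L ∩ S`
-/

set_option autoImplicit false

namespace Cfsg.Agent.StdAlt.Five

open Subgroup Cfsg.Agent.StdAlt.Conj Cfsg.Agent.J2Sylow.Model

/-- `Q ∪ Q s` -/
def ext {G : Type*} [Group G] (Q : Subgroup G) (s : G) (ss : s * s = 1) (hn : ∀ x ∈ Q, s * x * s⁻¹ ∈ Q) :
    Subgroup G where
  carrier := {x | x ∈ Q ∨ x * s ∈ Q}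
  one_mem' := Or.inl (one_mem Q)
  mul_mem' := by
    have hs : s⁻¹ = s := inv_eq_of_mul_eq_one_right ss
    have hn' : ∀ x ∈ Q, s * x * s ∈ Q := fun x hx => by
      have := hn x hx
      rwa [hs] at this
    rintro x y (hx | hx) (hy | hy)
    · exact Or.inl (mul_mem hx hy)
    · right
      rw [mul_assoc]
      exact mul_mem hx hy
    · right
      have := mul_mem hx (hn' y hy)
      convert this using 1
      calc x * y * s = x * 1 * y * s := by group
        _ = _ := by rw [← ss]; group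
    · left
      have := mul_mem hx (hn' _ hy)
      convert this using 1
      calc x * y = x * 1 * y * 1 := by group
        _ = _ := by rw [← ss]; group
  inv_mem' := by
    have hs : s⁻¹ = s := inv_eq_of_mul_eq_one_right ss
    have hn' : ∀ x ∈ Q, s * x * s ∈ Q := fun x hx => by
      have := hn x hx
      rwa [hs] at this
    rintro x (hx | hx)
    · exact Or.inl (inv_mem hx)
    · right
      have := hn' _ (inv_mem hx)
      convert this using 1
      rw [mul_inv_rev, hs]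
      calc x⁻¹ * s = 1 * x⁻¹ * s := by group
        _ = _ := by rw [← ss]; group

theorem mem_ext {G : Type*} [Group G] {Q : Subgroup G} {s : G} {ss : s * s = 1}
    {hn : ∀ x ∈ Q, s * x * s⁻¹ ∈ Q} {x : G} : x ∈ ext Q s ss hn ↔ x ∈ Q ∨ x * s ∈ Q := Iff.rfl

theorem card_ext {G : Type*} [Group G] [Finite G] {Q : Subgroup G} {s : G} (ss : s * s = 1)
    (hn : ∀ x ∈ Q, s * x * s⁻¹ ∈ Q) (hs : s ∉ Q) : Nat.card (ext Q s ss hn) = Nat.card Q * 2 := by
  have hb : Function.Bijective (fun p : Q × Bool =>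
      (⟨bif p.2 then p.1 * s else p.1, by
        rcases p with ⟨⟨c, hc⟩, b⟩
        cases b
        · exact Or.inl hc
        · right
          change c * s * s ∈ Q
          rw [mul_assoc, ss, mul_one]
          exact hc⟩ : ext Q s ss hn)) := by
    constructor
    · rintro ⟨⟨c, hc⟩, b⟩ ⟨⟨c', hc'⟩, b'⟩ he
      have he' := congrArg Subtype.val he
      cases b <;> cases b'
      · have h1 : c = c' := he'
        subst h1; rfl
      · exfalso
        have h1 : c = c' * s := he'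
        apply hs
        have : s = c'⁻¹ * c := by rw [h1]; group
        rw [this]
        exact mul_mem (inv_mem hc') hc
      · exfalso
        have h1 : c * s = c' := he'
        apply hs
        have : s = c⁻¹ * c' := by rw [← h1]; group
        rw [this]
        exact mul_mem (inv_mem hc) hc'
      · have h1 : c * s = c' * s := he'
        have h2 := mul_right_cancel h1
        subst h2; rfl
    · rintro ⟨x, hx⟩
      rcases mem_ext.1 hx with h1 | h1
      · exact ⟨(⟨x, h1⟩, false), rfl⟩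
      · refine ⟨(⟨x * s, h1⟩, true), ?_⟩
        apply Subtype.ext
        change x * s * s = x
        rw [mul_assoc, ss, mul_one]
  rw [← Nat.card_congr (Equiv.ofBijective _ hb), Nat.card_prod, Nat.card_eq_fintype_card (α := Bool)]
  rfl

namespace MuTwo

variable {G : Type*} [Group G] {A R B P L : Subgroup G} {ρ : G} {ε : F4} {X Y Z : F4 → G} {s : G}
  {S : Sylow 2 G}
variable (h : MuTwo A R B P L ρ ε X Y Z s S)
include h

theorem s_inv : s⁻¹ = s := inv_eq_of_mul_eq_one_right h.ss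

theorem hSP : P ≤ (S : Subgroup G) := fun x hx => (h.hS x).2 (Or.inl hx)

theorem s_mem : s ∈ (S : Subgroup G) := (h.hS s).2 (Or.inr (by rw [h.ss]; exact one_mem P))

theorem s3 (b a c : F4) : s * (Y b * X a * Z c) * s⁻¹ = Y (F4.fr b) * X (F4.fr a) * Z (F4.fr c) := by
  rw [← h.sX, ← h.sY, ← h.sZ]; group

/-- elements of `R` conjugate in `C A` are equal -/
theorem eq_of_conj_C [Finite G] {a a' : F4} {k : G} (hk : k ∈ C A) (he : k * X a * k⁻¹ = X a') : a = a' := by
  classical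
  haveI : Fact (Nat.Prime 2) := ⟨Nat.prime_two⟩
  have hRp : IsPGroup 2 (R.subgroupOf (C A)) := by
    apply IsPGroup.of_card (n := 2)
    rw [Nat.card_congr (subgroupOfEquivOfLe h.R_le).toEquiv, h.dat.cardR]; norm_num
  obtain ⟨T, hT⟩ := hRp.exists_le_sylow
  have hTR : R.subgroupOf (C A) = (T : Subgroup (C A)) := by
    apply eq_of_le_of_card_ge hT
    rw [Nat.card_congr (subgroupOfEquivOfLe h.R_le).toEquiv, h.dat.cardR]
    obtain ⟨n, hn⟩ := IsPGroup.iff_card.1 T.isPGroup'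
    have h1 : n ≤ 2 := by
      by_contra hlt
      apply h.cardK
      have : 2 ^ 3 ∣ 2 ^ n := pow_dvd_pow 2 (by omega)
      rw [← hn] at this
      exact (show (8 : ℕ) ∣ Nat.card (T : Subgroup (C A)) from this).trans (card_subgroup_dvd_card _)
    rw [hn]
    calc 2 ^ n ≤ 2 ^ 2 := Nat.pow_le_pow_right (by norm_num) h1
      _ = 4 := by norm_num
  have mT : ∀ {x : C A}, x ∈ (T : Subgroup (C A)) ↔ (x : G) ∈ R := by
    intro x; rw [← hTR, mem_subgroupOf]
  haveI : IsMulCommutative (T : Subgroup (C A)) := ⟨⟨fun x y => by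
    apply Subtype.ext; apply Subtype.ext
    exact h.dat.commR (mT.1 x.2) (mT.1 y.2)⟩⟩
  obtain ⟨n, hn, hne⟩ := Sylow.conj_eq_normalizer_conj_of_mem T (⟨X a, h.XC a⟩ : C A) ⟨k, hk⟩⁻¹
    (mT.2 (h.fr.X_mem a)) (by
      rw [inv_inv]
      refine mT.2 ?_
      change k * X a * k⁻¹ ∈ R
      rw [he]; exact h.fr.X_mem a')
  rw [inv_inv] at hne
  have h1 : k * X a * k⁻¹ = (n : G)⁻¹ * X a * n := congrArg Subtype.val hne
  have h2 : ∀ r ∈ R, (n⁻¹ : G) * r * (n⁻¹ : G)⁻¹ ∈ R := by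
    intro r hr
    have hn' : (n⁻¹ : C A) ∈ normalizer ((T : Subgroup (C A)) : Set (C A)) := inv_mem hn
    have := (mem_normalizer_iff.1 hn' (⟨r, h.R_le hr⟩ : C A)).1 (mT.2 hr)
    exact mT.1 this
  have h3 := h.κ _ (inv_mem n.2) h2 _ (h.fr.X_mem a)
  rw [he] at h1
  have h4 : (n : G)⁻¹ * X a * n = X a := by rw [h3]; group
  rw [h4] at h1
  exact (h.fr.X_inj h1).symm

/-- `C(X a) ≤ K A` for `a ∈ {w, u}` -/
theorem hKA [Finite G] {a : F4} (ha : a ≠ 0) (ha' : a ≠ F4.e) :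
    ∀ g, g * X a = X a * g → ∃ k ∈ C A, ∃ a1 ∈ A, g = k * a1 := by
  intro g hg
  obtain ⟨k, hk, a1, ha1, he⟩ := h.hM g (h.cent_le ha hg)
  rcases he with he | he
  · exact ⟨k, hk, a1, ha1, he⟩
  · exfalso
    have h1 : g * X a * g⁻¹ = X a := by rw [hg, mul_inv_cancel_right]
    have h2 : g * X a * g⁻¹ = k * X (F4.fr a) * k⁻¹ := by
      rw [he, ← h.sX]
      have e := comm_of_C (show s * X a * s⁻¹ ∈ C A by rw [h.sX]; exact h.XC _) ha1
      calc k * a1 * s * X a * (k * a1 * s)⁻¹ = k * (a1 * (s * X a * s⁻¹)) * a1⁻¹ * k⁻¹ := by group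
        _ = _ := by rw [← e]; group
    rw [h2] at h1
    have h3 := h.eq_of_conj_C hk h1
    have : ∀ a : F4, a ≠ 0 → a ≠ F4.e → F4.fr a ≠ a := by decide
    exact this a ha ha' h3

/-- an element commuting with a conjugate of `X a` (`a ∈ {w, u}`) whose order is a power of 2 is an involution or 1 -/
theorem sq_of_conj [Finite G] {a : F4} (ha : a ≠ 0) (ha' : a ≠ F4.e) {g x y : G}
    (hx : g * X a * g⁻¹ = x) (hy : y * x = x * y) (hy4 : (y * y) * (y * y) = 1) : y * y = 1 := by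
  have hp : IsPGroup 2 (zpowers y) := by
    intro z
    obtain ⟨z, k, rfl⟩ := z
    refine ⟨2, Subtype.ext ?_⟩
    change (y ^ k) ^ (2 ^ 2) = 1
    have h4 : y ^ 4 = 1 := by
      calc y ^ 4 = (y * y) * (y * y) := by simp only [pow_succ, pow_zero, one_mul, mul_assoc]
        _ = 1 := hy4
    rw [← zpow_natCast, ← zpow_mul, mul_comm, zpow_mul, zpow_natCast]
    change (y ^ 4) ^ k = 1
    rw [h4, one_zpow]
  have hT : ∀ z ∈ zpowers y, z * x = x * z := by
    rintro z ⟨k, rfl⟩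
    exact ((show Commute y x from hy).zpow_left k).eq
  exact (h.elem_of_conj (h.hKA ha ha') hx hT hp).1 y (mem_zpowers y)

end MuTwo

end Cfsg.Agent.StdAlt.Five
end

-- part: StdAlt/Five/KOneMuTwoL
section
set_option linter.all false
open scoped Cfsg.Agent.FastGrp

/-!
# S1766, n = 5, `κ = 1`, `μ = 2`: `R ∩ L = ⟨X e⟩`, `s ∈ L`
-/

set_option autoImplicit false

namespace Cfsg.Agent.StdAlt.Five

open Subgroup Cfsg.Agent.StdAlt.Conj Cfsg.Agent.J2Sylow.Model

/-- auxiliary predicate -/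
def Q3 (ε b a c b' a' c' : F4) : Prop := b' + F4.fr b' = b ∧ a' + F4.fr a' = a ∧
      (c' + a' * b' + ε * F4.fr (b' * b')) + F4.fr c' + a' * F4.fr b' + ε * F4.fr (b' * F4.fr b') = c

instance (ε b a c b' a' c' : F4) : Decidable (Q3 ε b a c b' a' c') := by unfold Q3; infer_instance

/-- auxiliary predicate -/
def Q2 (ε b a c : F4) : Prop := (b + F4.fr b = 0 ∧ a + F4.fr a = 0 ∧
        c + F4.fr c + a * F4.fr b + ε * F4.fr (b * F4.fr b) = 0) → ∃ b' a' c', Q3 ε b a c b' a' c'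

instance (ε b a c : F4) : Decidable (Q2 ε b a c) := by unfold Q2; infer_instance

theorem q2 (ε : F4) (hε : ε = 0 ∨ ε = F4.e) (b a c : F4) : Q2 ε b a c := by
  rcases hε with rfl | rfl
  · revert b a c; decide +kernel
  · revert b a c; decide +kernel

namespace MuTwo

variable {G : Type*} [Group G] {A R B P L : Subgroup G} {ρ : G} {ε : F4} {X Y Z : F4 → G} {s : G}
  {S : Sylow 2 G}
variable (h : MuTwo A R B P L ρ ε X Y Z s S)
include h

theorem sq_s (b a c : F4) : (Y b * X a * Z c * s) * (Y b * X a * Z c * s) =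
    Y (b + F4.fr b) * X (a + F4.fr a) * Z (c + F4.fr c + a * F4.fr b + ε * F4.fr (b * F4.fr b)) := by
  rw [← h.mul3, ← h.s3, h.s_inv]; group

theorem sq_s_eq_one {b a c : F4} (he : (Y b * X a * Z c * s) * (Y b * X a * Z c * s) = 1) :
    b + F4.fr b = 0 ∧ a + F4.fr a = 0 ∧ c + F4.fr c + a * F4.fr b + ε * F4.fr (b * F4.fr b) = 0 := by
  rw [h.sq_s, h.one3] at he
  exact h.inj3 he

/-- all involutions of `P s` are conjugate to `s` under `P` -/
theorem conj_s (hε : ε = 0 ∨ ε = F4.e) {p : G} (hp : p ∈ P) (hps : (p * s) * (p * s) = 1) :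
    ∃ q ∈ P, q⁻¹ * s * q = p * s := by
  obtain ⟨b, a, c, rfl⟩ := h.fr.P_surj p hp
  obtain ⟨h1, h2, h3⟩ := h.sq_s_eq_one hps
  obtain ⟨b', a', c', e1, e2, e3⟩ : ∃ b' a' c' : F4, b' + F4.fr b' = b ∧ a' + F4.fr a' = a ∧
      (c' + a' * b' + ε * F4.fr (b' * b')) + F4.fr c' + a' * F4.fr b' + ε * F4.fr (b' * F4.fr b') = c := by
    exact q2 ε hε b a c ⟨h1, h2, h3⟩
  refine ⟨Y b' * X a' * Z c', h.mem3 _ _ _, ?_⟩
  have e4 := h.s3 b' a' c'
  calc (Y b' * X a' * Z c')⁻¹ * s * (Y b' * X a' * Z c')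
      = (Y b' * X a' * Z c')⁻¹ * (s * (Y b' * X a' * Z c') * s⁻¹) * s := by group
    _ = Y b * X a * Z c * s := by
      rw [e4, h.inv3, h.mul3, e1, e2, e3]

theorem Zee : Z F4.e ≠ 1 := h.Z_ne (by decide)

/-- `s` is not conjugate to `X a`, `a ∈ {w, u}` -/
theorem not_conj_s [Finite G] (hε : ε = 0 ∨ ε = F4.e) {a : F4} (ha : a ≠ 0) (ha' : a ≠ F4.e) {g p : G}
    (hp : p ∈ P) (hg : g * X a * g⁻¹ = p * s) : False := by
  have hps : (p * s) * (p * s) = 1 := by
    rw [← hg]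
    calc g * X a * g⁻¹ * (g * X a * g⁻¹) = g * (X a * X a) * g⁻¹ := by group
      _ = 1 := by rw [h.XX]; group
  obtain ⟨q, hq, hqs⟩ := h.conj_s hε hp hps
  have hgs : (q * g) * X a * (q * g)⁻¹ = s := by
    calc (q * g) * X a * (q * g)⁻¹ = q * (g * X a * g⁻¹) * q⁻¹ := by group
      _ = q * (q⁻¹ * s * q) * q⁻¹ := by rw [hg, hqs]
      _ = s := by group
  -- the element `v = Y e X (e + ε)`
  set v := Y F4.e * X (F4.e + ε) * Z 0 with hv
  have hvs : v * s = s * v := by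
    have := h.s3 F4.e (F4.e + ε) 0
    have e : F4.fr (F4.e + ε) = F4.e + ε := by rcases hε with rfl | rfl <;> decide
    rw [e] at this
    have e2 : s * v * s⁻¹ = v := this
    rw [mul_inv_eq_iff_eq_mul] at e2
    exact e2.symm
  have hvv : v * v = Z F4.e := by
    rw [hv, h.sq3]
    congr 1
    rcases hε with rfl | rfl <;> decide
  have h4 : (v * v) * (v * v) = 1 := by rw [hvv]; exact h.ZZ _
  have := h.sq_of_conj ha ha' hgs hvs h4
  rw [hvv] at this
  exact h.Zee this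

/-- `X e` is not conjugate to `X a`, `a ∈ {w, u}` -/
theorem not_conj_Xe [Finite G] {a : F4} (ha : a ≠ 0) (ha' : a ≠ F4.e) {g : G}
    (hg : g * X a * g⁻¹ = X F4.e) : False := by
  have e1 : (X F4.w * s) * (X F4.w * s) = X F4.e := by
    have := h.sq_s 0 F4.w 0
    rw [h.fr.Y_zero, h.fr.Z_zero, one_mul, mul_one] at this
    rw [this]
    have : (0 : F4) + F4.fr 0 = 0 := by decide
    rw [this, h.fr.Y_zero, one_mul]
    have : (0 : F4) + F4.w * F4.fr 0 + ε * F4.fr (0 * F4.fr 0) = 0 := by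
      have : F4.fr 0 = 0 := by decide
      rw [this]; simp [this]
    rw [this, h.fr.Z_zero, mul_one]
    rfl
  have hcomm : (X F4.w * s) * X F4.e = X F4.e * (X F4.w * s) := by
    rw [← e1]; group
  have := h.sq_of_conj ha ha' hg hcomm (by rw [e1]; exact h.XX _)
  rw [e1] at this
  exact h.X_ne (by decide) this

theorem s_Q {a : F4} (ha : F4.fr a = a) : ∀ x ∈ h.Q a, s * x * s⁻¹ ∈ h.Q a := by
  rintro x ⟨b, y, c, hy, rfl⟩
  rw [h.s3]
  refine ⟨_, _, _, ?_, rfl⟩
  rcases hy with rfl | rfl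
  · left; decide
  · right; exact ha

theorem card_S [Finite G] : Nat.card (S : Subgroup G) = 128 := by
  have hsP : ∀ x ∈ P, s * x * s⁻¹ ∈ P := by
    intro x hx
    obtain ⟨b, a, c, rfl⟩ := h.fr.P_surj x hx
    rw [h.s3]; exact h.mem3 _ _ _
  have e : (S : Subgroup G) = ext P s h.ss hsP := by
    ext x
    rw [h.hS, mem_ext]
  rw [e, card_ext h.ss hsP h.s_not, h.dat.cardP]

/-- `X w ∉ L` -/
theorem X_not_mem [Finite G] (hε : ε = 0 ∨ ε = F4.e) (hE2 : NE2 A ε Y Z) {a : F4} (ha : a ≠ 0)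
    (ha' : a ≠ F4.e) : X a ∉ L := by
  intro hXL
  have hn := h.s_Q (a := F4.e) rfl
  have hsQ : s ∉ h.Q F4.e := fun hs => h.s_not (h.Q_le _ hs)
  have hle : ext (h.Q F4.e) s h.ss hn ≤ (S : Subgroup G) := by
    intro x hx
    rw [h.hS]
    rcases mem_ext.1 hx with h1 | h1
    · exact Or.inl (h.Q_le _ h1)
    · exact Or.inr (h.Q_le _ h1)
  have hi : (ext (h.Q F4.e) s h.ss hn).relIndex (S : Subgroup G) = 2 := by
    have e1 := relIndex_mul_relIndex ⊥ (ext (h.Q F4.e) s h.ss hn) (S : Subgroup G) bot_le hle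
    rw [relIndex_bot_left, relIndex_bot_left, card_ext h.ss hn hsQ, h.card_Q (by decide), h.card_S] at e1
    omega
  obtain ⟨g, hg⟩ := h.exists_conj S h.hSP _ hle hi ha hXL (by
    intro hx
    rcases mem_ext.1 hx with h1 | h1
    · obtain ⟨b, x, c, hx, he⟩ := h1
      have := h.inj3 (b := 0) (a := a) (c := 0) (b' := b) (a' := x) (c' := c)
        (by rw [h.fr.Y_zero, h.fr.Z_zero, one_mul, mul_one, he])
      rcases hx with rfl | rfl
      · exact ha this.2.1
      · exact ha' this.2.1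
    · apply h.s_not
      have : s = (X a)⁻¹ * (X a * s) := by group
      rw [this]
      exact mul_mem (inv_mem (h.Xmem a)) (h.Q_le _ h1))
  rcases mem_ext.1 hg with h1 | h1
  · rcases h.conj_mem_Q hε hE2 ha (by decide) h1 with ⟨n, hn⟩ | ⟨he, -, b, c, hb, hbc⟩
    · exact h.not_conj_Xe ha ha' hn
    · subst he
      -- the element `y = Y (w b) X w`
      have hcomm : (Y (F4.w * b) * X F4.w * Z 0) * (Y b * X F4.e * Z c) =
          (Y b * X F4.e * Z c) * (Y (F4.w * b) * X F4.w * Z 0) := by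
        rw [h.mul3, h.mul3]
        have k1 : ∀ b : F4, F4.w * b + b = b + F4.w * b := by decide
        have k2 : F4.w + F4.e = F4.e + F4.w := by decide
        have k3 : ∀ b c : F4, 0 + c + F4.w * b + F4.e * F4.fr (F4.w * b * b) =
            c + 0 + F4.e * (F4.w * b) + F4.e * F4.fr (b * (F4.w * b)) := by decide
        rw [k1, k2, k3]
      have hsq := h.sq3 (F4.w * b) F4.w 0
      have hsq' : (Y (F4.w * b) * X F4.w * Z 0) * (Y (F4.w * b) * X F4.w * Z 0) = Z b := by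
        rw [hsq]
        congr 1
        have kk : ∀ b : F4, F4.w * (F4.w * b) + F4.e * F4.fr (F4.w * b * (F4.w * b)) = b := by decide
        exact kk b
      have := h.sq_of_conj ha ha' hbc hcomm (by rw [hsq']; exact h.ZZ _)
      rw [hsq'] at this
      exact h.Z_ne hb this
  · have e : g * X a * g⁻¹ = (g * X a * g⁻¹ * s) * s := by rw [mul_assoc _ s s, h.ss, mul_one]
    exact h.not_conj_s hε ha ha' (h.Q_le _ h1) e

/-- commutators with elements of `R` lie in `L` -/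
theorem comm_L {g r : G} (hr : r ∈ R) : g * r * g⁻¹ * r⁻¹ ∈ L := by
  obtain ⟨l, hl, r', hr', rfl⟩ := h.gen g
  have e : r' * r = r * r' := h.dat.commR hr' hr
  have e2 : l * r' * r * (l * r')⁻¹ * r⁻¹ = l * (r * l⁻¹ * r⁻¹) := by
    calc l * r' * r * (l * r')⁻¹ * r⁻¹ = l * (r' * r) * r'⁻¹ * l⁻¹ * r⁻¹ := by group
      _ = _ := by rw [e]; group
  rw [e2]
  exact mul_mem hl (h.nor.conj_mem _ (inv_mem hl) _)

theorem Xe_mem : X F4.e ∈ L := by
  have h1 := h.comm_L (g := s) (h.fr.X_mem F4.w)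
  rw [h.sX, h.X_inv, ← h.fr.X_add] at h1
  exact h1

theorem X_L_iff [Finite G] (hε : ε = 0 ∨ ε = F4.e) (hE2 : NE2 A ε Y Z) {a : F4} :
    X a ∈ L ↔ a = 0 ∨ a = F4.e := by
  constructor
  · intro h1
    by_contra h2
    push Not at h2
    exact h.X_not_mem hε hE2 h2.1 h2.2 h1
  · rintro (rfl | rfl)
    · rw [h.fr.X_zero]; exact one_mem L
    · exact h.Xe_mem

/-- `s ∈ L` or `X w s ∈ L` -/
theorem s_cases : s ∈ L ∨ X F4.w * s ∈ L := by
  obtain ⟨l, hl, r, hr, he⟩ := h.gen s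
  obtain ⟨a, rfl⟩ := h.fr.X_surj r hr
  have h1 : X a * s ∈ L := by
    have e : X a * s = X a * l * (X a)⁻¹ := by
      rw [he, h.X_inv]; group
    rw [e]
    exact h.nor.conj_mem _ hl _
  cases a
  · left
    have e : X F4.o = 1 := h.fr.X_zero
    rwa [e, one_mul] at h1
  · left
    have e := mul_mem h.Xe_mem h1
    rwa [← mul_assoc, h.XX, one_mul] at e
  · right; exact h1
  · right
    have e := mul_mem h.Xe_mem h1
    rw [← mul_assoc, ← h.fr.X_add] at e
    exact e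

theorem P_L_iff [Finite G] (hε : ε = 0 ∨ ε = F4.e) (hE2 : NE2 A ε Y Z) {x : G} (hx : x ∈ P) :
    x ∈ L ↔ x ∈ h.Q F4.e := by
  obtain ⟨b, a, c, rfl⟩ := h.fr.P_surj x hx
  rw [h.mem_L3, h.X_L_iff hε hE2]
  constructor
  · intro h1; exact ⟨b, a, c, h1, rfl⟩
  · rintro ⟨b', a', c', h1, he⟩
    have := (h.inj3 he).2.1
    subst this
    exact h1

end MuTwo

end Cfsg.Agent.StdAlt.Five
end

-- part: StdAlt/Five/KillB2
section
set_option linter.all false
open scoped Cfsg.Agent.FastGrp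

/-!
# S1766, n = 5, `κ = 1`, `μ = 2`: `s ∈ L`; `E2 = 2^4` is impossible (B2)
-/

set_option autoImplicit false

namespace Cfsg.Agent.StdAlt.Five

open Subgroup Cfsg.Agent.StdAlt.Conj Cfsg.Agent.J2Sylow.Model

namespace KOne

variable {G : Type*} [Group G] {A R B P L : Subgroup G} {ρ : G} {ε : F4} {X Y Z : F4 → G}
variable (h : KOne A R B P L ρ ε X Y Z)
include h

theorem not_comm_L : ¬ ∀ x ∈ L, ∀ y ∈ L, x * y = y * x := by
  intro hc
  have h1 := hc ρ (h.A_le h.ρA) (Z F4.e) (h.ZL _)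
  have h2 := h.fr.ρZ F4.e
  rw [h1, mul_inv_cancel_right] at h2
  exact absurd (h.fr.Z_inj h2) (by decide)

theorem commutator_L : commutator L = ⊤ := by
  haveI := h.simple
  rcases (inferInstance : (commutator L).Normal).eq_bot_or_eq_top with hb | ht
  · exfalso
    rw [commutator_def, commutator_eq_bot_iff_le_centralizer] at hb
    apply h.not_comm_L
    intro x hx y hy
    have := mem_centralizer_iff.1 (hb (mem_top (⟨x, hx⟩ : L))) ⟨y, hy⟩ (mem_top _)
    exact (congrArg Subtype.val this).symm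
  · exact ht

theorem no_index_two [Finite G] (M : Subgroup L) (hM : M.Normal) : M.index ≠ 2 := by
  haveI := h.simple
  intro hi
  rcases hM.eq_bot_or_eq_top with hb | ht
  · rw [hb, index_bot] at hi
    have h4 : Nat.card B ∣ Nat.card L := card_dvd_of_le (h.B_le.trans h.A_le)
    rw [h.dat.cardB, hi] at h4
    omega
  · rw [ht, index_top] at hi; omega

end KOne

namespace MuTwo

variable {G : Type*} [Group G] {A R B P L : Subgroup G} {ρ : G} {ε : F4} {X Y Z : F4 → G} {s : G}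
  {S : Sylow 2 G}
variable (h : MuTwo A R B P L ρ ε X Y Z s S)
include h

theorem Q_normal (a : F4) (ha : F4.fr a = a) {y : G} (hy : y ∈ (S : Subgroup G)) {x : G} (hx : x ∈ h.Q a) :
    y * x * y⁻¹ ∈ h.Q a := by
  have key : ∀ p ∈ P, ∀ x ∈ h.Q a, p * x * p⁻¹ ∈ h.Q a := by
    rintro p hp x ⟨b', x', c', hx', rfl⟩
    obtain ⟨b, d, c, rfl⟩ := h.fr.P_surj p hp
    rw [h.inv3, h.mul3, h.mul3]
    refine ⟨_, _, _, ?_, rfl⟩
    have : d + x' + d = x' := by
      have k : ∀ d x' : F4, d + x' + d = x' := by decide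
      exact k d x'
    rw [this]; exact hx'
  rcases (h.hS y).1 hy with h1 | h1
  · exact key y h1 x hx
  · have e : y * x * y⁻¹ = (y * s) * (s * x * s⁻¹) * (y * s)⁻¹ := by
      have hs := h.s_inv
      calc y * x * y⁻¹ = y * 1 * x * 1 * y⁻¹ := by group
        _ = y * (s * s) * x * (s * s)⁻¹ * y⁻¹ := by rw [h.ss]; group
        _ = _ := by group
    rw [e]
    exact key _ h1 _ (h.s_Q ha x hx)

theorem exists_form {x : G} (hx : x ∈ (S : Subgroup G)) : ∃ p ∈ P, x = p ∨ x = p * s := by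
  rcases (h.hS x).1 hx with h1 | h1
  · exact ⟨x, h1, Or.inl rfl⟩
  · exact ⟨x * s, h1, Or.inr (by rw [mul_assoc, h.ss, mul_one])⟩

/-- `s ∈ L` -/
theorem s_mem_L [Finite G] (hε : ε = 0 ∨ ε = F4.e) (hE2 : NE2 A ε Y Z) : s ∈ L := by
  classical
  haveI : Fact (Nat.Prime 2) := ⟨Nat.prime_two⟩
  haveI := h.nor
  rcases h.s_cases with hs | hg
  · exact hs
  by_contra hsL
  set g := X F4.w * s with hgd
  have hgg : g * g = X F4.e := by
    have := h.sq_s 0 F4.w 0
    rw [h.fr.Y_zero, h.fr.Z_zero, one_mul, mul_one] at this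
    rw [hgd, this]
    have e1 : (0 : F4) + F4.fr 0 = 0 := by decide
    rw [e1, h.fr.Y_zero, one_mul]
    have e2 : (0 : F4) + F4.w * F4.fr 0 + ε * F4.fr (0 * F4.fr 0) = 0 := by
      have : F4.fr 0 = 0 := by decide
      rw [this]; simp [this]
    rw [e2, h.fr.Z_zero, mul_one]
    rfl
  have hgS : g ∈ (S : Subgroup G) := mul_mem (h.hSP (h.Xmem _)) h.s_mem
  have hXeQ : X F4.e ∈ h.Q F4.e := ⟨0, F4.e, 0, Or.inr rfl, by rw [h.fr.Y_zero, h.fr.Z_zero]; group⟩
  have hQL : h.Q F4.e ≤ L := by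
    rintro x ⟨b, a, c, ha, rfl⟩
    rw [h.mem_L3, h.X_L_iff hε hE2]; exact ha
  have hQS : h.Q F4.e ≤ (S : Subgroup G) := (h.Q_le _).trans h.hSP
  -- elements of `S ∩ L`
  have hform : ∀ x ∈ (S : Subgroup G), x ∈ L → x ∈ h.Q F4.e ∨ ∃ k ∈ h.Q F4.e, x = k * g := by
    intro x hx hxL
    obtain ⟨p, hp, rfl | rfl⟩ := h.exists_form hx
    · left; rwa [← h.P_L_iff hε hE2 hp]
    · right
      refine ⟨p * (X F4.w)⁻¹ , ?_, ?_⟩
      · rw [← h.P_L_iff hε hE2 (mul_mem hp (inv_mem (h.Xmem _)))]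
        have := mul_mem hxL (inv_mem hg)
        rw [hgd] at this
        convert this using 1
        group
      · rw [hgd]; group
  have hgQ : g ∉ h.Q F4.e := by
    intro h1
    apply h.s_not
    have : s = (X F4.w)⁻¹ * g := by rw [hgd]; group
    rw [this]
    exact mul_mem (inv_mem (h.Xmem _)) (h.Q_le _ h1)
  have hnK : ∀ y ∈ (S : Subgroup G), ∀ x ∈ h.Q F4.e, y * x * y⁻¹ ∈ h.Q F4.e :=
    fun y hy x hx => h.Q_normal F4.e rfl hy hx
  have hkgsq : ∀ k ∈ h.Q F4.e, (k * g) * (k * g) ≠ 1 := by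
    rintro k ⟨b, x, c, hx, rfl⟩ he
    have e1 : Y b * X x * Z c * g = Y b * X (x + F4.w) * Z c * s := by
      rw [hgd, h.fr.X_add]
      calc Y b * X x * Z c * (X F4.w * s) = Y b * X x * (Z c * X F4.w) * s := by group
        _ = _ := by rw [h.ZX]; group
    rw [e1] at he
    have := (h.sq_s_eq_one he).2.1
    rcases hx with rfl | rfl <;> exact absurd this (by decide)
  have hres := Cfsg.Agent.S1241.result (p := 2) ((S : Subgroup G).subgroupOf L) ((h.Q F4.e).subgroupOf L)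
    (fun x hx => hQS hx)
    (by
      constructor
      rintro ⟨x, hx⟩ hxQ ⟨y, hy⟩
      rw [mem_subgroupOf, mem_subgroupOf] at *
      exact hnK y (mem_subgroupOf.1 hy) x hxQ)
    (by
      rintro ⟨x, hxL⟩ hx ⟨y, hyL⟩ hy
      rw [mem_subgroupOf] at hx hy ⊢
      change x * y * x⁻¹ * y⁻¹ ∈ h.Q F4.e
      rcases hform x hx hxL with h1 | ⟨k1, hk1, rfl⟩
      · have e : x * y * x⁻¹ * y⁻¹ = x * (y * x⁻¹ * y⁻¹) := by group
        rw [e]
        exact mul_mem h1 (hnK y hy _ (inv_mem h1))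
      · rcases hform y hy hyL with h2 | ⟨k2, hk2, rfl⟩
        · exact mul_mem (hnK _ hx _ h2) (inv_mem h2)
        · have e : k1 * g * (k2 * g) * (k1 * g)⁻¹ * (k2 * g)⁻¹ = k1 * (g * (k2 * k1⁻¹) * g⁻¹) * k2⁻¹ := by
            group
          rw [e]
          exact mul_mem (mul_mem hk1 (hnK g hgS _ (mul_mem hk2 (inv_mem hk1)))) (inv_mem hk2))
    ((Nat.Prime.coprime_iff_not_dvd Nat.prime_two).2
      (Cfsg.Agent.Lib.SylowNormalInf.not_dvd_relIndex S L))
    ⟨g, hg⟩ hgS hgQ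
    (by
      have h4 : (⟨g, hg⟩ : L) ^ (2 ^ 2) = 1 := by
        apply Subtype.ext
        change g ^ 4 = 1
        calc g ^ 4 = (g * g) * (g * g) := by simp only [pow_succ, pow_zero, one_mul, mul_assoc]
          _ = 1 := by rw [hgg, h.XX]
      obtain ⟨k, -, hk⟩ := (Nat.dvd_prime_pow Nat.prime_two).1 (orderOf_dvd_of_pow_eq_one h4)
      exact ⟨k, hk⟩)
    (by
      rintro m ⟨a, haL⟩ hm
      rw [mem_subgroupOf] at hm ⊢
      change a * g ^ m * a⁻¹ ∈ (S : Subgroup G) at hm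
      change (a * g ^ m * a⁻¹) * (g ^ m)⁻¹ ∈ h.Q F4.e
      have hmL : a * g ^ m * a⁻¹ ∈ L := mul_mem (mul_mem haL (zpow_mem hg m)) (inv_mem haL)
      rcases Int.even_or_odd' m with ⟨j, hj | hj⟩
      · have e1 : g ^ m = (X F4.e) ^ j := by
          rw [hj, zpow_mul, ← hgg]; congr 1; exact zpow_two g
        have e2 : g ^ m ∈ h.Q F4.e := by rw [e1]; exact zpow_mem hXeQ j
        have e3 : (a * g ^ m * a⁻¹) * (a * g ^ m * a⁻¹) = 1 := by
          have : (X F4.e) ^ j * (X F4.e) ^ j = 1 := by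
            rw [← (Commute.refl (X F4.e)).mul_zpow, h.XX, one_zpow]
          calc (a * g ^ m * a⁻¹) * (a * g ^ m * a⁻¹) = a * (g ^ m * g ^ m) * a⁻¹ := by group
            _ = 1 := by rw [e1, this]; group
        rcases hform _ hm hmL with h1 | ⟨k, hk, he⟩
        · exact mul_mem h1 (inv_mem e2)
        · exfalso
          rw [he] at e3
          exact hkgsq k hk e3
      · have e1 : g ^ m = (X F4.e) ^ j * g := by
          rw [hj, zpow_add, zpow_one, zpow_mul, ← hgg]; congr 2; exact zpow_two g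
        have e0 : g ^ m * g ^ m = X F4.e := by
          have c : Commute ((X F4.e) ^ j) g := by
            apply Commute.zpow_left
            rw [← hgg]
            exact (Commute.refl g).mul_left (Commute.refl g)
          have : (X F4.e) ^ j * (X F4.e) ^ j = 1 := by
            rw [← (Commute.refl (X F4.e)).mul_zpow, h.XX, one_zpow]
          calc g ^ m * g ^ m = (X F4.e) ^ j * (g * (X F4.e) ^ j) * g := by rw [e1]; group
            _ = ((X F4.e) ^ j * (X F4.e) ^ j) * (g * g) := by rw [← c.eq]; group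
            _ = X F4.e := by rw [this, one_mul, hgg]
        rcases hform _ hm hmL with ⟨b, x, c, hx, he⟩ | ⟨k, hk, he⟩
        · exfalso
          have e2 : a * X F4.e * a⁻¹ = Z (x * b + ε * F4.fr (b * b)) := by
            rw [← h.sq3 b x c, ← he, ← e0]; group
          by_cases hz : x * b + ε * F4.fr (b * b) = 0
          · rw [hz, h.fr.Z_zero] at e2
            apply h.X_ne (show F4.e ≠ 0 by decide)
            calc X F4.e = a⁻¹ * (a * X F4.e * a⁻¹) * a := by group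
              _ = 1 := by rw [e2]; group
          · apply h.Z_nK hz a⁻¹
            rw [← e2]
            have : a⁻¹ * (a * X F4.e * a⁻¹) * a⁻¹⁻¹ = X F4.e := by group
            rw [this]
            exact h.XC _
        · rw [he, e1]
          have : k * g * (X F4.e ^ j * g)⁻¹ = k * (X F4.e ^ j)⁻¹ := by group
          rw [this]
          exact mul_mem hk (inv_mem (zpow_mem hXeQ j)))
  rw [h.commutator_L] at hres
  exact hres (mem_top _)

/-- the Sylow 2-subgroup `S ∩ L` of `L` -/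
theorem exists_sylow_L [Finite G] : ∃ T : Sylow 2 L, (T : Subgroup L) = (S : Subgroup G).subgroupOf L := by
  haveI : Fact (Nat.Prime 2) := ⟨Nat.prime_two⟩
  haveI := h.nor
  exact ⟨(Cfsg.Agent.Lib.SylowNormalInf.isPGroup_subgroupOf S L).toSylow
    (Cfsg.Agent.Lib.SylowNormalInf.not_dvd_relIndex S L), rfl⟩

/-- the elements of `S ∩ L` -/
theorem mem_S_L [Finite G] (hε : ε = 0 ∨ ε = F4.e) (hE2 : NE2 A ε Y Z) {x : G} :
    (x ∈ (S : Subgroup G) ∧ x ∈ L) ↔ x ∈ h.Q F4.e ∨ x * s ∈ h.Q F4.e := by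
  have hs := h.s_mem_L hε hE2
  constructor
  · rintro ⟨hx, hxL⟩
    rcases (h.hS x).1 hx with h1 | h1
    · left; rwa [← h.P_L_iff hε hE2 h1]
    · right
      rw [← h.P_L_iff hε hE2 h1]
      exact mul_mem hxL hs
  · rintro (h1 | h1)
    · exact ⟨h.hSP (h.Q_le _ h1), (h.P_L_iff hε hE2 (h.Q_le _ h1)).2 h1⟩
    · have h2 := (h.P_L_iff hε hE2 (h.Q_le _ h1)).2 h1
      refine ⟨(h.hS x).2 (Or.inr (h.Q_le _ h1)), ?_⟩
      have := mul_mem h2 (inv_mem hs)
      rwa [mul_inv_cancel_right] at this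

/-- **B2** (`hGold` is S1169 for the group `L`) -/
theorem false_of_elem [Finite G] (hε : ε = 0) (hE2 : NE2 A ε Y Z)
    (hGold : ∀ (T : Sylow 2 L) (A' : Subgroup L), A' ≠ ⊥ → IsMulCommutative A' →
      Cfsg.IsStronglyClosed A' (T : Subgroup L) →
        IsMulCommutative (T : Subgroup L) ∨ ∃ H : Subgroup L, Cfsg.IsStronglyEmbedded H) : False := by
  classical
  haveI : Fact (Nat.Prime 2) := ⟨Nat.prime_two⟩
  haveI := h.nor
  haveI := h.simple
  subst hε
  have hε : (0 : F4) = 0 ∨ (0 : F4) = F4.e := Or.inl rfl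
  obtain ⟨T, hT⟩ := h.exists_sylow_L
  have hsL := h.s_mem_L hε hE2
  have mT : ∀ {x : L}, x ∈ (T : Subgroup L) ↔ ((x : G) ∈ h.Q F4.e ∨ (x : G) * s ∈ h.Q F4.e) := by
    intro x
    rw [hT, mem_subgroupOf, ← h.mem_S_L hε hE2]
    exact ⟨fun h1 => ⟨h1, x.2⟩, fun h1 => h1.1⟩
  have hn0 := h.s_Q (a := 0) rfl
  have hne := h.s_Q (a := F4.e) rfl
  have hQ0e : h.Q 0 ≤ h.Q F4.e := by
    rintro x ⟨b, a, c, ha, rfl⟩
    exact ⟨b, a, c, Or.inl (by tauto), rfl⟩
  have hs0 : s ∉ h.Q 0 := fun h1 => h.s_not (h.Q_le _ h1)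
  have hse : s ∉ h.Q F4.e := fun h1 => h.s_not (h.Q_le _ h1)
  -- Thompson transfer in `L`
  set Q2 : Subgroup L := (ext (h.Q 0) s h.ss hn0).subgroupOf L with hQ2
  have mQ2 : ∀ {x : L}, x ∈ Q2 ↔ ((x : G) ∈ h.Q 0 ∨ (x : G) * s ∈ h.Q 0) := by
    intro x; rw [hQ2, mem_subgroupOf, mem_ext]
  have hQ2T : Q2 ≤ (T : Subgroup L) := by
    intro x hx
    rw [mT]
    rcases mQ2.1 hx with h1 | h1
    · exact Or.inl (hQ0e h1)
    · exact Or.inr (hQ0e h1)
  have hTe : (ext (h.Q F4.e) s h.ss hne).subgroupOf L = (T : Subgroup L) := by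
    ext x; rw [mT, mem_subgroupOf, mem_ext]
  have hle0 : ext (h.Q 0) s h.ss hn0 ≤ L := by
    intro x hx
    have : x ∈ h.Q F4.e ∨ x * s ∈ h.Q F4.e := by
      rcases mem_ext.1 hx with h1 | h1
      · exact Or.inl (hQ0e h1)
      · exact Or.inr (hQ0e h1)
    exact ((h.mem_S_L hε hE2).2 this).2
  have hlee : ext (h.Q F4.e) s h.ss hne ≤ L := fun x hx => ((h.mem_S_L hε hE2).2 (mem_ext.1 hx)).2
  have hi : Q2.relIndex (T : Subgroup L) = 2 := by
    have e1 := relIndex_mul_relIndex ⊥ Q2 (T : Subgroup L) bot_le hQ2T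
    rw [relIndex_bot_left, relIndex_bot_left, ← hTe, hQ2,
      Nat.card_congr (subgroupOfEquivOfLe hle0).toEquiv, Nat.card_congr (subgroupOfEquivOfLe hlee).toEquiv,
      card_ext h.ss hn0 hs0, card_ext h.ss hne hse, h.card_Q (a := F4.e) (by decide), h.card_E2] at e1
    rw [← hTe, hQ2]
    omega
  have hXe : (⟨X F4.e, h.Xe_mem⟩ : L) ∈ (T : Subgroup L) := by
    rw [mT]
    exact Or.inl ⟨0, F4.e, 0, Or.inr rfl, by rw [h.fr.Y_zero, h.fr.Z_zero]; group⟩
  have hXeQ2 : (⟨X F4.e, h.Xe_mem⟩ : L) ∉ Q2 := by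
    rw [mQ2]
    rintro (h1 | h1)
    · obtain ⟨b, c, he⟩ := h.mem_E2.1 h1
      have h2 : Y 0 * X F4.e * Z 0 = Y b * X 0 * Z c := by
        rw [h.fr.Y_zero, h.fr.Z_zero, h.fr.X_zero]
        change X F4.e = Y b * Z c at he
        rw [he]; group
      exact absurd (h.inj3 h2).2.1 (by decide)
    · apply h.s_not
      have e : s = (X F4.e)⁻¹ * (X F4.e * s) := by group
      rw [e]
      exact mul_mem (inv_mem (h.Xmem _)) (h.Q_le _ h1)
  have hord : orderOf (⟨X F4.e, h.Xe_mem⟩ : L) = 2 := by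
    rw [← Subgroup.orderOf_coe]
    exact h.orderOf_X (by decide)
  -- `E2` contains no involutions of type `K`
  have hE2K : ∀ x ∈ h.Q 0, x ≠ 1 → ∀ g : G, g * x * g⁻¹ ∉ C A := by
    intro x hx hx1 g
    obtain ⟨b, c, rfl⟩ := h.mem_E2.1 hx
    by_cases hb : b = 0
    · subst hb
      rw [h.fr.Y_zero, one_mul] at hx1 ⊢
      apply h.Z_nK
      rintro rfl
      exact hx1 h.fr.Z_zero
    · exact hE2 rfl b c g hb
  obtain ⟨g0, p, hp, hg0⟩ : ∃ g0 : G, ∃ p ∈ P, g0 * X F4.e * g0⁻¹ = p * s := by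
    rcases Cfsg.Agent.S0111.result T Q2 hQ2T hi _ hord hXe hXeQ2 with ⟨M, hM, hMi, -⟩ | ⟨g, hg⟩
    · exact absurd hMi (h.no_index_two M hM)
    · rcases mQ2.1 hg with h1 | h1
      · exfalso
        have e : (g : G)⁻¹ * ((g * ⟨X F4.e, h.Xe_mem⟩ * g⁻¹ : L) : G) * (g : G)⁻¹⁻¹ = X F4.e := by
          change (g : G)⁻¹ * ((g : G) * X F4.e * (g : G)⁻¹) * (g : G)⁻¹⁻¹ = X F4.e
          group
        apply hE2K _ h1 _ (g : G)⁻¹
        · rw [e]; exact h.XC _
        · intro h2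
          apply h.X_ne (show F4.e ≠ 0 by decide)
          rw [← e, h2]; group
      · refine ⟨g, _, h.Q_le _ h1, ?_⟩
        change (g : G) * X F4.e * (g : G)⁻¹ = _ * s * s
        rw [mul_assoc _ s s, h.ss, mul_one]
        rfl
  -- so all involutions of `P s` are of type `K`
  have hPs : ∀ p ∈ P, (p * s) * (p * s) = 1 → ∃ g : G, g * (p * s) * g⁻¹ ∈ C A := by
    intro p' hp' hp's
    have h1 : (p * s) * (p * s) = 1 := by
      rw [← hg0]
      calc g0 * X F4.e * g0⁻¹ * (g0 * X F4.e * g0⁻¹) = g0 * (X F4.e * X F4.e) * g0⁻¹ := by group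
        _ = 1 := by rw [h.XX]; group
    obtain ⟨q, hq, hqs⟩ := h.conj_s hε hp h1
    obtain ⟨q', hq', hqs'⟩ := h.conj_s hε hp' hp's
    refine ⟨g0⁻¹ * (q⁻¹ * q'), ?_⟩
    have : g0⁻¹ * (q⁻¹ * q') * (p' * s) * (g0⁻¹ * (q⁻¹ * q'))⁻¹ = X F4.e := by
      rw [← hqs']
      calc g0⁻¹ * (q⁻¹ * q') * (q'⁻¹ * s * q') * (g0⁻¹ * (q⁻¹ * q'))⁻¹
          = g0⁻¹ * (q⁻¹ * s * q) * g0 := by group
        _ = g0⁻¹ * (g0 * X F4.e * g0⁻¹) * g0 := by rw [hqs, hg0]
        _ = X F4.e := by group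
    rw [this]
    exact h.XC _
  -- `E2` is strongly closed
  have hE2c : Cfsg.IsStronglyClosed ((h.Q 0).subgroupOf L) (T : Subgroup L) := by
    constructor
    · intro x hx
      rw [mT]
      exact Or.inl (hQ0e (mem_subgroupOf.1 hx))
    · intro x hx g hg
      rw [mem_subgroupOf] at hx ⊢
      by_cases hx1 : (x : G) = 1
      · have : ((g * x * g⁻¹ : L) : G) = 1 := by
          change (g : G) * x * (g : G)⁻¹ = 1
          rw [hx1]; group
        rw [this]; exact one_mem _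
      · have hxx : (x : G) * x = 1 := by
          obtain ⟨b, c, he⟩ := h.mem_E2.1 hx
          rw [he, h.mul2, F4.add_self, F4.add_self, zero_mul, add_zero, h.fr.Y_zero, h.fr.Z_zero, one_mul]
        have hyy : ((g * x * g⁻¹ : L) : G) * ((g * x * g⁻¹ : L) : G) = 1 := by
          change (g : G) * x * (g : G)⁻¹ * ((g : G) * x * (g : G)⁻¹) = 1
          calc (g : G) * x * (g : G)⁻¹ * ((g : G) * x * (g : G)⁻¹) = g * ((x : G) * x) * (g : G)⁻¹ := by group
            _ = 1 := by rw [hxx]; group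
        have hyK : ∀ g' : G, g' * ((g * x * g⁻¹ : L) : G) * g'⁻¹ ∉ C A := by
          intro g' h1
          apply hE2K _ hx hx1 (g' * g)
          convert h1 using 1
          change g' * g * x * (g' * g)⁻¹ = g' * ((g : G) * x * (g : G)⁻¹) * g'⁻¹
          group
        rcases mT.1 hg with ⟨b, a, c, ha, he⟩ | h1
        · rcases ha with rfl | rfl
          · rw [he]; exact ⟨b, 0, c, Or.inl rfl, rfl⟩
          · exfalso
            rw [he, h.sq3_iff] at hyy
            have hb : b = 0 := by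
              have k : ∀ b : F4, F4.e * b + 0 * F4.fr (b * b) = 0 → b = 0 := by decide
              exact k b hyy
            subst hb
            obtain ⟨d, hd⟩ := h.exists_Y (show F4.e ≠ 0 by decide) c
            apply hyK (Y d)
            rw [he, h.fr.Y_zero, one_mul, ← hd]
            have : Y d * ((Y d)⁻¹ * X F4.e * Y d) * (Y d)⁻¹ = X F4.e := by group
            rw [this]; exact h.XC _
        · exfalso
          have e : ((g * x * g⁻¹ : L) : G) = (((g * x * g⁻¹ : L) : G) * s) * s := by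
            rw [mul_assoc _ s s, h.ss, mul_one]
          rw [e] at hyy
          obtain ⟨g', hg'⟩ := hPs _ (h.Q_le _ h1) hyy
          rw [← e] at hg'
          exact hyK g' hg'
  have hne1 : (h.Q 0).subgroupOf L ≠ ⊥ := by
    intro h1
    have h2 : (⟨Z F4.e, h.ZL _⟩ : L) ∈ (h.Q 0).subgroupOf L :=
      mem_subgroupOf.2 (h.mem_E2.2 ⟨0, F4.e, by rw [h.fr.Y_zero, one_mul]⟩)
    rw [h1, mem_bot] at h2
    exact h.Zee (congrArg Subtype.val h2)
  have hcm : IsMulCommutative ((h.Q 0).subgroupOf L) := ⟨⟨fun x y => by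
    apply Subtype.ext; apply Subtype.ext
    exact h.E2_comm (mem_subgroupOf.1 x.2) (mem_subgroupOf.1 y.2)⟩⟩
  rcases hGold T _ hne1 hcm hE2c with hc | ⟨H, hH⟩
  · -- `X e` and `Y e` do not commute
    have hYe : (⟨Y F4.e, h.YL _⟩ : L) ∈ (T : Subgroup L) := by
      rw [mT]
      exact Or.inl (hQ0e (h.mem_E2.2 ⟨F4.e, 0, by rw [h.fr.Z_zero, mul_one]⟩))
    have h1 := congrArg (fun t : (T : Subgroup L) => ((t : L) : G))
      (hc.is_comm.comm (⟨_, hXe⟩ : (T : Subgroup L)) ⟨_, hYe⟩)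
    have h2 : X F4.e * Y F4.e = Y F4.e * X F4.e := h1
    have h3 := h.fr.X_Y F4.e F4.e
    rw [h2] at h3
    have h4 : Z (F4.e * F4.e) = 1 := (left_eq_mul.1 h3)
    exact h.Z_ne (by decide) h4
  · have hZo : orderOf (⟨Z F4.e, h.ZL _⟩ : L) = 2 := by
      rw [← Subgroup.orderOf_coe]
      exact orderOf_eq_prime (by rw [pow_two]; exact h.ZZ _) h.Zee
    have h1 := Cfsg.Agent.TwoFusion.StronglyEmbeddedBasic.isConj_of_involutions hH _ _ hZo hord
    obtain ⟨g, hg⟩ := isConj_iff.1 h1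
    have h2 : (g : G) * Z F4.e * (g : G)⁻¹ = X F4.e := congrArg Subtype.val hg
    apply h.Z_nK (show F4.e ≠ 0 by decide) (g : G)
    rw [h2]; exact h.XC _

end MuTwo

end Cfsg.Agent.StdAlt.Five
end

-- part: StdAlt/Five/KillB4
section
set_option linter.all false
open scoped Cfsg.Agent.FastGrp

/-!
# S1766, n = 5, `κ = 1`, `μ = 2`, `E2 = 4 × 4`: `L` is the Mathieu group of degree 12 (B4)
-/

set_option autoImplicit false

namespace Cfsg.Agent.StdAlt.Five

open Subgroup Cfsg.Agent.StdAlt.Conj Cfsg.Agent.J2Sylow.Model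
open Cfsg.Agent.MTwelveType.SylowModel (bp)

/-- **B4** (`hM12` is S1741 for the group `L`) -/
theorem MuTwo.isoM12 {G : Type*} [Group G] [Finite G] {A R B P L : Subgroup G} {ρ : G} {X Y Z : F4 → G}
    {s : G} {S : Sylow 2 G} (h : MuTwo A R B P L ρ F4.e X Y Z s S)
    (hM12 : ∀ (T : Sylow 2 L) (U : Sylow 2 ↥Cfsg.Spor.M12),
      Nonempty (↥(T : Subgroup L) ≃* ↥(U : Subgroup ↥Cfsg.Spor.M12)) →
      (∃ x y : L, orderOf x = 2 ∧ orderOf y = 2 ∧ ¬ IsConj x y) → Cfsg.Spor.IsoM12 L) :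
    Cfsg.Spor.IsoM12 L := by
  classical
  haveI : Fact (Nat.Prime 2) := ⟨Nat.prime_two⟩
  haveI := h.nor
  have hε : F4.e = 0 ∨ F4.e = F4.e := Or.inr rfl
  have hE2 : NE2 A F4.e Y Z := fun h0 => absurd h0 (by decide)
  obtain ⟨T, hT⟩ := h.exists_sylow_L
  have mT : ∀ {x : L}, x ∈ (T : Subgroup L) ↔ ((x : G) ∈ h.Q F4.e ∨ (x : G) * s ∈ h.Q F4.e) := by
    intro x
    rw [hT, mem_subgroupOf, ← h.mem_S_L hε hE2]
    exact ⟨fun h1 => ⟨h1, x.2⟩, fun h1 => h1.1⟩
  have hs := h.s_inv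
  have hO : TwelveMap.Outer X Y Z s := by
    refine ⟨h.ss, ?_, ?_, ?_⟩
    · have := h.sX F4.e
      change s * X F4.e * s⁻¹ = X F4.e at this
      rw [mul_inv_eq_iff_eq_mul] at this
      exact this
    · intro b
      refine ⟨F4.fr b, 0, ?_⟩
      have := h.sY b
      rw [hs] at this
      rw [this, h.fr.Z_zero, mul_one]
    · refine ⟨F4.w, fun he => ?_⟩
      have := h.sZ F4.w
      rw [hs, he] at this
      exact absurd (h.fr.Z_inj this) (by decide)
  obtain ⟨φ, hφ, hr⟩ := TwelveMap.exists_hom_twelve h.dat h.fr hO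
  -- the range of `φ` is `S ∩ L`
  have hφr : ∀ x : G, x ∈ φ.range ↔ (x ∈ (S : Subgroup G) ∧ x ∈ L) := by
    intro x
    rw [hr, h.mem_S_L hε hE2]
    have hbp0 : ∀ g : G, bp g false = 1 := fun _ => rfl
    have hbp1 : ∀ g : G, bp g true = g := fun _ => rfl
    constructor
    · rintro ⟨b, c, s', t', rfl⟩
      cases s' <;> cases t'
      · left
        refine ⟨b, 0, c, Or.inl rfl, ?_⟩
        rw [hbp0, hbp0, h.fr.X_zero]; group
      · right
        refine ⟨b, 0, c, Or.inl rfl, ?_⟩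
        rw [hbp0, hbp1, h.fr.X_zero, one_mul, mul_assoc, h.ss]
        group
      · left
        refine ⟨b, F4.e, c, Or.inr rfl, ?_⟩
        rw [hbp0, hbp1, mul_one]
        calc Y b * Z c * X F4.e = Y b * (Z c * X F4.e) := by group
          _ = _ := by rw [h.ZX]; group
      · right
        refine ⟨b, F4.e, c, Or.inr rfl, ?_⟩
        rw [hbp1, hbp1]
        calc Y b * Z c * (X F4.e * s) * s = Y b * (Z c * X F4.e) * (s * s) := by group
          _ = _ := by rw [h.ZX, h.ss]; group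
    · rintro (⟨b, a, c, ha, he⟩ | ⟨b, a, c, ha, he⟩)
      · rcases ha with rfl | rfl
        · refine ⟨b, c, false, false, ?_⟩
          rw [hbp0, hbp0, he, h.fr.X_zero]; group
        · refine ⟨b, c, true, false, ?_⟩
          rw [hbp1, hbp0, he, mul_one]
          calc Y b * X F4.e * Z c = Y b * (X F4.e * Z c) := by group
            _ = _ := by rw [← h.ZX]; group
      · have hx : x = Y b * X a * Z c * s := by
          rw [← he, mul_assoc x, h.ss, mul_one]
        rcases ha with rfl | rfl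
        · refine ⟨b, c, false, true, ?_⟩
          rw [hbp0, hbp1, hx, h.fr.X_zero]; group
        · refine ⟨b, c, true, true, ?_⟩
          rw [hbp1, hbp1, hx]
          calc Y b * X F4.e * Z c * s = Y b * (X F4.e * Z c) * s := by group
            _ = _ := by rw [← h.ZX]; group
  have hmem : ∀ x, φ x ∈ L := fun x => ((hφr _).1 ⟨x, rfl⟩).2
  let f : Cfsg.Agent.ClassificationK.GTwoModel.T (2 * 2) →* (T : Subgroup L) :=
    { toFun := fun x => ⟨⟨φ x, hmem x⟩, by
        rw [mT, ← h.mem_S_L hε hE2]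
        exact (hφr _).1 ⟨x, rfl⟩⟩
      map_one' := by ext; simp
      map_mul' := by intro x y; ext; simp }
  have hf : Function.Bijective f := by
    constructor
    · intro x y hxy
      apply hφ
      exact congrArg (fun t : (T : Subgroup L) => ((t : L) : G)) hxy
    · rintro ⟨⟨y, hyL⟩, hyT⟩
      have h1 := (h.mem_S_L hε hE2).2 (mT.1 hyT)
      obtain ⟨x, hx⟩ := (hφr y).2 h1
      exact ⟨x, Subtype.ext (Subtype.ext hx)⟩
  obtain ⟨U⟩ : Nonempty (Sylow 2 ↥Cfsg.Spor.M12) := inferInstance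
  obtain ⟨e⟩ := Cfsg.Agent.MTwelveType.SylowModel.exists_equiv U
  refine hM12 T U ⟨(MulEquiv.ofBijective f hf).symm.trans e⟩ ?_
  refine ⟨⟨Z F4.e, h.ZL _⟩, ⟨X F4.e, h.Xe_mem⟩, ?_, ?_, ?_⟩
  · rw [← Subgroup.orderOf_coe]
    exact orderOf_eq_prime (by rw [pow_two]; exact h.ZZ _) h.Zee
  · rw [← Subgroup.orderOf_coe]
    exact h.orderOf_X (by decide)
  · intro h1
    obtain ⟨g, hg⟩ := isConj_iff.1 h1
    have h2 : (g : G) * Z F4.e * (g : G)⁻¹ = X F4.e := congrArg Subtype.val hg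
    apply h.Z_nK (show F4.e ≠ 0 by decide) (g : G)
    rw [h2]; exact h.XC _

end Cfsg.Agent.StdAlt.Five
end

-- part: StdAlt/Five/KOneOfSec4
section
set_option linter.all false
open scoped Cfsg.Agent.FastGrp

/-!
# S1766, n = 5, `κ = 1`: the kills B1 - B4 from the structures of `Sec4`

`LData A R L`: `L` is a normal simple subgroup of `G = L R` containing `A`.
* `b1`, `b3`: `μ = 1` is impossible;  `b2`: `μ = 2`, `ε = 0` is impossible;
* `b4`: `μ = 2`, `ε = e` leads to the Mathieu group of degree 12.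
* `kap1_mu1`, `kap1_mu2`: the same without distinction of `ε`.
-/

set_option autoImplicit false

namespace Cfsg.Agent.StdAlt.Five.Kill

open Subgroup Cfsg.Agent.StdAlt.Conj Cfsg.Agent.J2Sylow.Model Cfsg.Agent.StdAlt.Five
open Cfsg.Agent.StdAlt.Five.Sec4

/-- `L` is a normal simple subgroup of `G = L R` containing `A`. -/
structure LData {G : Type*} [Group G] (A R L : Subgroup G) : Prop where
  nor : L.Normal
  simple : IsSimpleGroup L
  A_le : A ≤ L
  gen : ∀ g : G, ∃ l ∈ L, ∃ r ∈ R, g = l * r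

theorem kOne_of {G : Type*} [Group G] [Finite G] {A R V P L : Subgroup G} {ρ : G} {ε : F4}
    {X Y Z : F4 → G} (B : Base A R V P ρ ε X Y Z) (κ : Kap1 A R) (hA : ¬ 8 ∣ Nat.card A)
    (D : LData A R L) : KOne A R V P L ρ ε X Y Z := by
  obtain ⟨g, od⟩ := B.odd
  exact
    { dat := B.data
      fr := B.frame
      te := od.te
      nK := od.nK
      R_le := od.R_le
      B_le := od.V_le
      ρA := od.ρ_mem
      cardA := hA
      cardK := od.card8
      CV := od.CV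
      κ := fun k hk hkR r hr => κ k hk (mem_N_of hkR) r hr
      nor := D.nor
      simple := D.simple
      A_le := D.A_le
      gen := D.gen }

theorem muOne_of {G : Type*} [Group G] [Finite G] {A R V P L : Subgroup G} {ρ : G} {ε : F4}
    {X Y Z : F4 → G} {S : Sylow 2 G} (B : Base A R V P ρ ε X Y Z) (κ : Kap1 A R)
    (hA : ¬ 8 ∣ Nat.card A) (D : LData A R L) (hμ : Mu1 A) (hS : (S : Subgroup G) = P) :
    MuOne A R V P L ρ ε X Y Z S where
  toKOne := kOne_of B κ hA D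
  hM := by
    intro m hm
    obtain ⟨a, ha, k, hk, rfl⟩ := hμ m hm
    exact ⟨k, hk, a, ha, (comm_of_C hk ha).symm⟩
  hS := hS

theorem muTwo_of {G : Type*} [Group G] [Finite G] {A R V P L : Subgroup G} {ρ : G} {ε : F4}
    {X Y Z : F4 → G} {s : G} {S : Sylow 2 G} (B : Base A R V P ρ ε X Y Z) (κ : Kap1 A R)
    (hA : ¬ 8 ∣ Nat.card A) (D : LData A R L) (hμ : Mu2 A ρ X Y Z s)
    (hM : ∀ m ∈ N A, (∃ a ∈ A, ∃ k ∈ C A, m = a * k) ∨ ∃ a ∈ A, ∃ k ∈ C A, m * s = a * k)
    (hS : ∀ x, x ∈ (S : Subgroup G) ↔ x ∈ P ∨ x * s ∈ P) :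
    MuTwo A R V P L ρ ε X Y Z s S := by
  have hs : s⁻¹ = s := inv_eq_iff_mul_eq_one.2 hμ.sq
  exact
    { toKOne := kOne_of B κ hA D
      sN := hμ.mem
      ss := hμ.sq
      s_not := by
        intro hsP
        have h1 := B.data.cent s hsP (Z F4.w) (B.frame.Z_mem _)
        have h2 := hμ.conjZ F4.w
        rw [h1, mul_assoc, hμ.sq, mul_one] at h2
        exact absurd (B.frame.Z_inj h2) (by decide)
      hM := by
        intro m hm
        rcases hM m hm with ⟨a, ha, k, hk, rfl⟩ | ⟨a, ha, k, hk, h1⟩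
        · exact ⟨k, hk, a, ha, Or.inl (comm_of_C hk ha).symm⟩
        · refine ⟨k, hk, a, ha, Or.inr ?_⟩
          rw [comm_of_C hk ha, ← h1, mul_assoc, hμ.sq, mul_one]
      sX := fun a => by rw [hs]; exact hμ.conjX a
      sY := fun a => by rw [hs]; exact hμ.conjY a
      sZ := fun a => by rw [hs]; exact hμ.conjZ a
      hS := hS }

theorem ne2_of {G : Type*} [Group G] {A R V P : Subgroup G} {ρ : G} {ε : F4} {X Y Z : F4 → G}
    (B : Base A R V P ρ ε X Y Z) (hn : ∀ b c, b ≠ 0 → ¬ KT A (Y b * Z c)) : NE2 A ε Y Z := by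
  rintro rfl b c g hb hg
  refine hn b c hb ⟨?_, ?_, g, hg⟩
  · intro h1
    have h2 : Y b * X 0 * Z c = Y 0 * X 0 * Z 0 := by
      rw [B.frame.X_zero, B.frame.Y_zero, B.frame.Z_zero, mul_one, mul_one, mul_one, h1]
    exact hb (B.frame.inj _ _ _ _ _ _ h2).1
  · have hc := B.data.cent _ (B.frame.Y_mem b) _ (B.frame.Z_mem c)
    have hz := B.data.sqB _ (B.frame.Z_mem c)
    have hy : Y b * Y b = 1 := by
      rw [B.frame.Y_mul, F4.add_self, zero_mul, B.frame.Y_zero, B.frame.Z_zero, mul_one]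
    calc Y b * Z c * (Y b * Z c) = Y b * (Z c * Y b) * Z c := by group
      _ = Y b * Y b * (Z c * Z c) := by rw [← hc]; group
      _ = 1 := by rw [hy, hz, mul_one]

variable {G : Type*} [Group G] [Finite G] {A R V P L : Subgroup G} {ρ : G} {ε : F4} {X Y Z : F4 → G}
  {s : G} {S : Sylow 2 G}

/-- **B1** -/
theorem b1 (B : Base A R V P ρ 0 X Y Z) (κ : Kap1 A R) (W : WC1 A R V P Y Z S)
    (hA : ¬ 8 ∣ Nat.card A) (D : LData A R L) : False :=
  (muOne_of B κ hA D W.mu1 W.eq).false_of_elem (ne2_of B W.nkt)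

/-- **B3** -/
theorem b3 (B : Base A R V P ρ F4.e X Y Z) (κ : Kap1 A R) (W : WC1 A R V P Y Z S)
    (hA : ¬ 8 ∣ Nat.card A) (D : LData A R L) : False :=
  (muOne_of B κ hA D W.mu1 W.eq).false_of_four

/-- **B1 + B3** -/
theorem kap1_mu1 (B : Base A R V P ρ ε X Y Z) (κ : Kap1 A R) (W : WC1 A R V P Y Z S)
    (hA : ¬ 8 ∣ Nat.card A) (D : LData A R L) : False := by
  rcases B.eps with rfl | rfl
  · exact b1 B κ W hA D
  · exact b3 B κ W hA D

/-- **B2** (`hGold` is S1169 for the group `L`) -/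
theorem b2 (B : Base A R V P ρ 0 X Y Z) (κ : Kap1 A R) (W : WC2 A R V P ρ X Y Z s S)
    (hA : ¬ 8 ∣ Nat.card A) (D : LData A R L)
    (hM : ∀ m ∈ N A, (∃ a ∈ A, ∃ k ∈ C A, m = a * k) ∨ ∃ a ∈ A, ∃ k ∈ C A, m * s = a * k)
    (hGold : ∀ (T : Sylow 2 L) (Q : Subgroup L), Q ≠ ⊥ → IsMulCommutative Q →
      Cfsg.IsStronglyClosed Q (T : Subgroup L) →
      IsMulCommutative (T : Subgroup L) ∨ ∃ H : Subgroup L, Cfsg.IsStronglyEmbedded H) : False :=
  (muTwo_of B κ hA D W.mu2 hM W.mem).false_of_elem rfl (ne2_of B W.nkt) hGold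

/-- **B4** (`hM12` is S1741 for the group `L`) -/
theorem b4 (B : Base A R V P ρ F4.e X Y Z) (κ : Kap1 A R) (W : WC2 A R V P ρ X Y Z s S)
    (hA : ¬ 8 ∣ Nat.card A) (D : LData A R L)
    (hM : ∀ m ∈ N A, (∃ a ∈ A, ∃ k ∈ C A, m = a * k) ∨ ∃ a ∈ A, ∃ k ∈ C A, m * s = a * k)
    (hM12 : ∀ (T : Sylow 2 L) (U : Sylow 2 ↥Cfsg.Spor.M12),
      Nonempty (↥(T : Subgroup L) ≃* ↥(U : Subgroup ↥Cfsg.Spor.M12)) →
      (∃ x y : L, orderOf x = 2 ∧ orderOf y = 2 ∧ ¬ IsConj x y) → Cfsg.Spor.IsoM12 L) :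
    Cfsg.Spor.IsoM12 L :=
  (muTwo_of B κ hA D W.mu2 hM W.mem).isoM12 hM12

/-- **B2 + B4** -/
theorem kap1_mu2 (B : Base A R V P ρ ε X Y Z) (κ : Kap1 A R) (W : WC2 A R V P ρ X Y Z s S)
    (hA : ¬ 8 ∣ Nat.card A) (D : LData A R L)
    (hM : ∀ m ∈ N A, (∃ a ∈ A, ∃ k ∈ C A, m = a * k) ∨ ∃ a ∈ A, ∃ k ∈ C A, m * s = a * k)
    (hGold : ∀ (T : Sylow 2 L) (Q : Subgroup L), Q ≠ ⊥ → IsMulCommutative Q →
      Cfsg.IsStronglyClosed Q (T : Subgroup L) →
      IsMulCommutative (T : Subgroup L) ∨ ∃ H : Subgroup L, Cfsg.IsStronglyEmbedded H)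
    (hM12 : ∀ (T : Sylow 2 L) (U : Sylow 2 ↥Cfsg.Spor.M12),
      Nonempty (↥(T : Subgroup L) ≃* ↥(U : Subgroup ↥Cfsg.Spor.M12)) →
      (∃ x y : L, orderOf x = 2 ∧ orderOf y = 2 ∧ ¬ IsConj x y) → Cfsg.Spor.IsoM12 L) :
    Cfsg.Spor.IsoM12 L := by
  rcases B.eps with rfl | rfl
  · exact (b2 B κ W hA D hM hGold).elim
  · exact b4 B κ W hA D hM hM12

end Cfsg.Agent.StdAlt.Five.Kill
end
end
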